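import Mathlib

set_option autoImplicit false

/-! Helper lemmas (helper43): elements of `SL_d(F)` with prescribed values on a linearly
independent family (up to one scalar), and explicit independent configurations for a non-scalar
matrix. -/

namespace Cfsg.Agent.H43

open Matrix

section ext

variable {F : Type*} [Field F] {d : ℕ}

/-- An invertible matrix mapping one linearly independent family to another. -/
theorem exists_matrix_map {k : ℕ} (u v : Fin k → (Fin d → F)) (hu : LinearIndependent F u)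
    (hv : LinearIndependent F v) :
    ∃ M : Matrix (Fin d) (Fin d) F, M.det ≠ 0 ∧ ∀ i, M *ᵥ u i = v i := by
  obtain ⟨g, hg⟩ := Submodule.exists_linearEquiv_restrict_eq
    (hu.linearCombinationEquiv.symm ≪≫ₗ hv.linearCombinationEquiv)
  refine ⟨LinearMap.toMatrix' (g : (Fin d → F) →ₗ[F] (Fin d → F)), ?_, ?_⟩
  · have h1 : LinearMap.toMatrix' (g : (Fin d → F) →ₗ[F] (Fin d → F)) *
        LinearMap.toMatrix' (g.symm : (Fin d → F) →ₗ[F] (Fin d → F)) = 1 := by
      rw [← LinearMap.toMatrix'_comp]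
      have : (g : (Fin d → F) →ₗ[F] (Fin d → F)) ∘ₗ (g.symm : (Fin d → F) →ₗ[F] (Fin d → F)) =
          LinearMap.id := by
        ext x
        simp
      rw [this, LinearMap.toMatrix'_id]
    exact Matrix.det_ne_zero_of_right_inverse h1
  · intro i
    have h1 : LinearMap.toMatrix' (g : (Fin d → F) →ₗ[F] (Fin d → F)) *ᵥ u i = g (u i) := by
      rw [← Matrix.toLin'_apply, Matrix.toLin'_toMatrix']
      rfl
    rw [h1]
    have hmem : u i ∈ Submodule.span F (Set.range u) := Submodule.subset_span (Set.mem_range_self i)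
    have h2 := hg ⟨u i, hmem⟩
    have h3 : hu.linearCombinationEquiv.symm ⟨u i, hmem⟩ = Finsupp.single i 1 := by
      rw [LinearEquiv.symm_apply_eq]
      apply Subtype.ext
      rw [LinearIndependent.linearCombinationEquiv_apply_coe, Finsupp.linearCombination_single,
        one_smul]
    rw [LinearEquiv.trans_apply, h3] at h2
    have h4 : ((hv.linearCombinationEquiv (Finsupp.single i 1) :
        Submodule.span F (Set.range v)) : Fin d → F) = v i := by
      rw [LinearIndependent.linearCombinationEquiv_apply_coe, Finsupp.linearCombination_single,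
        one_smul]
    rw [h4] at h2
    exact h2.symm

/-- An element of `SL_d(F)` mapping one linearly independent family to another, up to a scalar on
one chosen member. -/
theorem exists_SL_map {k : ℕ} (u v : Fin k → (Fin d → F)) (hu : LinearIndependent F u)
    (hv : LinearIndependent F v) (j₀ : Fin k) :
    ∃ (G : Matrix.SpecialLinearGroup (Fin d) F) (c : F), c ≠ 0 ∧
      ∀ i, (G : Matrix (Fin d) (Fin d) F) *ᵥ u i = if i = j₀ then c • v i else v i := by
  classical
  obtain ⟨M, hM, hMu⟩ := exists_matrix_map u v hu hv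
  have hk : k ≤ d := by
    have := hu.fintype_card_le_finrank
    simpa using this
  have hs : LinearIndependent F (fun i : Fin k => (Pi.single (Fin.castLE hk i) (1 : F) : Fin d → F)) := by
    have := (Pi.basisFun F (Fin d)).linearIndependent.comp (Fin.castLE hk) (Fin.castLE_injective hk)
    convert this using 2
    rw [Function.comp_apply, Pi.basisFun_apply]
  obtain ⟨M₁, -, hM₁⟩ := exists_matrix_map v _ hv hs
  obtain ⟨φ, hφdef⟩ : ∃ φ : Fin d → F, φ = fun j => M₁ (Fin.castLE hk j₀) j := ⟨_, rfl⟩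
  have hφ : ∀ i, φ ⬝ᵥ v i = if i = j₀ then 1 else 0 := by
    intro i
    have h1 : φ ⬝ᵥ v i = (M₁ *ᵥ v i) (Fin.castLE hk j₀) := by
      rw [hφdef]
      rfl
    rw [h1, hM₁, Pi.single_apply]
    by_cases h : i = j₀
    · rw [if_pos h, if_pos (by rw [h])]
    · rw [if_neg h, if_neg (fun e => h (Fin.castLE_injective hk e).symm)]
  obtain ⟨a, ha⟩ : ∃ a : F, a = (M.det)⁻¹ := ⟨_, rfl⟩
  have ha0 : a ≠ 0 := by
    rw [ha]
    exact inv_ne_zero hM
  obtain ⟨D, hD⟩ : ∃ D : Matrix (Fin d) (Fin d) F,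
      D = 1 + Matrix.vecMulVec ((a - 1) • v j₀) φ := ⟨_, rfl⟩
  have hdetD : D.det = a := by
    rw [hD, Matrix.vecMulVec_eq Unit, Matrix.det_one_add_replicateCol_mul_replicateRow,
      dotProduct_smul, hφ, if_pos rfl]
    simp
  have hDv : ∀ x : Fin d → F, D *ᵥ x = x + (φ ⬝ᵥ x) • ((a - 1) • v j₀) := by
    intro x
    rw [hD, Matrix.add_mulVec, Matrix.one_mulVec, Matrix.vecMulVec_mulVec, op_smul_eq_smul]
  refine ⟨⟨D * M, by rw [Matrix.det_mul, hdetD, ha]; exact inv_mul_cancel₀ hM⟩, a, ha0, ?_⟩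
  intro i
  change (D * M) *ᵥ u i = _
  rw [← Matrix.mulVec_mulVec, hMu, hDv, hφ]
  by_cases h : i = j₀
  · rw [if_pos h, if_pos h, h]
    module
  · rw [if_neg h, if_neg h, zero_smul, add_zero]

end ext

section ind

variable {F : Type*} [Field F] {d : ℕ}

/-- Linear independence of two vectors, in coefficient form. -/
def Ind2 (u v : Fin d → F) : Prop := ∀ a b : F, a • u + b • v = 0 → a = 0 ∧ b = 0

/-- Linear independence of three vectors, in coefficient form. -/
def Ind3 (u v w : Fin d → F) : Prop :=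
  ∀ a b c : F, a • u + b • v + c • w = 0 → a = 0 ∧ b = 0 ∧ c = 0

/-- Linear independence of four vectors, in coefficient form. -/
def Ind4 (u v w z : Fin d → F) : Prop :=
  ∀ a b c e : F, a • u + b • v + c • w + e • z = 0 → a = 0 ∧ b = 0 ∧ c = 0 ∧ e = 0

theorem Ind3.linearIndependent {u v w : Fin d → F} (h : Ind3 u v w) :
    LinearIndependent F ![u, v, w] := by
  rw [Fintype.linearIndependent_iff]
  intro g hg
  rw [Fin.sum_univ_three] at hg
  obtain ⟨h0, h1, h2⟩ := h (g 0) (g 1) (g 2) hg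
  intro i
  fin_cases i
  · exact h0
  · exact h1
  · exact h2

theorem Ind4.linearIndependent {u v w z : Fin d → F} (h : Ind4 u v w z) :
    LinearIndependent F ![u, v, w, z] := by
  rw [Fintype.linearIndependent_iff]
  intro g hg
  rw [Fin.sum_univ_four] at hg
  obtain ⟨h0, h1, h2, h3⟩ := h (g 0) (g 1) (g 2) (g 3) hg
  intro i
  fin_cases i
  · exact h0
  · exact h1
  · exact h2
  · exact h3

theorem ind3_of_linearIndependent {u v w : Fin d → F} (h : LinearIndependent F ![u, v, w]) :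
    Ind3 u v w := by
  rw [Fintype.linearIndependent_iff] at h
  intro a b c hrel
  have h1 := h ![a, b, c] (by
    rw [Fin.sum_univ_three]
    exact hrel)
  exact ⟨h1 0, h1 1, h1 2⟩

theorem ind4_of_linearIndependent {u v w z : Fin d → F}
    (h : LinearIndependent F ![u, v, w, z]) : Ind4 u v w z := by
  rw [Fintype.linearIndependent_iff] at h
  intro a b c e hrel
  have h1 := h ![a, b, c, e] (by
    rw [Fin.sum_univ_four]
    exact hrel)
  exact ⟨h1 0, h1 1, h1 2, h1 3⟩

theorem exists_ind3 (hd : 3 ≤ d) {u v : Fin d → F} (h : Ind2 u v) : ∃ w, Ind3 u v w := by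
  have h1 : LinearIndependent F ![u, v] := LinearIndependent.pair_iff.mpr h
  obtain ⟨x, hx⟩ := exists_linearIndependent_cons_of_lt_finrank h1 (by
    rw [Module.finrank_fin_fun]
    omega)
  have h2 : Ind3 x u v := ind3_of_linearIndependent hx
  refine ⟨x, ?_⟩
  intro a b c hrel
  obtain ⟨e1, e2, e3⟩ := h2 c a b (by linear_combination (norm := module) hrel)
  exact ⟨e2, e3, e1⟩

theorem exists_ind4 (hd : 4 ≤ d) {u v : Fin d → F} (h : Ind2 u v) : ∃ w z, Ind4 u v w z := by
  obtain ⟨w, hw⟩ := exists_ind3 (by omega) h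
  obtain ⟨x, hx⟩ := exists_linearIndependent_cons_of_lt_finrank hw.linearIndependent (by
    rw [Module.finrank_fin_fun]
    omega)
  have h2 : Ind4 x u v w := ind4_of_linearIndependent hx
  refine ⟨w, x, ?_⟩
  intro a b c e hrel
  obtain ⟨e1, e2, e3, e4⟩ := h2 e a b c (by linear_combination (norm := module) hrel)
  exact ⟨e2, e3, e4, e1⟩

/-- `v` is an eigenvector of the matrix `X` (with eigenvalue in `F`). -/
def IsEigVec (X : Matrix (Fin d) (Fin d) F) (v : Fin d → F) : Prop :=
  v ≠ 0 ∧ ∃ c : F, X *ᵥ v = c • v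

/-- A non-scalar matrix moves some vector off its line. -/
theorem exists_ind2_mulVec (X : Matrix (Fin d) (Fin d) F)
    (hns : ∀ r : F, X ≠ Matrix.scalar (Fin d) r) : ∃ v, Ind2 v (X *ᵥ v) := by
  by_contra H
  push Not at H
  obtain ⟨a, ha⟩ := LinearMap.exists_eq_smul_id_of_forall_notLinearIndependent
    (f := Matrix.toLin' X) (fun v => by
      rw [LinearIndependent.pair_iff, Matrix.toLin'_apply]
      exact H v)
  apply hns a
  apply Matrix.toLin'.injective
  rw [ha]
  ext x i
  simp [Matrix.scalar_apply, Pi.single_apply]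

end ind

section configs

variable {F : Type*} [Field F] {d : ℕ}

/-- Key configuration lemma: given `v` with `v, Xv` independent, `w` outside their span and an
eigenvector `e₀`, either some eigenvector lies outside the span of `v, Xv`, or some `e₂` outside
that span has `e₀, e₂, X e₂` independent. -/
theorem eig_ind3_aux (X : Matrix (Fin d) (Fin d) F) {v w e₀ : Fin d → F} {α : F}
    (hv : Ind2 v (X *ᵥ v)) (hw : Ind3 v (X *ᵥ v) w) (he₀ : e₀ ≠ 0) (hα : X *ᵥ e₀ = α • e₀) :
    (∃ e, IsEigVec X e ∧ Ind3 e v (X *ᵥ v)) ∨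
      (∃ e₂, Ind3 v (X *ᵥ v) e₂ ∧ Ind3 e₀ e₂ (X *ᵥ e₂)) := by
  by_cases H : ∃ e, IsEigVec X e ∧ Ind3 e v (X *ᵥ v)
  · exact Or.inl H
  right
  push Not at H
  have hU : ∀ e, IsEigVec X e → ∃ p r : F, e = p • v + r • X *ᵥ v := by
    intro e he
    have h1 := H e he
    unfold Ind3 at h1
    push Not at h1
    obtain ⟨a, b, c, hrel, hne⟩ := h1
    have ha : a ≠ 0 := by
      intro ha0
      rw [ha0, zero_smul, zero_add] at hrel
      obtain ⟨hb, hc⟩ := hv b c hrel
      exact hne ha0 hb hc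
    refine ⟨-(b / a), -(c / a), ?_⟩
    linear_combination (norm := skip) (1 / a) • hrel
    match_scalars <;> first | (field_simp; ring) | field_simp | ring
  obtain ⟨p₀, r₀, he₀U⟩ := hU e₀ ⟨he₀, α, hα⟩
  have S1 : ∀ w', Ind3 v (X *ᵥ v) w' → Ind3 e₀ w' (X *ᵥ w') ∨
      ∃ a : F, a ≠ 0 ∧ X *ᵥ w' = α • w' + a • e₀ := by
    intro w' hw'
    by_cases h3 : Ind3 e₀ w' (X *ᵥ w')
    · exact Or.inl h3
    right
    unfold Ind3 at h3
    push Not at h3
    obtain ⟨x, y, z, hrel, hne⟩ := h3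
    have hw'0 : w' ≠ 0 := by
      intro h0
      have := hw' 0 0 1 (by rw [h0]; module)
      exact one_ne_zero this.2.2
    have hz : z ≠ 0 := by
      intro hz0
      rw [hz0, zero_smul, add_zero] at hrel
      have h5 : (x * p₀) • v + (x * r₀) • X *ᵥ v + y • w' = 0 := by
        rw [he₀U] at hrel
        linear_combination (norm := module) hrel
      obtain ⟨-, -, h8⟩ := hw' _ _ _ h5
      rw [h8, zero_smul, add_zero] at hrel
      have hx : x = 0 := by
        rcases smul_eq_zero.mp hrel with h | h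
        · exact h
        · exact absurd h he₀
      exact hne hx h8 hz0
    obtain ⟨a, b, hab⟩ : ∃ a b : F, X *ᵥ w' = a • e₀ + b • w' := by
      refine ⟨-(x / z), -(y / z), ?_⟩
      linear_combination (norm := skip) (1 / z) • hrel
      match_scalars <;> first | (field_simp; ring) | field_simp | ring
    have hout : ∀ (e : Fin d → F) (c : F), IsEigVec X e → e = w' + c • e₀ → False := by
      intro e c he hec
      obtain ⟨p, r, hpr⟩ := hU e he
      have h5 : (c * p₀ - p) • v + (c * r₀ - r) • X *ᵥ v + (1 : F) • w' = 0 := by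
        rw [hec, he₀U] at hpr
        linear_combination (norm := module) hpr
      exact one_ne_zero (hw' _ _ _ h5).2.2
    have hbα : b = α := by
      by_contra hne'
      have hba : b - α ≠ 0 := sub_ne_zero.mpr hne'
      apply hout (w' + (a / (b - α)) • e₀) (a / (b - α)) ⟨?_, b, ?_⟩ rfl
      · intro h0
        have h5 : ((a / (b - α)) * p₀) • v + ((a / (b - α)) * r₀) • X *ᵥ v + (1 : F) • w' = 0 := by
          rw [he₀U] at h0
          linear_combination (norm := module) h0
        exact one_ne_zero (hw' _ _ _ h5).2.2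
      · rw [Matrix.mulVec_add, Matrix.mulVec_smul, hα, hab]
        match_scalars <;> first | (field_simp; ring) | field_simp | ring
    rw [hbα] at hab
    refine ⟨a, ?_, by rw [hab]; module⟩
    intro ha0
    apply hout w' 0 ⟨hw'0, α, ?_⟩ (by module)
    rw [hab, ha0]
    module
  rcases S1 w hw with h | ⟨a, ha, hXw⟩
  · exact ⟨w, hw, h⟩
  have hvw : Ind3 v (X *ᵥ v) (v + w) := by
    intro x y z hrel
    obtain ⟨h1, h2, h3⟩ := hw (x + z) y z (by linear_combination (norm := module) hrel)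
    refine ⟨?_, h2, h3⟩
    rw [h3, add_zero] at h1
    exact h1
  rcases S1 (v + w) hvw with h | ⟨a', ha', hXvw⟩
  · exact ⟨v + w, hvw, h⟩
  exfalso
  have hXv : X *ᵥ v = α • v + (a' - a) • e₀ := by
    rw [Matrix.mulVec_add, hXw] at hXvw
    linear_combination (norm := module) hXvw
  by_cases haa : a' = a
  · rw [haa, sub_self, zero_smul, add_zero] at hXv
    have := hv α (-1) (by rw [hXv]; module)
    exact one_ne_zero (neg_eq_zero.mp this.2)
  · have hd : a' - a ≠ 0 := sub_ne_zero.mpr haa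
    have he : IsEigVec X (w - (a / (a' - a)) • v) := by
      refine ⟨?_, α, ?_⟩
      · intro h0
        have := hw (-(a / (a' - a))) 0 1 (by rw [← h0]; module)
        exact one_ne_zero this.2.2
      · rw [Matrix.mulVec_sub, Matrix.mulVec_smul, hXw, hXv]
        match_scalars <;> first | (field_simp; ring) | field_simp | ring
    obtain ⟨p, r, hpr⟩ := hU _ he
    have := hw (-(a / (a' - a)) - p) (-r) 1 (by linear_combination (norm := module) hpr)
    exact one_ne_zero this.2.2

/-- A non-scalar matrix with an eigenvector (in dimension at least `3`) has an eigenvector `e` and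
a vector `e₂` with `e, e₂, X e₂` linearly independent. -/
theorem exists_eig_ind3 (hd : 3 ≤ d) (X : Matrix (Fin d) (Fin d) F)
    (hns : ∀ r : F, X ≠ Matrix.scalar (Fin d) r) {e₀ : Fin d → F} (he₀ : IsEigVec X e₀) :
    ∃ e e₂, IsEigVec X e ∧ Ind3 e e₂ (X *ᵥ e₂) := by
  obtain ⟨v, hv⟩ := exists_ind2_mulVec X hns
  obtain ⟨w, hw⟩ := exists_ind3 hd hv
  obtain ⟨he₀0, α, hα⟩ := he₀
  rcases eig_ind3_aux X hv hw he₀0 hα with ⟨e, he, h⟩ | ⟨e₂, -, h⟩
  · exact ⟨e, v, he, h⟩
  · exact ⟨e₀, e₂, ⟨he₀0, α, hα⟩, h⟩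

/-- In dimension `3`, a non-scalar matrix all of whose eigenvectors are proportional has a cyclic
vector. -/
theorem exists_cyclic3 (hd : d = 3) (X : Matrix (Fin d) (Fin d) F)
    (hns : ∀ r : F, X ≠ Matrix.scalar (Fin d) r)
    (H1 : ∀ e e', IsEigVec X e → IsEigVec X e' → ∃ r : F, e' = r • e) :
    ∃ y, Ind3 y (X *ᵥ y) (X *ᵥ (X *ᵥ y)) := by
  obtain ⟨v, hv⟩ := exists_ind2_mulVec X hns
  by_cases hcv : Ind3 v (X *ᵥ v) (X *ᵥ (X *ᵥ v))
  · exact ⟨v, hcv⟩
  obtain ⟨s, t, hst⟩ : ∃ s t : F, X *ᵥ (X *ᵥ v) = s • v + t • X *ᵥ v := by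
    unfold Ind3 at hcv
    push Not at hcv
    obtain ⟨a, b, c, hrel, hne⟩ := hcv
    have hc : c ≠ 0 := by
      intro hc0
      rw [hc0, zero_smul, add_zero] at hrel
      obtain ⟨ha, hb⟩ := hv a b hrel
      exact hne ha hb hc0
    refine ⟨-(a / c), -(b / c), ?_⟩
    linear_combination (norm := skip) (1 / c) • hrel
    match_scalars <;> first | (field_simp; ring) | field_simp | ring
  have hspan : ∀ y, Ind3 v (X *ᵥ v) y → ∀ z : Fin d → F,
      ∃ p r b : F, z = p • v + r • X *ᵥ v + b • y := by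
    intro y hy z
    have hli := hy.linearIndependent
    have hcard : Fintype.card (Fin 3) = Module.finrank F (Fin d → F) := by
      rw [Module.finrank_fin_fun, hd]
      rfl
    obtain ⟨bs, hbs⟩ : ∃ bs : Module.Basis (Fin 3) F (Fin d → F), ⇑bs = ![v, X *ᵥ v, y] :=
      ⟨basisOfLinearIndependentOfCardEqFinrank hli hcard,
        coe_basisOfLinearIndependentOfCardEqFinrank hli hcard⟩
    refine ⟨bs.repr z 0, bs.repr z 1, bs.repr z 2, ?_⟩
    have h1 := bs.sum_repr z
    rw [Fin.sum_univ_three, hbs] at h1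
    exact h1.symm
  have C1 : ∀ y, Ind3 v (X *ᵥ v) y → Ind3 y (X *ᵥ y) (X *ᵥ (X *ᵥ y)) ∨ IsEigVec X y ∨
      ∃ (z : Fin d → F) (p r b : F), IsEigVec X z ∧ z = p • v + r • X *ᵥ v ∧
        z = X *ᵥ y - b • y := by
    intro y hy
    by_cases hcy : Ind3 y (X *ᵥ y) (X *ᵥ (X *ᵥ y))
    · exact Or.inl hcy
    right
    have hy0 : y ≠ 0 := by
      intro h0
      have := hy 0 0 1 (by rw [h0]; module)
      exact one_ne_zero this.2.2
    by_cases hey : IsEigVec X y
    · exact Or.inl hey
    right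
    have hy2 : Ind2 y (X *ᵥ y) := by
      intro a b hrel
      by_contra hne
      have hb : b ≠ 0 := by
        intro hb0
        rw [hb0, zero_smul, add_zero] at hrel
        rcases smul_eq_zero.mp hrel with h | h
        · exact hne ⟨h, hb0⟩
        · exact hy0 h
      apply hey
      refine ⟨hy0, -(a / b), ?_⟩
      linear_combination (norm := skip) (1 / b) • hrel
      match_scalars <;> first | (field_simp; ring) | field_simp | ring
    obtain ⟨m, n, hmn⟩ : ∃ m n : F, X *ᵥ (X *ᵥ y) = m • y + n • X *ᵥ y := by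
      unfold Ind3 at hcy
      push Not at hcy
      obtain ⟨a, b, c, hrel, hne⟩ := hcy
      have hc : c ≠ 0 := by
        intro hc0
        rw [hc0, zero_smul, add_zero] at hrel
        obtain ⟨ha, hb⟩ := hy2 a b hrel
        exact hne ha hb hc0
      refine ⟨-(a / c), -(b / c), ?_⟩
      linear_combination (norm := skip) (1 / c) • hrel
      match_scalars <;> first | (field_simp; ring) | field_simp | ring
    obtain ⟨p, r, b, hXy⟩ := hspan y hy (X *ᵥ y)
    have e1 : p • v + r • X *ᵥ v = X *ᵥ y - b • y := by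
      rw [hXy]
      module
    refine ⟨p • v + r • X *ᵥ v, p, r, b, ⟨?_, n - b, ?_⟩, rfl, e1⟩
    · intro h0
      apply hey
      refine ⟨hy0, b, ?_⟩
      rw [hXy, h0, zero_add]
    · have hz1 : X *ᵥ (p • v + r • X *ᵥ v) = (r * s) • v + (p + r * t) • X *ᵥ v := by
        rw [Matrix.mulVec_add, Matrix.mulVec_smul, Matrix.mulVec_smul, hst]
        module
      have hz2 : X *ᵥ (p • v + r • X *ᵥ v) =
          (m + (n - b) * b) • y + (n - b) • (p • v + r • X *ᵥ v) := by
        have e2 : X *ᵥ (X *ᵥ y - b • y) = (m + (n - b) * b) • y + (n - b) • (X *ᵥ y - b • y) := by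
          rw [Matrix.mulVec_sub, Matrix.mulVec_smul, hmn]
          module
        rw [← e1] at e2
        exact e2
      have h5 := hy ((r * s) - (n - b) * p) ((p + r * t) - (n - b) * r) (-(m + (n - b) * b)) (by
        rw [hz1] at hz2
        linear_combination (norm := module) hz2)
      have h6 : m + (n - b) * b = 0 := neg_eq_zero.mp h5.2.2
      rw [hz2, h6, zero_smul, zero_add]
  obtain ⟨w, hw⟩ := exists_ind3 (by omega) hv
  by_cases hex : ∃ x₀, IsEigVec X x₀
  swap
  · rcases C1 w hw with h | h | ⟨z, _, _, _, hz, _⟩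
    · exact ⟨w, h⟩
    · exact absurd ⟨w, h⟩ hex
    · exact absurd ⟨z, hz⟩ hex
  obtain ⟨x₀, hx₀⟩ := hex
  obtain ⟨hx₀0, β, hβ⟩ := hx₀
  rcases eig_ind3_aux X hv hw hx₀0 hβ with ⟨e, he, h⟩ | ⟨e₂, he₂, h⟩
  · have hy : Ind3 v (X *ᵥ v) (e + v) := by
      intro a b c hrel
      obtain ⟨h1, h2, h3⟩ := h c (a + c) b (by linear_combination (norm := module) hrel)
      refine ⟨?_, h3, h1⟩
      rw [h1, add_zero] at h2
      exact h2
    rcases C1 (e + v) hy with hc | hc | ⟨z, p, r, b, hz, hzU, -⟩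
    · exact ⟨e + v, hc⟩
    · exfalso
      obtain ⟨r', hr'⟩ := H1 e (e + v) he hc
      have := h (1 - r') 1 0 (by linear_combination (norm := module) hr')
      exact one_ne_zero this.2.1
    · exfalso
      obtain ⟨r', hr'⟩ := H1 e z he hz
      have := h r' (-p) (-r) (by
        rw [hzU] at hr'
        linear_combination (norm := module) -hr')
      have hz0 : z = 0 := by rw [hr', this.1, zero_smul]
      exact hz.1 hz0
  · rcases C1 e₂ he₂ with hc | hc | ⟨z, p, r, b, hz, -, hzy⟩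
    · exact ⟨e₂, hc⟩
    · exfalso
      obtain ⟨r', hr'⟩ := H1 x₀ e₂ ⟨hx₀0, β, hβ⟩ hc
      have := h r' (-1) 0 (by rw [hr']; module)
      exact one_ne_zero (neg_eq_zero.mp this.2.1)
    · exfalso
      obtain ⟨r', hr'⟩ := H1 x₀ z ⟨hx₀0, β, hβ⟩ hz
      have := h r' b (-1) (by
        rw [hzy] at hr'
        linear_combination (norm := module) -hr')
      exact one_ne_zero (neg_eq_zero.mp this.2.2)

/-- In dimension at least `4`, a non-scalar matrix all of whose eigenvectors are proportional has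
two vectors `x₁, x₂` with `x₁, X x₁, x₂, X x₂` linearly independent. -/
theorem exists_ind4_pair (hd : 4 ≤ d) (X : Matrix (Fin d) (Fin d) F)
    (hns : ∀ r : F, X ≠ Matrix.scalar (Fin d) r)
    (H1 : ∀ e e', IsEigVec X e → IsEigVec X e' → ∃ r : F, e' = r • e) :
    ∃ x₁ x₂, Ind4 x₁ (X *ᵥ x₁) x₂ (X *ᵥ x₂) := by
  by_contra Hno
  push Not at Hno
  obtain ⟨v, hv⟩ := exists_ind2_mulVec X hns
  obtain ⟨w₁, w₂, hw⟩ := exists_ind4 hd hv
  have T1 : ∀ w, Ind3 v (X *ᵥ v) w → ∃ b p r : F, X *ᵥ w = b • w + p • v + r • X *ᵥ v := by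
    intro w hw3
    have h1 := Hno v w
    unfold Ind4 at h1
    push Not at h1
    obtain ⟨x, y, z, t, hrel, hne⟩ := h1
    have ht : t ≠ 0 := by
      intro ht0
      rw [ht0, zero_smul, add_zero] at hrel
      obtain ⟨h1, h2, h3⟩ := hw3 x y z hrel
      exact hne h1 h2 h3 ht0
    refine ⟨-(z / t), -(x / t), -(y / t), ?_⟩
    linear_combination (norm := skip) (1 / t) • hrel
    match_scalars <;> first | (field_simp; ring) | field_simp | ring
  have T3 : ∀ z₁ z₂, Ind4 v (X *ᵥ v) z₁ z₂ → ∃ b σ τ : F, (σ ≠ 0 ∨ τ ≠ 0) ∧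
      X *ᵥ (σ • z₁ + τ • z₂) = b • (σ • z₁ + τ • z₂) := by
    intro z₁ z₂ hz
    have hz₁ : Ind3 v (X *ᵥ v) z₁ := fun a b c h => by
      obtain ⟨h1, h2, h3, -⟩ := hz a b c 0 (by rw [zero_smul, add_zero]; exact h)
      exact ⟨h1, h2, h3⟩
    have hz₂ : Ind3 v (X *ᵥ v) z₂ := fun a b c h => by
      obtain ⟨h1, h2, -, h4⟩ := hz a b 0 c (by linear_combination (norm := module) h)
      exact ⟨h1, h2, h4⟩
    have hz₁₂ : Ind3 v (X *ᵥ v) (z₁ + z₂) := fun a b c h => by
      obtain ⟨h1, h2, h3, -⟩ := hz a b c c (by linear_combination (norm := module) h)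
      exact ⟨h1, h2, h3⟩
    obtain ⟨b₁, p₁, r₁, h₁⟩ := T1 z₁ hz₁
    obtain ⟨b₂, p₂, r₂, h₂⟩ := T1 z₂ hz₂
    obtain ⟨b₃, p₃, r₃, h₃⟩ := T1 (z₁ + z₂) hz₁₂
    have hcmp := hz (p₁ + p₂ - p₃) (r₁ + r₂ - r₃) (b₁ - b₃) (b₂ - b₃) (by
      rw [Matrix.mulVec_add, h₁, h₂] at h₃
      linear_combination (norm := module) h₃)
    have hb₁ : b₁ = b₃ := sub_eq_zero.mp hcmp.2.2.1
    have hb₂ : b₂ = b₃ := sub_eq_zero.mp hcmp.2.2.2
    have h2 := Hno z₁ z₂
    unfold Ind4 at h2
    push Not at h2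
    obtain ⟨x, y, z, t, hrel, hne⟩ := h2
    rw [h₁, h₂, hb₁, hb₂] at hrel
    obtain ⟨e1, e2, e3, e4⟩ := hz (y * p₁ + t * p₂) (y * r₁ + t * r₂) (x + y * b₃) (z + t * b₃)
      (by linear_combination (norm := module) hrel)
    refine ⟨b₃, y, t, ?_, ?_⟩
    · by_contra hyt
      push Not at hyt
      obtain ⟨hy0, ht0⟩ := hyt
      rw [hy0, zero_mul, add_zero] at e3
      rw [ht0, zero_mul, add_zero] at e4
      exact hne e3 hy0 e4 ht0
    · rw [Matrix.mulVec_add, Matrix.mulVec_smul, Matrix.mulVec_smul, h₁, h₂, hb₁, hb₂]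
      have h3 : (y * p₁ + t * p₂) • v + (y * r₁ + t * r₂) • X *ᵥ v = 0 := by
        rw [e1, e2, zero_smul, zero_smul, add_zero]
      linear_combination (norm := module) h3
  -- the pair `(w₁, w₂)`
  obtain ⟨b, σ, τ, hστ, he⟩ := T3 w₁ w₂ hw
  have heig : IsEigVec X (σ • w₁ + τ • w₂) := by
    refine ⟨?_, b, he⟩
    intro h0
    obtain ⟨-, -, h3, h4⟩ := hw 0 0 σ τ (by rw [zero_smul, zero_smul, zero_add, zero_add]; exact h0)
    rcases hστ with h | h
    · exact h h3
    · exact h h4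
  -- the pair `(w₁ + v, w₂)`
  have hw' : Ind4 v (X *ᵥ v) (w₁ + v) w₂ := fun a b c e h => by
    obtain ⟨h1, h2, h3, h4⟩ := hw (a + c) b c e (by linear_combination (norm := module) h)
    refine ⟨?_, h2, h3, h4⟩
    rw [h3, add_zero] at h1
    exact h1
  obtain ⟨b', σ', τ', hστ', he'⟩ := T3 (w₁ + v) w₂ hw'
  have heig' : IsEigVec X (σ' • (w₁ + v) + τ' • w₂) := by
    refine ⟨?_, b', he'⟩
    intro h0
    obtain ⟨-, -, h3, h4⟩ := hw' 0 0 σ' τ'
      (by rw [zero_smul, zero_smul, zero_add, zero_add]; exact h0)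
    rcases hστ' with h | h
    · exact h h3
    · exact h h4
  obtain ⟨ρ, hρ⟩ := H1 _ _ heig heig'
  have hc := hw σ' 0 (σ' - ρ * σ) (τ' - ρ * τ) (by linear_combination (norm := module) hρ)
  have hσ' : σ' = 0 := hc.1
  have hτ' : τ' ≠ 0 := by
    rcases hστ' with h | h
    · exact absurd hσ' h
    · exact h
  have hw₂0 : w₂ ≠ 0 := by
    intro h0
    have := hw 0 0 0 1 (by rw [h0]; module)
    exact one_ne_zero this.2.2.2
  have hw₂ : IsEigVec X w₂ := by
    refine ⟨hw₂0, b', ?_⟩
    rw [hσ', zero_smul, zero_add, Matrix.mulVec_smul] at he'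
    linear_combination (norm := skip) (1 / τ') • he'
    match_scalars <;> first | (field_simp; ring) | field_simp | ring
  -- the pair `(w₁, w₂ + v)`
  have hw'' : Ind4 v (X *ᵥ v) w₁ (w₂ + v) := fun a b c e h => by
    obtain ⟨h1, h2, h3, h4⟩ := hw (a + e) b c e (by linear_combination (norm := module) h)
    refine ⟨?_, h2, h3, h4⟩
    rw [h4, add_zero] at h1
    exact h1
  obtain ⟨b'', σ'', τ'', hστ'', he''⟩ := T3 w₁ (w₂ + v) hw''
  have heig'' : IsEigVec X (σ'' • w₁ + τ'' • (w₂ + v)) := by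
    refine ⟨?_, b'', he''⟩
    intro h0
    obtain ⟨-, -, h3, h4⟩ := hw'' 0 0 σ'' τ''
      (by rw [zero_smul, zero_smul, zero_add, zero_add]; exact h0)
    rcases hστ'' with h | h
    · exact h h3
    · exact h h4
  obtain ⟨ρ', hρ'⟩ := H1 _ _ heig heig''
  have hc' := hw τ'' 0 (σ'' - ρ' * σ) (τ'' - ρ' * τ) (by linear_combination (norm := module) hρ')
  have hτ'' : τ'' = 0 := hc'.1
  have hσ'' : σ'' ≠ 0 := by
    rcases hστ'' with h | h
    · exact h
    · exact absurd hτ'' h
  have hw₁0 : w₁ ≠ 0 := by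
    intro h0
    have := hw 0 0 1 0 (by rw [h0]; module)
    exact one_ne_zero this.2.2.1
  have hw₁ : IsEigVec X w₁ := by
    refine ⟨hw₁0, b'', ?_⟩
    rw [hτ'', zero_smul, add_zero, Matrix.mulVec_smul] at he''
    linear_combination (norm := skip) (1 / σ'') • he''
    match_scalars <;> first | (field_simp; ring) | field_simp | ring
  obtain ⟨ρ₀, hρ₀⟩ := H1 _ _ hw₁ hw₂
  have := hw 0 0 ρ₀ (-1) (by rw [hρ₀]; module)
  exact one_ne_zero (neg_eq_zero.mp this.2.2.2)

end configs

end Cfsg.Agent.H43
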