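import Mathlib

set_option autoImplicit false

/-! Helper lemmas (helper43): for a finite `2`-transitive permutation group, the average number of
fixed points of the products `g a g⁻¹ b`. -/

namespace Cfsg.Agent.H43

section avg

variable {G : Type*} [Group G] [Fintype G] [DecidableEq G]

/-- The number of fixed points of `x` on `Ω`. -/
def fixCount (Ω : Type*) [Fintype Ω] [DecidableEq Ω] [MulAction G Ω] (x : G) : ℕ :=
  (Finset.univ.filter (fun ω : Ω => x • ω = ω)).card

theorem fixCount_conj (Ω : Type*) [Fintype Ω] [DecidableEq Ω] [MulAction G Ω] (k x : G) :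
    fixCount Ω (k * x * k⁻¹) = fixCount Ω x := by
  unfold fixCount
  symm
  apply Finset.card_bij (fun ω _ => k • ω)
  · intro ω hω
    rw [Finset.mem_filter] at hω ⊢
    refine ⟨Finset.mem_univ _, ?_⟩
    rw [mul_smul, mul_smul, inv_smul_smul, hω.2]
  · intro ω₁ _ ω₂ _ h
    exact MulAction.injective k h
  · intro ω hω
    rw [Finset.mem_filter] at hω
    refine ⟨k⁻¹ • ω, ?_, smul_inv_smul k ω⟩
    rw [Finset.mem_filter]
    refine ⟨Finset.mem_univ _, ?_⟩
    have := hω.2
    rw [mul_smul, mul_smul] at this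
    rw [eq_inv_smul_iff]
    exact this

theorem fixCount_isConj (Ω : Type*) [Fintype Ω] [DecidableEq Ω] [MulAction G Ω] {x y : G}
    (h : IsConj x y) : fixCount Ω x = fixCount Ω y := by
  obtain ⟨c, hc⟩ := isConj_iff.mp h
  rw [← hc, fixCount_conj]

theorem fixCount_mul_comm (Ω : Type*) [Fintype Ω] [DecidableEq Ω] [MulAction G Ω] (x y : G) :
    fixCount Ω (x * y) = fixCount Ω (y * x) := by
  have : y * x = x⁻¹ * (x * y) * x⁻¹⁻¹ := by group
  rw [this, fixCount_conj]

/-- The fibres of `h ↦ h • x` over points of the orbit all have the size of the stabilizer. -/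
theorem card_filter_smul_eq {X : Type*} [MulAction G X] [DecidableEq X] (x y : X) (k : G)
    (hk : k • x = y) :
    (Finset.univ.filter (fun h : G => h • x = y)).card =
      (Finset.univ.filter (fun h : G => h • x = x)).card := by
  symm
  apply Finset.card_bij (fun h _ => k * h)
  · intro h hh
    rw [Finset.mem_filter] at hh ⊢
    refine ⟨Finset.mem_univ _, ?_⟩
    rw [mul_smul, hh.2, hk]
  · intro h₁ _ h₂ _ e
    exact mul_left_cancel e
  · intro h hh
    rw [Finset.mem_filter] at hh
    refine ⟨k⁻¹ * h, ?_, by group⟩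
    rw [Finset.mem_filter]
    refine ⟨Finset.mem_univ _, ?_⟩
    rw [mul_smul, hh.2, ← hk, inv_smul_smul]

variable {Ω : Type*} [Fintype Ω] [DecidableEq Ω] [MulAction G Ω]

/-- Orbit–stabilizer for a transitive action, in counting form. -/
theorem card_mul_card_stab (htrans : ∀ x y : Ω, ∃ k : G, k • x = y) (x : Ω) :
    Fintype.card Ω * (Finset.univ.filter (fun h : G => h • x = x)).card = Fintype.card G := by
  have h1 : Fintype.card G = ∑ y : Ω, (Finset.univ.filter (fun h : G => h • x = y)).card := by
    rw [← Finset.card_univ]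
    exact Finset.card_eq_sum_card_fiberwise (fun h _ => Finset.mem_univ _)
  rw [h1, Finset.sum_congr rfl (fun y _ => by
    obtain ⟨k, hk⟩ := htrans x y
    exact card_filter_smul_eq x y k hk), Finset.sum_const, Finset.card_univ, smul_eq_mul]

/-- Orbit–stabilizer for the action on ordered pairs of distinct points of a `2`-transitive
group. -/
theorem card_mul_card_stab_pair
    (h2 : ∀ x y x' y' : Ω, x ≠ y → x' ≠ y' → ∃ k : G, k • x = x' ∧ k • y = y')
    (x y : Ω) (hxy : x ≠ y) :
    Fintype.card Ω * (Fintype.card Ω - 1) *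
      (Finset.univ.filter (fun h : G => h • (x, y) = (x, y))).card = Fintype.card G := by
  have h1 : Fintype.card G =
      ∑ p : Ω × Ω, (Finset.univ.filter (fun h : G => h • (x, y) = p)).card := by
    rw [← Finset.card_univ]
    exact Finset.card_eq_sum_card_fiberwise (fun h _ => Finset.mem_univ _)
  have h3 : ∀ p : Ω × Ω, (Finset.univ.filter (fun h : G => h • (x, y) = p)).card =
      if p ∈ (Finset.univ : Finset Ω).offDiag then
        (Finset.univ.filter (fun h : G => h • (x, y) = (x, y))).card else 0 := by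
    intro p
    by_cases hp : p ∈ (Finset.univ : Finset Ω).offDiag
    · rw [if_pos hp]
      rw [Finset.mem_offDiag] at hp
      obtain ⟨k, hk1, hk2⟩ := h2 x y p.1 p.2 hxy hp.2.2
      exact card_filter_smul_eq (x, y) p k (Prod.ext hk1 hk2)
    · rw [if_neg hp, Finset.card_eq_zero, Finset.filter_eq_empty_iff]
      intro h _ hh
      apply hp
      rw [Finset.mem_offDiag]
      refine ⟨Finset.mem_univ _, Finset.mem_univ _, ?_⟩
      rw [← hh]
      intro e
      exact hxy (MulAction.injective h e)
  rw [h1, Finset.sum_congr rfl (fun p _ => h3 p), ← Finset.sum_filter, Finset.sum_const,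
    smul_eq_mul]
  have h4 : (Finset.univ.filter (fun p : Ω × Ω => p ∈ (Finset.univ : Finset Ω).offDiag)).card =
      Fintype.card Ω * (Fintype.card Ω - 1) := by
    rw [Finset.filter_mem_eq_inter, Finset.univ_inter, Finset.offDiag_card, Finset.card_univ,
      Nat.mul_sub, mul_one]
  rw [h4]

/-- The number of `h` with `a • (h • ω) = h • ω`, for a transitive action. -/
theorem card_filter_fix_smul (htrans : ∀ x y : Ω, ∃ k : G, k • x = y) (a : G) (ω : Ω) :
    Fintype.card Ω * (Finset.univ.filter (fun h : G => a • (h • ω) = h • ω)).card =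
      fixCount Ω a * Fintype.card G := by
  have h1 : (Finset.univ.filter (fun h : G => a • (h • ω) = h • ω)).card =
      ∑ η : Ω, ((Finset.univ.filter (fun h : G => a • (h • ω) = h • ω)).filter
        (fun h : G => h • ω = η)).card :=
    Finset.card_eq_sum_card_fiberwise (fun h _ => Finset.mem_univ _)
  have h2 : ∀ η : Ω, ((Finset.univ.filter (fun h : G => a • (h • ω) = h • ω)).filter
      (fun h : G => h • ω = η)).card =
      if a • η = η then (Finset.univ.filter (fun h : G => h • ω = ω)).card else 0 := by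
    intro η
    by_cases hη : a • η = η
    · rw [if_pos hη]
      obtain ⟨k, hk⟩ := htrans ω η
      rw [← card_filter_smul_eq ω η k hk]
      congr 1
      ext h
      simp only [Finset.mem_filter, Finset.mem_univ, true_and]
      constructor
      · exact fun hh => hh.2
      · intro hh
        exact ⟨by rw [hh]; exact hη, hh⟩
    · rw [if_neg hη, Finset.card_eq_zero, Finset.filter_eq_empty_iff]
      intro h hh hh'
      rw [Finset.mem_filter] at hh
      apply hη
      rw [← hh']
      exact hh.2
  rw [h1, Finset.sum_congr rfl (fun η _ => h2 η), ← Finset.sum_filter, Finset.sum_const,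
    smul_eq_mul, ← card_mul_card_stab htrans ω]
  unfold fixCount
  ring

/-- The number of `h` with `a • (h • ω') = h • ω`, `ω' ≠ ω`, for a `2`-transitive action. -/
theorem card_filter_move_smul
    (h2 : ∀ x y x' y' : Ω, x ≠ y → x' ≠ y' → ∃ k : G, k • x = x' ∧ k • y = y')
    (a : G) (ω' ω : Ω) (hne : ω' ≠ ω) :
    Fintype.card Ω * (Fintype.card Ω - 1) *
      (Finset.univ.filter (fun h : G => a • (h • ω') = h • ω)).card =
      (Fintype.card Ω - fixCount Ω a) * Fintype.card G := by
  have h1 : (Finset.univ.filter (fun h : G => a • (h • ω') = h • ω)).card =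
      ∑ p : Ω × Ω, ((Finset.univ.filter (fun h : G => a • (h • ω') = h • ω)).filter
        (fun h : G => h • (ω', ω) = p)).card :=
    Finset.card_eq_sum_card_fiberwise (fun h _ => Finset.mem_univ _)
  have h3 : ∀ p : Ω × Ω, ((Finset.univ.filter (fun h : G => a • (h • ω') = h • ω)).filter
      (fun h : G => h • (ω', ω) = p)).card =
      if a • p.1 = p.2 ∧ a • p.1 ≠ p.1 then
        (Finset.univ.filter (fun h : G => h • (ω', ω) = (ω', ω))).card else 0 := by
    intro p
    by_cases hp : a • p.1 = p.2 ∧ a • p.1 ≠ p.1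
    · rw [if_pos hp]
      have hp' : p.1 ≠ p.2 := by
        intro e
        apply hp.2
        rw [hp.1, e]
      obtain ⟨k, hk1, hk2⟩ := h2 ω' ω p.1 p.2 hne hp'
      rw [← card_filter_smul_eq (ω', ω) p k (Prod.ext hk1 hk2)]
      congr 1
      ext h
      simp only [Finset.mem_filter, Finset.mem_univ, true_and]
      constructor
      · exact fun hh => hh.2
      · intro hh
        refine ⟨?_, hh⟩
        have e1 : h • ω' = p.1 := congrArg Prod.fst hh
        have e2 : h • ω = p.2 := congrArg Prod.snd hh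
        rw [e1, e2]
        exact hp.1
    · rw [if_neg hp, Finset.card_eq_zero, Finset.filter_eq_empty_iff]
      intro h hh hh'
      rw [Finset.mem_filter] at hh
      apply hp
      have e1 : h • ω' = p.1 := congrArg Prod.fst hh'
      have e2 : h • ω = p.2 := congrArg Prod.snd hh'
      rw [← e1, ← e2]
      refine ⟨hh.2, ?_⟩
      rw [hh.2]
      intro e
      exact hne (MulAction.injective h e).symm
  have h4 : (Finset.univ.filter (fun p : Ω × Ω => a • p.1 = p.2 ∧ a • p.1 ≠ p.1)).card =
      Fintype.card Ω - fixCount Ω a := by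
    have e1 : (Finset.univ.filter (fun p : Ω × Ω => a • p.1 = p.2 ∧ a • p.1 ≠ p.1)).card =
        (Finset.univ.filter (fun η : Ω => ¬ a • η = η)).card := by
      symm
      apply Finset.card_bij (fun η _ => (η, a • η))
      · intro η hη
        rw [Finset.mem_filter] at hη ⊢
        exact ⟨Finset.mem_univ _, rfl, hη.2⟩
      · intro η₁ _ η₂ _ e
        exact congrArg Prod.fst e
      · intro p hp
        rw [Finset.mem_filter] at hp
        refine ⟨p.1, ?_, Prod.ext rfl hp.2.1⟩
        rw [Finset.mem_filter]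
        exact ⟨Finset.mem_univ _, hp.2.2⟩
    rw [e1, Finset.filter_not, Finset.card_sdiff_of_subset (Finset.filter_subset _ _),
      Finset.card_univ]
    rfl
  rw [h1, Finset.sum_congr rfl (fun p _ => h3 p), ← Finset.sum_filter, Finset.sum_const,
    smul_eq_mul, h4, ← card_mul_card_stab_pair h2 ω' ω hne]
  ring

/-- **Averaging identity**: for a `2`-transitive action of a finite group on `n` points,
`n (n - 1) Σ_g fix(g a g⁻¹ b) = |G| ((n - 1) fix(a) fix(b) + (n - fix(a)) (n - fix(b)))`. -/
theorem sum_fixCount_conj_mul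
    (h2 : ∀ x y x' y' : Ω, x ≠ y → x' ≠ y' → ∃ k : G, k • x = x' ∧ k • y = y')
    (hn : 2 ≤ Fintype.card Ω) (a b : G) :
    Fintype.card Ω * (Fintype.card Ω - 1) * ∑ g : G, fixCount Ω (g * a * g⁻¹ * b) =
      Fintype.card G * ((Fintype.card Ω - 1) * (fixCount Ω a * fixCount Ω b) +
        (Fintype.card Ω - fixCount Ω a) * (Fintype.card Ω - fixCount Ω b)) := by
  have htrans : ∀ x y : Ω, ∃ k : G, k • x = y := by
    intro x y
    by_cases hxy : x = y
    · exact ⟨1, by rw [one_smul, hxy]⟩
    · obtain ⟨z, hz⟩ : ∃ z : Ω, z ≠ x := by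
        by_contra hall
        push Not at hall
        have : Fintype.card Ω ≤ 1 := Fintype.card_le_one_iff.mpr (fun u v => by
          rw [hall u, hall v])
        omega
      obtain ⟨z', hz'⟩ : ∃ z' : Ω, z' ≠ y := by
        by_contra hall
        push Not at hall
        have : Fintype.card Ω ≤ 1 := Fintype.card_le_one_iff.mpr (fun u v => by
          rw [hall u, hall v])
        omega
      obtain ⟨k, hk, -⟩ := h2 x z y z' (Ne.symm hz) (Ne.symm hz')
      exact ⟨k, hk⟩
  -- swap the sums
  have e1 : ∑ g : G, fixCount Ω (g * a * g⁻¹ * b) =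
      ∑ ω : Ω, (Finset.univ.filter (fun h : G => a • (h • (b • ω)) = h • ω)).card := by
    unfold fixCount
    simp_rw [Finset.card_filter]
    rw [Finset.sum_comm]
    refine Finset.sum_congr rfl fun ω _ => ?_
    refine Finset.sum_bij' (fun g _ => g⁻¹) (fun g _ => g⁻¹) (fun _ _ => Finset.mem_univ _)
      (fun _ _ => Finset.mem_univ _) (fun g _ => inv_inv g) (fun g _ => inv_inv g) ?_
    intro g _
    have : (g * a * g⁻¹ * b) • ω = ω ↔ a • g⁻¹ • b • ω = g⁻¹ • ω := by
      rw [mul_smul, mul_smul, mul_smul, eq_inv_smul_iff]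
    simp only [this]
  rw [e1, Finset.mul_sum]
  have e2 : ∀ ω : Ω, Fintype.card Ω * (Fintype.card Ω - 1) *
      (Finset.univ.filter (fun h : G => a • (h • (b • ω)) = h • ω)).card =
      if b • ω = ω then (Fintype.card Ω - 1) * (fixCount Ω a * Fintype.card G)
      else (Fintype.card Ω - fixCount Ω a) * Fintype.card G := by
    intro ω
    by_cases hω : b • ω = ω
    · rw [if_pos hω, hω, ← card_filter_fix_smul htrans a ω]
      ring
    · rw [if_neg hω]
      exact card_filter_move_smul h2 a (b • ω) ω hω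
  rw [Finset.sum_congr rfl (fun ω _ => e2 ω), Finset.sum_ite, Finset.sum_const, Finset.sum_const,
    smul_eq_mul, smul_eq_mul]
  have e3 : (Finset.univ.filter (fun ω : Ω => b • ω = ω)).card = fixCount Ω b := rfl
  have e4 : (Finset.univ.filter (fun ω : Ω => ¬ b • ω = ω)).card =
      Fintype.card Ω - fixCount Ω b := by
    rw [Finset.filter_not, Finset.card_sdiff_of_subset (Finset.filter_subset _ _),
      Finset.card_univ]
    rfl
  rw [e3, e4]
  ring

/-- If all products `g a g⁻¹ b` have the same number `f` of fixed points, then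
`(n - 1) (f - 1) = (fix(a) - 1) (fix(b) - 1)`. -/
theorem fixCount_const_identity
    (h2 : ∀ x y x' y' : Ω, x ≠ y → x' ≠ y' → ∃ k : G, k • x = x' ∧ k • y = y')
    (hn : 2 ≤ Fintype.card Ω) (a b : G) (f : ℕ)
    (hf : ∀ g : G, fixCount Ω (g * a * g⁻¹ * b) = f) :
    ((Fintype.card Ω : ℤ) - 1) * ((f : ℤ) - 1) =
      ((fixCount Ω a : ℤ) - 1) * ((fixCount Ω b : ℤ) - 1) := by
  have key := sum_fixCount_conj_mul h2 hn a b
  rw [Finset.sum_congr rfl (fun g _ => hf g), Finset.sum_const, Finset.card_univ,
    smul_eq_mul] at key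
  have hG : 0 < Fintype.card G := Fintype.card_pos
  have ha : fixCount Ω a ≤ Fintype.card Ω := by
    unfold fixCount
    exact Finset.card_le_univ _
  have hb : fixCount Ω b ≤ Fintype.card Ω := by
    unfold fixCount
    exact Finset.card_le_univ _
  have key' : (Fintype.card Ω : ℤ) * ((Fintype.card Ω : ℤ) - 1) *
      ((Fintype.card G : ℤ) * (f : ℤ)) =
      (Fintype.card G : ℤ) * (((Fintype.card Ω : ℤ) - 1) *
        ((fixCount Ω a : ℤ) * (fixCount Ω b : ℤ)) +
        ((Fintype.card Ω : ℤ) - (fixCount Ω a : ℤ)) *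
          ((Fintype.card Ω : ℤ) - (fixCount Ω b : ℤ))) := by
    have := congrArg (Nat.cast : ℕ → ℤ) key
    push_cast [Nat.cast_sub ha, Nat.cast_sub hb, Nat.cast_sub (show 1 ≤ Fintype.card Ω by omega)]
      at this
    exact this
  have hG' : (Fintype.card G : ℤ) ≠ 0 := by exact_mod_cast hG.ne'
  have hn' : (Fintype.card Ω : ℤ) ≠ 0 := by
    have : 0 < Fintype.card Ω := by omega
    exact_mod_cast this.ne'
  apply mul_left_cancel₀ hn'
  apply mul_left_cancel₀ hG'
  linear_combination key'

end avg

section nfix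

variable {G : Type*} [Group G]

/-- The number of fixed points of `x` on `Ω` (as a `Nat.card`). -/
noncomputable def nfix (Ω : Type*) [MulAction G Ω] (x : G) : ℕ :=
  Nat.card {ω : Ω // x • ω = ω}

theorem nfix_eq_fixCount (Ω : Type*) [Fintype Ω] [DecidableEq Ω] [MulAction G Ω] (x : G) :
    nfix Ω x = fixCount Ω x := by
  unfold nfix fixCount
  rw [Nat.card_eq_fintype_card, Fintype.card_subtype]

theorem nfix_le (Ω : Type*) [Finite Ω] [MulAction G Ω] (x : G) : nfix Ω x ≤ Nat.card Ω :=
  Nat.card_le_card_of_injective _ Subtype.val_injective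

theorem nfix_isConj (Ω : Type*) [Finite Ω] [MulAction G Ω] {x y : G} (h : IsConj x y) :
    nfix Ω x = nfix Ω y := by
  classical
  have := Fintype.ofFinite Ω
  rw [nfix_eq_fixCount, nfix_eq_fixCount]
  obtain ⟨c, hc⟩ := isConj_iff.mp h
  rw [← hc]
  unfold fixCount
  symm
  apply Finset.card_bij (fun ω _ => c⁻¹ • ω)
  · intro ω hω
    rw [Finset.mem_filter] at hω ⊢
    refine ⟨Finset.mem_univ _, ?_⟩
    have := hω.2
    rw [mul_smul, mul_smul] at this
    rw [eq_inv_smul_iff]
    exact this
  · intro ω₁ _ ω₂ _ h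
    exact MulAction.injective c⁻¹ h
  · intro ω hω
    rw [Finset.mem_filter] at hω
    refine ⟨c • ω, ?_, inv_smul_smul c ω⟩
    rw [Finset.mem_filter]
    refine ⟨Finset.mem_univ _, ?_⟩
    rw [mul_smul, mul_smul, inv_smul_smul, hω.2]

theorem nfix_mul_comm (Ω : Type*) [Finite Ω] [MulAction G Ω] (x y : G) :
    nfix Ω (x * y) = nfix Ω (y * x) := by
  apply nfix_isConj
  rw [isConj_iff]
  exact ⟨x⁻¹, by group⟩

/-- If all products `g a g⁻¹ b` have the same number `f` of fixed points in a finite
`2`-transitive permutation group of degree `n`, then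
`(n - 1) (f - 1) = (fix(a) - 1) (fix(b) - 1)`. -/
theorem nfix_const_identity [Finite G] {Ω : Type*} [Finite Ω] [MulAction G Ω]
    (h2 : ∀ x y x' y' : Ω, x ≠ y → x' ≠ y' → ∃ k : G, k • x = x' ∧ k • y = y')
    (hn : 2 ≤ Nat.card Ω) (a b : G) (f : ℕ)
    (hf : ∀ g : G, nfix Ω (g * a * g⁻¹ * b) = f) :
    ((Nat.card Ω : ℤ) - 1) * ((f : ℤ) - 1) =
      ((nfix Ω a : ℤ) - 1) * ((nfix Ω b : ℤ) - 1) := by
  classical
  have := Fintype.ofFinite Ω
  have := Fintype.ofFinite G
  rw [nfix_eq_fixCount, nfix_eq_fixCount, Nat.card_eq_fintype_card]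
  rw [Nat.card_eq_fintype_card] at hn
  exact fixCount_const_identity h2 hn a b f (fun g => by rw [← nfix_eq_fixCount]; exact hf g)

end nfix

end Cfsg.Agent.H43
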