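import Mathlib
import Cfsg.Agent.H43.TwoTransAvg
import Cfsg.Agent.H43.SLExt

set_option autoImplicit false

/-! Helper lemmas (helper43): fixed points of elements of `PSL_d(F)` on projective space versus
eigenvectors of their matrices; bounds for the number of eigenvectors. -/

namespace Cfsg.Agent.H43

open scoped LinearAlgebra.Projectivization
open Matrix

section projeig

variable {F : Type*} [Field F] {d : ℕ}

theorem SL_mulVec_ne_zero (X : Matrix.SpecialLinearGroup (Fin d) F) {v : Fin d → F} (hv : v ≠ 0) :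
    (X : Matrix (Fin d) (Fin d) F) *ᵥ v ≠ 0 :=
  (smul_ne_zero_iff_ne X).mpr hv

theorem psl_smul_mk_eq_iff (X : Matrix.SpecialLinearGroup (Fin d) F) (v : Fin d → F)
    (hv : v ≠ 0) :
    (X : Matrix.ProjectiveSpecialLinearGroup (Fin d) F) • Projectivization.mk F v hv =
      Projectivization.mk F v hv ↔ IsEigVec (X : Matrix (Fin d) (Fin d) F) v := by
  have h1 : (X : Matrix.ProjectiveSpecialLinearGroup (Fin d) F) • Projectivization.mk F v hv =
      Projectivization.mk F ((X : Matrix (Fin d) (Fin d) F) *ᵥ v) (SL_mulVec_ne_zero X hv) := rfl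
  rw [h1, Projectivization.mk_eq_mk_iff]
  constructor
  · rintro ⟨a, ha⟩
    exact ⟨hv, (a : F), ha.symm⟩
  · rintro ⟨-, c, hc⟩
    have hc0 : c ≠ 0 := by
      rintro rfl
      rw [zero_smul] at hc
      exact SL_mulVec_ne_zero X hv hc
    exact ⟨Units.mk0 c hc0, hc.symm⟩

/-- The number of eigenvectors of a matrix. -/
noncomputable def evN (X : Matrix (Fin d) (Fin d) F) : ℕ :=
  Nat.card {v : Fin d → F // IsEigVec X v}

theorem evN_eq_nfix [Fintype F] (X : Matrix.SpecialLinearGroup (Fin d) F) :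
    evN (X : Matrix (Fin d) (Fin d) F) =
      nfix (ℙ F (Fin d → F)) (X : Matrix.ProjectiveSpecialLinearGroup (Fin d) F) *
        (Fintype.card F - 1) := by
  unfold evN nfix
  have e1 : {v : Fin d → F // IsEigVec (X : Matrix (Fin d) (Fin d) F) v} ≃
      {v : {v : Fin d → F // v ≠ 0} // ∃ c : F, (X : Matrix (Fin d) (Fin d) F) *ᵥ v.1 = c • v.1} :=
    (Equiv.subtypeSubtypeEquivSubtypeInter (fun v : Fin d → F => v ≠ 0)
      (fun v => ∃ c : F, (X : Matrix (Fin d) (Fin d) F) *ᵥ v = c • v)).symm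
  have e2 : {v : {v : Fin d → F // v ≠ 0} //
        ∃ c : F, (X : Matrix (Fin d) (Fin d) F) *ᵥ v.1 = c • v.1} ≃
      {pc : ℙ F (Fin d → F) × Fˣ //
        (X : Matrix.ProjectiveSpecialLinearGroup (Fin d) F) • pc.1 = pc.1} :=
    Equiv.subtypeEquiv (Projectivization.nonZeroEquivProjectivizationProdUnits F (Fin d → F))
      (fun v => by
        have h1 : (Projectivization.nonZeroEquivProjectivizationProdUnits F (Fin d → F) v).1 =
            Projectivization.mk F v.1 v.2 := rfl
        rw [h1, psl_smul_mk_eq_iff]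
        exact ⟨fun h => ⟨v.2, h⟩, fun h => h.2⟩)
  have e3 : {pc : ℙ F (Fin d → F) × Fˣ //
        (X : Matrix.ProjectiveSpecialLinearGroup (Fin d) F) • pc.1 = pc.1} ≃
      {p : ℙ F (Fin d → F) //
        (X : Matrix.ProjectiveSpecialLinearGroup (Fin d) F) • p = p} × Fˣ :=
    Equiv.prodSubtypeFstEquivSubtypeProd (p := fun p : ℙ F (Fin d → F) =>
      (X : Matrix.ProjectiveSpecialLinearGroup (Fin d) F) • p = p)
  rw [Nat.card_congr (e1.trans (e2.trans e3)), Nat.card_prod, Nat.card_units,
    Nat.card_eq_fintype_card (α := F)]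

theorem exists_eig_of_nfix_pos [Fintype F] (X : Matrix.SpecialLinearGroup (Fin d) F)
    (h : 0 < nfix (ℙ F (Fin d → F)) (X : Matrix.ProjectiveSpecialLinearGroup (Fin d) F)) :
    ∃ v, IsEigVec (X : Matrix (Fin d) (Fin d) F) v := by
  unfold nfix at h
  obtain ⟨⟨p, hp⟩⟩ := (Nat.card_pos_iff.mp h).1
  obtain ⟨v, hv, rfl⟩ : ∃ (v : Fin d → F) (hv : v ≠ 0), p = Projectivization.mk F v hv :=
    ⟨p.rep, p.rep_nonzero, p.mk_rep.symm⟩
  exact ⟨v, (psl_smul_mk_eq_iff X v hv).mp hp⟩

theorem nfix_pos_of_eig [Fintype F] (X : Matrix.SpecialLinearGroup (Fin d) F) {v : Fin d → F}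
    (hv : IsEigVec (X : Matrix (Fin d) (Fin d) F) v) :
    0 < nfix (ℙ F (Fin d → F)) (X : Matrix.ProjectiveSpecialLinearGroup (Fin d) F) := by
  unfold nfix
  rw [Nat.card_pos_iff]
  exact ⟨⟨⟨Projectivization.mk F v hv.1, (psl_smul_mk_eq_iff X v hv.1).mpr hv⟩⟩, inferInstance⟩

theorem eig_prop_of_nfix_eq_one [Fintype F] (X : Matrix.SpecialLinearGroup (Fin d) F)
    (h : nfix (ℙ F (Fin d → F)) (X : Matrix.ProjectiveSpecialLinearGroup (Fin d) F) = 1)
    {v w : Fin d → F} (hv : IsEigVec (X : Matrix (Fin d) (Fin d) F) v)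
    (hw : IsEigVec (X : Matrix (Fin d) (Fin d) F) w) : ∃ r : F, w = r • v := by
  unfold nfix at h
  have hsub := (Nat.card_eq_one_iff_unique.mp h).1
  have h1 := hsub.elim ⟨Projectivization.mk F v hv.1, (psl_smul_mk_eq_iff X v hv.1).mpr hv⟩
    ⟨Projectivization.mk F w hw.1, (psl_smul_mk_eq_iff X w hw.1).mpr hw⟩
  have h2 : Projectivization.mk F v hv.1 = Projectivization.mk F w hw.1 :=
    congrArg Subtype.val h1
  rw [Projectivization.mk_eq_mk_iff] at h2
  obtain ⟨a, ha⟩ := h2
  refine ⟨((a⁻¹ : Fˣ) : F), ?_⟩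
  rw [← ha, Units.smul_def, smul_smul, ← Units.val_mul, inv_mul_cancel, Units.val_one, one_smul]

theorem two_le_nfix [Fintype F] (X : Matrix.SpecialLinearGroup (Fin d) F) {v w : Fin d → F}
    (hv : IsEigVec (X : Matrix (Fin d) (Fin d) F) v)
    (hw : IsEigVec (X : Matrix (Fin d) (Fin d) F) w) (hne : ∀ r : F, w ≠ r • v) :
    2 ≤ nfix (ℙ F (Fin d → F)) (X : Matrix.ProjectiveSpecialLinearGroup (Fin d) F) := by
  unfold nfix
  have hnt : Nontrivial {ω : ℙ F (Fin d → F) //
      (X : Matrix.ProjectiveSpecialLinearGroup (Fin d) F) • ω = ω} :=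
    ⟨⟨⟨Projectivization.mk F v hv.1, (psl_smul_mk_eq_iff X v hv.1).mpr hv⟩,
      ⟨Projectivization.mk F w hw.1, (psl_smul_mk_eq_iff X w hw.1).mpr hw⟩, by
        intro h
        have h2 : Projectivization.mk F v hv.1 = Projectivization.mk F w hw.1 :=
          congrArg Subtype.val h
        rw [Projectivization.mk_eq_mk_iff] at h2
        obtain ⟨a, ha⟩ := h2
        apply hne ((a⁻¹ : Fˣ) : F)
        rw [← ha, Units.smul_def, smul_smul, ← Units.val_mul, inv_mul_cancel, Units.val_one,
          one_smul]⟩⟩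
  exact Finite.one_lt_card

theorem card_proj [Fintype F] :
    Nat.card (ℙ F (Fin d → F)) * (Fintype.card F - 1) + 1 = Fintype.card F ^ d := by
  have h := Projectivization.card' F (Fin d → F)
  rw [Nat.card_eq_fintype_card (α := F)] at h
  rw [← h, Nat.card_eq_fintype_card, Fintype.card_pi_const]

theorem psl_two_transitive (x y x' y' : ℙ F (Fin d → F)) (hxy : x ≠ y) (hxy' : x' ≠ y') :
    ∃ k : Matrix.ProjectiveSpecialLinearGroup (Fin d) F, k • x = x' ∧ k • y = y' := by
  have h : ∀ {a b c e : ℙ F (Fin d → F)}, a ≠ b → c ≠ e →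
      ∃ g : Matrix.SpecialLinearGroup (Fin d) F, g • a = c ∧ g • b = e :=
    MulAction.is_two_pretransitive_iff.mp inferInstance
  obtain ⟨g, hg1, hg2⟩ := h hxy hxy'
  refine ⟨(g : Matrix.ProjectiveSpecialLinearGroup (Fin d) F), ?_, ?_⟩
  · rw [Matrix.ProjectiveSpecialLinearGroup.smul_proj_mk]
    exact hg1
  · rw [Matrix.ProjectiveSpecialLinearGroup.smul_proj_mk]
    exact hg2

end projeig

section bounds

variable {F : Type*} [Field F] {d : ℕ}

/-- The eigenspace of a matrix for the value `c`. -/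
def eigSp (X : Matrix (Fin d) (Fin d) F) (c : F) : Submodule F (Fin d → F) :=
  LinearMap.ker (Matrix.toLin' X - c • LinearMap.id)

theorem mem_eigSp {X : Matrix (Fin d) (Fin d) F} {c : F} {v : Fin d → F} :
    v ∈ eigSp X c ↔ X *ᵥ v = c • v := by
  unfold eigSp
  rw [LinearMap.mem_ker, LinearMap.sub_apply, Matrix.toLin'_apply, LinearMap.smul_apply,
    LinearMap.id_apply, sub_eq_zero]

theorem eq_scalar_of_forall_mulVec (X : Matrix (Fin d) (Fin d) F) (c : F)
    (h : ∀ v, X *ᵥ v = c • v) : X = Matrix.scalar (Fin d) c := by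
  apply Matrix.toLin'.injective
  have h1 : Matrix.toLin' X = c • (1 : (Fin d → F) →ₗ[F] (Fin d → F)) := by
    apply LinearMap.ext
    intro v
    rw [Matrix.toLin'_apply, h v]
    rfl
  rw [h1]
  ext x i
  simp [Matrix.scalar_apply, Pi.single_apply]

theorem SL_inv_mulVec_mulVec (G : Matrix.SpecialLinearGroup (Fin d) F) (w : Fin d → F) :
    ((G⁻¹ : Matrix.SpecialLinearGroup (Fin d) F) : Matrix (Fin d) (Fin d) F) *ᵥ
      ((G : Matrix (Fin d) (Fin d) F) *ᵥ w) = w := by
  rw [Matrix.mulVec_mulVec, ← Matrix.SpecialLinearGroup.coe_mul, inv_mul_cancel,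
    Matrix.SpecialLinearGroup.coe_one, Matrix.one_mulVec]

/-- The action of a product `G A G⁻¹ B` on a vector `y` with `B y = G e`. -/
theorem conj_mulVec (G A B : Matrix.SpecialLinearGroup (Fin d) F) {y e : Fin d → F}
    (hy : (G : Matrix (Fin d) (Fin d) F) *ᵥ e = (B : Matrix (Fin d) (Fin d) F) *ᵥ y) :
    ((G * A * G⁻¹ * B : Matrix.SpecialLinearGroup (Fin d) F) : Matrix (Fin d) (Fin d) F) *ᵥ y =
      (G : Matrix (Fin d) (Fin d) F) *ᵥ ((A : Matrix (Fin d) (Fin d) F) *ᵥ e) := by
  rw [Matrix.SpecialLinearGroup.coe_mul, Matrix.SpecialLinearGroup.coe_mul,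
    Matrix.SpecialLinearGroup.coe_mul, ← Matrix.mulVec_mulVec, ← Matrix.mulVec_mulVec,
    ← Matrix.mulVec_mulVec, ← hy, SL_inv_mulVec_mulVec]

variable [Fintype F]

theorem card_filter_mem (W : Submodule F (Fin d → F))
    [DecidablePred (fun v : Fin d → F => v ∈ W)] :
    (Finset.univ.filter (fun v : Fin d → F => v ∈ W)).card =
      Fintype.card F ^ Module.finrank F W := by
  rw [← Fintype.card_subtype]
  exact Module.card_eq_pow_finrank

theorem evN_eq_card_filter (X : Matrix (Fin d) (Fin d) F)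
    [DecidablePred (fun v : Fin d → F => IsEigVec X v)] :
    evN X = (Finset.univ.filter (fun v : Fin d → F => IsEigVec X v)).card := by
  unfold evN
  rw [Nat.card_eq_fintype_card, Fintype.card_subtype]

/-- If all eigenspaces of `X ∈ SL_d(F)` have dimension at most `m`, then `X` has at most
`(q - 1)(q ^ m - 1)` eigenvectors. -/
theorem evN_le_of_finrank_le (X : Matrix.SpecialLinearGroup (Fin d) F) (m : ℕ)
    (hm : ∀ c : F, Module.finrank F (eigSp (X : Matrix (Fin d) (Fin d) F) c) ≤ m) :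
    evN (X : Matrix (Fin d) (Fin d) F) ≤ (Fintype.card F - 1) * (Fintype.card F ^ m - 1) := by
  classical
  rw [evN_eq_card_filter]
  have hsub : Finset.univ.filter (fun v : Fin d → F => IsEigVec (X : Matrix (Fin d) (Fin d) F) v) ⊆
      (Finset.univ.filter (fun c : F => c ≠ 0)).biUnion (fun c =>
        (Finset.univ.filter (fun v : Fin d → F =>
          v ∈ eigSp (X : Matrix (Fin d) (Fin d) F) c)).erase 0) := by
    intro v hv
    rw [Finset.mem_filter] at hv
    obtain ⟨-, hv0, c, hc⟩ := hv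
    have hc0 : c ≠ 0 := by
      rintro rfl
      rw [zero_smul] at hc
      exact SL_mulVec_ne_zero X hv0 hc
    rw [Finset.mem_biUnion]
    refine ⟨c, ?_, ?_⟩
    · rw [Finset.mem_filter]
      exact ⟨Finset.mem_univ _, hc0⟩
    · rw [Finset.mem_erase, Finset.mem_filter]
      exact ⟨hv0, Finset.mem_univ _, mem_eigSp.mpr hc⟩
  refine (Finset.card_le_card hsub).trans (Finset.card_biUnion_le.trans ?_)
  have h1 : ∀ c ∈ Finset.univ.filter (fun c : F => c ≠ 0),
      ((Finset.univ.filter (fun v : Fin d → F =>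
        v ∈ eigSp (X : Matrix (Fin d) (Fin d) F) c)).erase 0).card ≤ Fintype.card F ^ m - 1 := by
    intro c _
    rw [Finset.card_erase_of_mem (by
      rw [Finset.mem_filter]
      exact ⟨Finset.mem_univ _, Submodule.zero_mem _⟩), card_filter_mem]
    exact Nat.sub_le_sub_right (Nat.pow_le_pow_right Fintype.card_pos (hm c)) 1
  refine (Finset.sum_le_card_nsmul _ _ _ h1).trans ?_
  rw [Finset.filter_ne' Finset.univ (0 : F), Finset.card_erase_of_mem (Finset.mem_univ _),
    Finset.card_univ, smul_eq_mul]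

/-- A non-scalar element of `SL_d(F)` has at most `q ^ (d - 1) + q - 2` eigenvectors. -/
theorem evN_le_of_not_scalar (hd : 2 ≤ d) (X : Matrix.SpecialLinearGroup (Fin d) F)
    (hns : ∀ r : F, (X : Matrix (Fin d) (Fin d) F) ≠ Matrix.scalar (Fin d) r) :
    evN (X : Matrix (Fin d) (Fin d) F) ≤ Fintype.card F ^ (d - 1) + Fintype.card F - 2 := by
  classical
  have hq : 2 ≤ Fintype.card F := Fintype.one_lt_card
  by_cases h : ∀ c : F, Module.finrank F (eigSp (X : Matrix (Fin d) (Fin d) F) c) ≤ d - 2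
  · refine (evN_le_of_finrank_le X (d - 2) h).trans ?_
    have h1 : Fintype.card F ^ (d - 1) = Fintype.card F * Fintype.card F ^ (d - 2) := by
      rw [← pow_succ']
      congr 1
      omega
    have h2 : 1 ≤ Fintype.card F ^ (d - 2) := Nat.one_le_pow _ _ (by omega)
    rw [h1]
    have h3 : (Fintype.card F - 1) * (Fintype.card F ^ (d - 2) - 1) ≤
        Fintype.card F * Fintype.card F ^ (d - 2) :=
      Nat.mul_le_mul (Nat.sub_le _ _) (Nat.sub_le _ _)
    omega
  · push Not at h
    obtain ⟨β, hβ⟩ := h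
    have hne : eigSp (X : Matrix (Fin d) (Fin d) F) β ≠ ⊤ := by
      intro htop
      apply hns β
      apply eq_scalar_of_forall_mulVec
      intro v
      exact mem_eigSp.mp (by rw [htop]; exact Submodule.mem_top)
    have hlt := Submodule.finrank_lt hne
    rw [Module.finrank_fin_fun] at hlt
    have hker : Module.finrank F (eigSp (X : Matrix (Fin d) (Fin d) F) β) = d - 1 := by omega
    have hrk := LinearMap.finrank_range_add_finrank_ker
      (Matrix.toLin' (X : Matrix (Fin d) (Fin d) F) - β • LinearMap.id)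
    rw [Module.finrank_fin_fun] at hrk
    have hker' : Module.finrank F (LinearMap.ker
        (Matrix.toLin' (X : Matrix (Fin d) (Fin d) F) - β • LinearMap.id)) = d - 1 := hker
    have hrange : Module.finrank F (LinearMap.range
        (Matrix.toLin' (X : Matrix (Fin d) (Fin d) F) - β • LinearMap.id)) = 1 := by omega
    rw [evN_eq_card_filter]
    have hsub : Finset.univ.filter
        (fun v : Fin d → F => IsEigVec (X : Matrix (Fin d) (Fin d) F) v) ⊆
        (Finset.univ.filter (fun v : Fin d → F =>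
          v ∈ eigSp (X : Matrix (Fin d) (Fin d) F) β)).erase 0 ∪
        (Finset.univ.filter (fun v : Fin d → F => v ∈ LinearMap.range
          (Matrix.toLin' (X : Matrix (Fin d) (Fin d) F) - β • LinearMap.id))).erase 0 := by
      intro v hv
      rw [Finset.mem_filter] at hv
      obtain ⟨-, hv0, c, hc⟩ := hv
      rw [Finset.mem_union, Finset.mem_erase, Finset.mem_erase, Finset.mem_filter,
        Finset.mem_filter]
      by_cases hcβ : c = β
      · left
        exact ⟨hv0, Finset.mem_univ _, mem_eigSp.mpr (by rw [hc, hcβ])⟩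
      · right
        refine ⟨hv0, Finset.mem_univ _, ?_⟩
        rw [LinearMap.mem_range]
        refine ⟨(c - β)⁻¹ • v, ?_⟩
        rw [LinearMap.sub_apply, Matrix.toLin'_apply, LinearMap.smul_apply, LinearMap.id_apply,
          Matrix.mulVec_smul, hc]
        have hcb : c - β ≠ 0 := sub_ne_zero.mpr hcβ
        match_scalars <;> first | (field_simp; ring) | field_simp | ring
    refine (Finset.card_le_card hsub).trans ((Finset.card_union_le _ _).trans ?_)
    rw [Finset.card_erase_of_mem (by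
      rw [Finset.mem_filter]
      exact ⟨Finset.mem_univ _, Submodule.zero_mem _⟩), Finset.card_erase_of_mem (by
      rw [Finset.mem_filter]
      exact ⟨Finset.mem_univ _, Submodule.zero_mem _⟩), card_filter_mem, card_filter_mem, hker,
      hrange, pow_one]
    have h2 : 1 ≤ Fintype.card F ^ (d - 1) := Nat.one_le_pow _ _ (by omega)
    omega

/-- If `G` maps the `α`-eigenspace of `A` into the `β`-eigenspace of `B`, then `G A G⁻¹ B` has at
least `q ^ m - 1` eigenvectors, `m` the dimension of the `α`-eigenspace of `A`. -/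
theorem evN_conj_ge (G A B : Matrix.SpecialLinearGroup (Fin d) F) (α β : F)
    (hmap : ∀ w ∈ eigSp (A : Matrix (Fin d) (Fin d) F) α,
      (G : Matrix (Fin d) (Fin d) F) *ᵥ w ∈ eigSp (B : Matrix (Fin d) (Fin d) F) β) :
    Fintype.card F ^ Module.finrank F (eigSp (A : Matrix (Fin d) (Fin d) F) α) - 1 ≤
      evN ((G * A * G⁻¹ * B : Matrix.SpecialLinearGroup (Fin d) F) :
        Matrix (Fin d) (Fin d) F) := by
  classical
  rw [evN_eq_card_filter]
  have hinj : Function.Injective (fun w : Fin d → F => (G : Matrix (Fin d) (Fin d) F) *ᵥ w) := by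
    intro w₁ w₂ h
    have h' := congrArg (fun u => ((G⁻¹ : Matrix.SpecialLinearGroup (Fin d) F) :
      Matrix (Fin d) (Fin d) F) *ᵥ u) h
    simp only [SL_inv_mulVec_mulVec] at h'
    exact h'
  have hsub : ((Finset.univ.filter (fun v : Fin d → F =>
      v ∈ eigSp (A : Matrix (Fin d) (Fin d) F) α)).erase 0).image
        (fun w : Fin d → F => (G : Matrix (Fin d) (Fin d) F) *ᵥ w) ⊆
      Finset.univ.filter (fun v : Fin d → F => IsEigVec ((G * A * G⁻¹ * B :
        Matrix.SpecialLinearGroup (Fin d) F) : Matrix (Fin d) (Fin d) F) v) := by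
    intro v hv
    rw [Finset.mem_image] at hv
    obtain ⟨w, hw, rfl⟩ := hv
    rw [Finset.mem_erase, Finset.mem_filter] at hw
    obtain ⟨hw0, -, hwA⟩ := hw
    rw [Finset.mem_filter]
    refine ⟨Finset.mem_univ _, SL_mulVec_ne_zero G hw0, β * α, ?_⟩
    have hB := mem_eigSp.mp (hmap w hwA)
    have hA := mem_eigSp.mp hwA
    rw [conj_mulVec G A B (e := β • w) (by rw [Matrix.mulVec_smul, hB]), Matrix.mulVec_smul, hA,
      Matrix.mulVec_smul, Matrix.mulVec_smul, smul_smul]
  have hcard := Finset.card_le_card hsub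
  rw [Finset.card_image_of_injective _ hinj, Finset.card_erase_of_mem (by
    rw [Finset.mem_filter]
    exact ⟨Finset.mem_univ _, Submodule.zero_mem _⟩), card_filter_mem] at hcard
  exact hcard

end bounds

end Cfsg.Agent.H43
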