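import Mathlib
import Cfsg.Agent.H43.ProjEig

/-!
# Products of conjugacy classes in `PSL_d(F)`, `d ≥ 3`

For non-scalar `A, B ∈ SL_d(F)` the numbers of fixed projective points of the products
`G A G⁻¹ B` are not constant (in both orders).
-/

namespace Cfsg.Agent.H43

open scoped LinearAlgebra.Projectivization
open Matrix

section classprod

variable {F : Type*} [Field F] {d : ℕ}

/-- An element of `SL_d(F)` with non-trivial image in `PSL_d(F)` is not a scalar matrix. -/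
theorem not_scalar_of_psl_ne_one (A : Matrix.SpecialLinearGroup (Fin d) F)
    (hA : (A : Matrix.ProjectiveSpecialLinearGroup (Fin d) F) ≠ 1) (r : F) :
    (A : Matrix (Fin d) (Fin d) F) ≠ Matrix.scalar (Fin d) r := by
  intro h
  apply hA
  have h1 : (A : Matrix.ProjectiveSpecialLinearGroup (Fin d) F) = QuotientGroup.mk A := rfl
  rw [h1, QuotientGroup.eq_one_iff, Matrix.SpecialLinearGroup.mem_center_iff]
  refine ⟨r, ?_, h.symm⟩
  have h2 := A.2
  rw [h] at h2
  simpa [Matrix.scalar_apply, Matrix.det_diagonal] using h2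

theorem Ind3.ne_smul {u v w : Fin d → F} (h : Ind3 u v w) (r : F) : v ≠ r • u := by
  intro hv
  have := h r (-1) 0 (by rw [hv]; module)
  exact one_ne_zero (neg_eq_zero.mp this.2.1)

theorem Ind3.ne_zero_snd {u v w : Fin d → F} (h : Ind3 u v w) : v ≠ 0 := by
  intro hv
  have := h 0 1 0 (by rw [hv]; module)
  exact one_ne_zero this.2.1

theorem Ind3.ne_zero_fst {u v w : Fin d → F} (h : Ind3 u v w) : u ≠ 0 := by
  intro hv
  have := h 1 0 0 (by rw [hv]; module)
  exact one_ne_zero this.1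

theorem Ind3.swap23 {u v w : Fin d → F} (h : Ind3 u v w) : Ind3 u w v := by
  intro a b c hrel
  obtain ⟨e1, e2, e3⟩ := h a c b (by linear_combination (norm := module) hrel)
  exact ⟨e1, e3, e2⟩

theorem Ind3.rev {u v w : Fin d → F} (h : Ind3 u v w) : Ind3 w v u := by
  intro a b c hrel
  obtain ⟨e1, e2, e3⟩ := h c b a (by linear_combination (norm := module) hrel)
  exact ⟨e3, e2, e1⟩

variable [Fintype F]

/-- If `B` fixes exactly one projective point, then some product `G A G⁻¹ B` fixes at least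
two. -/
theorem alpha_core (hd : 3 ≤ d) (A B : Matrix.SpecialLinearGroup (Fin d) F)
    (hA : ∀ r : F, (A : Matrix (Fin d) (Fin d) F) ≠ Matrix.scalar (Fin d) r)
    (hB : ∀ r : F, (B : Matrix (Fin d) (Fin d) F) ≠ Matrix.scalar (Fin d) r)
    (hB1 : nfix (ℙ F (Fin d → F)) (B : Matrix.ProjectiveSpecialLinearGroup (Fin d) F) = 1) :
    ∃ G : Matrix.SpecialLinearGroup (Fin d) F,
      2 ≤ nfix (ℙ F (Fin d → F))
        ((G * A * G⁻¹ * B : Matrix.SpecialLinearGroup (Fin d) F) :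
          Matrix.ProjectiveSpecialLinearGroup (Fin d) F) := by
  have H1B : ∀ e e', IsEigVec (B : Matrix (Fin d) (Fin d) F) e →
      IsEigVec (B : Matrix (Fin d) (Fin d) F) e' → ∃ r : F, e' = r • e :=
    fun e e' he he' => eig_prop_of_nfix_eq_one B hB1 he he'
  by_cases hex : ∃ v, IsEigVec (A : Matrix (Fin d) (Fin d) F) v
  · -- `A` has an eigenvector
    obtain ⟨e₀, he₀⟩ := hex
    obtain ⟨e, e₂, ⟨he0, α, hα⟩, hI⟩ := exists_eig_ind3 hd (A : Matrix (Fin d) (Fin d) F) hA he₀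
    obtain ⟨x₀', hx₀'⟩ := exists_eig_of_nfix_pos B (by omega)
    obtain ⟨x₀, x₂, ⟨hx0, β, hβ⟩, hJ⟩ :=
      exists_eig_ind3 hd (B : Matrix (Fin d) (Fin d) F) hB hx₀'
    obtain ⟨G, c, hc, hG⟩ := exists_SL_map
      ![e, e₂, (A : Matrix (Fin d) (Fin d) F) *ᵥ e₂]
      ![x₀, (B : Matrix (Fin d) (Fin d) F) *ᵥ x₂, x₂] hI.linearIndependent
      hJ.swap23.linearIndependent 2
    have hG0 : (G : Matrix (Fin d) (Fin d) F) *ᵥ e = x₀ := by simpa using hG 0
    have hG1 : (G : Matrix (Fin d) (Fin d) F) *ᵥ e₂ = (B : Matrix (Fin d) (Fin d) F) *ᵥ x₂ := by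
      simpa using hG 1
    have hG2 : (G : Matrix (Fin d) (Fin d) F) *ᵥ ((A : Matrix (Fin d) (Fin d) F) *ᵥ e₂) =
        c • x₂ := by simpa using hG 2
    refine ⟨G, two_le_nfix _ (v := x₀) (w := x₂) ⟨hx0, β * α, ?_⟩ ⟨hJ.ne_zero_snd, c, ?_⟩
      hJ.ne_smul⟩
    · rw [conj_mulVec G A B (e := β • e) (by rw [Matrix.mulVec_smul, hG0, hβ]),
        Matrix.mulVec_smul, hα, Matrix.mulVec_smul, Matrix.mulVec_smul, hG0, smul_smul]
    · rw [conj_mulVec G A B (e := e₂) hG1, hG2]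
  · -- `A` has no eigenvector
    have H1A : ∀ e e', IsEigVec (A : Matrix (Fin d) (Fin d) F) e →
        IsEigVec (A : Matrix (Fin d) (Fin d) F) e' → ∃ r : F, e' = r • e :=
      fun e e' he _ => absurd ⟨e, he⟩ hex
    rcases Nat.lt_or_ge d 4 with hd4 | hd4
    · have hd3 : d = 3 := by omega
      obtain ⟨yA, hyA⟩ := exists_cyclic3 hd3 (A : Matrix (Fin d) (Fin d) F) hA H1A
      obtain ⟨yB, hyB⟩ := exists_cyclic3 hd3 (B : Matrix (Fin d) (Fin d) F) hB H1B
      obtain ⟨G, c, hc, hG⟩ := exists_SL_map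
        ![yA, (A : Matrix (Fin d) (Fin d) F) *ᵥ yA,
          (A : Matrix (Fin d) (Fin d) F) *ᵥ ((A : Matrix (Fin d) (Fin d) F) *ᵥ yA)]
        ![(B : Matrix (Fin d) (Fin d) F) *ᵥ ((B : Matrix (Fin d) (Fin d) F) *ᵥ yB),
          (B : Matrix (Fin d) (Fin d) F) *ᵥ yB, yB] hyA.linearIndependent
        hyB.rev.linearIndependent 2
      have hG0 : (G : Matrix (Fin d) (Fin d) F) *ᵥ yA =
          (B : Matrix (Fin d) (Fin d) F) *ᵥ ((B : Matrix (Fin d) (Fin d) F) *ᵥ yB) := by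
        simpa using hG 0
      have hG1 : (G : Matrix (Fin d) (Fin d) F) *ᵥ ((A : Matrix (Fin d) (Fin d) F) *ᵥ yA) =
          (B : Matrix (Fin d) (Fin d) F) *ᵥ yB := by
        simpa using hG 1
      have hG2 : (G : Matrix (Fin d) (Fin d) F) *ᵥ ((A : Matrix (Fin d) (Fin d) F) *ᵥ
          ((A : Matrix (Fin d) (Fin d) F) *ᵥ yA)) = c • yB := by simpa using hG 2
      refine ⟨G, two_le_nfix _ (v := yB) (w := (B : Matrix (Fin d) (Fin d) F) *ᵥ yB)
        ⟨hyB.ne_zero_fst, c, ?_⟩ ⟨hyB.ne_zero_snd, 1, ?_⟩ hyB.ne_smul⟩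
      · rw [conj_mulVec G A B (e := (A : Matrix (Fin d) (Fin d) F) *ᵥ yA) hG1, hG2]
      · rw [conj_mulVec G A B (e := yA) hG0, hG1, one_smul]
    · obtain ⟨e₁, e₂, hE⟩ := exists_ind4_pair hd4 (A : Matrix (Fin d) (Fin d) F) hA H1A
      obtain ⟨x₁, x₂, hX⟩ := exists_ind4_pair hd4 (B : Matrix (Fin d) (Fin d) F) hB H1B
      have hX' : Ind4 ((B : Matrix (Fin d) (Fin d) F) *ᵥ x₁) x₁
          ((B : Matrix (Fin d) (Fin d) F) *ᵥ x₂) x₂ := by
        intro a b c e hrel
        obtain ⟨e1, e2, e3, e4⟩ := hX b a e c (by linear_combination (norm := module) hrel)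
        exact ⟨e2, e1, e4, e3⟩
      obtain ⟨G, c, hc, hG⟩ := exists_SL_map
        ![e₁, (A : Matrix (Fin d) (Fin d) F) *ᵥ e₁, e₂, (A : Matrix (Fin d) (Fin d) F) *ᵥ e₂]
        ![(B : Matrix (Fin d) (Fin d) F) *ᵥ x₁, x₁, (B : Matrix (Fin d) (Fin d) F) *ᵥ x₂, x₂]
        hE.linearIndependent hX'.linearIndependent 3
      have hG0 : (G : Matrix (Fin d) (Fin d) F) *ᵥ e₁ =
          (B : Matrix (Fin d) (Fin d) F) *ᵥ x₁ := by simpa using hG 0
      have hG1 : (G : Matrix (Fin d) (Fin d) F) *ᵥ ((A : Matrix (Fin d) (Fin d) F) *ᵥ e₁) =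
          x₁ := by simpa using hG 1
      have hG2 : (G : Matrix (Fin d) (Fin d) F) *ᵥ e₂ =
          (B : Matrix (Fin d) (Fin d) F) *ᵥ x₂ := by simpa using hG 2
      have hG3 : (G : Matrix (Fin d) (Fin d) F) *ᵥ ((A : Matrix (Fin d) (Fin d) F) *ᵥ e₂) =
          c • x₂ := by simpa using hG 3
      have hx1 : x₁ ≠ 0 := by
        intro hv
        have := hX 1 0 0 0 (by rw [hv]; module)
        exact one_ne_zero this.1
      have hx2 : x₂ ≠ 0 := by
        intro hv
        have := hX 0 0 1 0 (by rw [hv]; module)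
        exact one_ne_zero this.2.2.1
      have hne : ∀ r : F, x₂ ≠ r • x₁ := by
        intro r hv
        have := hX r 0 (-1) 0 (by rw [hv]; module)
        exact one_ne_zero (neg_eq_zero.mp this.2.2.1)
      refine ⟨G, two_le_nfix _ (v := x₁) (w := x₂) ⟨hx1, 1, ?_⟩ ⟨hx2, c, ?_⟩ hne⟩
      · rw [conj_mulVec G A B (e := e₁) hG0, hG1, one_smul]
      · rw [conj_mulVec G A B (e := e₂) hG2, hG3]

/-- A non-scalar element of `SL_d(F)` moves some projective point. -/
theorem nfix_lt_card (hd : 2 ≤ d) (X : Matrix.SpecialLinearGroup (Fin d) F)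
    (hns : ∀ r : F, (X : Matrix (Fin d) (Fin d) F) ≠ Matrix.scalar (Fin d) r) :
    nfix (ℙ F (Fin d → F)) (X : Matrix.ProjectiveSpecialLinearGroup (Fin d) F) <
      Nat.card (ℙ F (Fin d → F)) := by
  have hq : 2 ≤ Fintype.card F := Fintype.one_lt_card
  have h1 := evN_le_of_not_scalar hd X hns
  rw [evN_eq_nfix] at h1
  have h2 := card_proj (F := F) (d := d)
  by_contra hlt
  push Not at hlt
  have h3 := Nat.mul_le_mul_right (Fintype.card F - 1) hlt
  have h4 : Fintype.card F ^ d = Fintype.card F * Fintype.card F ^ (d - 1) := by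
    rw [← pow_succ']
    congr 1
    omega
  have h5 : Fintype.card F ≤ Fintype.card F ^ (d - 1) :=
    Nat.le_self_pow (by omega) _
  have h6 : 2 * Fintype.card F ^ (d - 1) ≤ Fintype.card F * Fintype.card F ^ (d - 1) :=
    Nat.mul_le_mul_right _ hq
  omega

theorem three_le_card_proj (hd : 3 ≤ d) : 3 ≤ Nat.card (ℙ F (Fin d → F)) := by
  have hq : 2 ≤ Fintype.card F := Fintype.one_lt_card
  have h2 := card_proj (F := F) (d := d)
  have h4 : Fintype.card F ^ d = Fintype.card F ^ (d - 3) * Fintype.card F ^ 3 := by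
    rw [← pow_add]
    congr 1
    omega
  have h5 : 1 ≤ Fintype.card F ^ (d - 3) := Nat.one_le_pow _ _ (by omega)
  have h6 : Fintype.card F ^ 3 ≤ Fintype.card F ^ d := by
    rw [h4]
    exact Nat.le_mul_of_pos_left _ h5
  by_contra hlt
  push Not at hlt
  have h7 : Nat.card (ℙ F (Fin d → F)) * (Fintype.card F - 1) ≤ 2 * (Fintype.card F - 1) :=
    Nat.mul_le_mul_right _ (by omega)
  have h8 : 4 * Fintype.card F ≤ Fintype.card F ^ 3 := by
    have : Fintype.card F ^ 3 = Fintype.card F * Fintype.card F * Fintype.card F := by ring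
    rw [this]
    nlinarith
  omega

/-- The constant-fixed-point hypothesis on `G A G⁻¹ B`, for `G ∈ SL`, gives the averaging
identity. -/
theorem psl_identity (hd : 3 ≤ d) (A B : Matrix.SpecialLinearGroup (Fin d) F) (f : ℕ)
    (hf : ∀ G : Matrix.SpecialLinearGroup (Fin d) F, nfix (ℙ F (Fin d → F))
      ((G * A * G⁻¹ * B : Matrix.SpecialLinearGroup (Fin d) F) :
        Matrix.ProjectiveSpecialLinearGroup (Fin d) F) = f) :
    ((Nat.card (ℙ F (Fin d → F)) : ℤ) - 1) * ((f : ℤ) - 1) =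
      ((nfix (ℙ F (Fin d → F)) (A : Matrix.ProjectiveSpecialLinearGroup (Fin d) F) : ℤ) - 1) *
        ((nfix (ℙ F (Fin d → F)) (B : Matrix.ProjectiveSpecialLinearGroup (Fin d) F) : ℤ) - 1) := by
  have hn := three_le_card_proj (F := F) hd
  refine nfix_const_identity psl_two_transitive (by omega) _ _ f ?_
  intro g
  obtain ⟨G, rfl⟩ := QuotientGroup.mk_surjective g
  exact hf G

/-- The case where both `A` and `B` fix at least two points and the largest eigenspace of `A`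
is no larger than that of `B`. -/
theorem beta_core (hd : 3 ≤ d) (A B : Matrix.SpecialLinearGroup (Fin d) F)
    (hB : ∀ r : F, (B : Matrix (Fin d) (Fin d) F) ≠ Matrix.scalar (Fin d) r) (α β : F)
    (hα : ∀ c : F, Module.finrank F (eigSp (A : Matrix (Fin d) (Fin d) F) c) ≤
      Module.finrank F (eigSp (A : Matrix (Fin d) (Fin d) F) α))
    (hle : Module.finrank F (eigSp (A : Matrix (Fin d) (Fin d) F) α) ≤
      Module.finrank F (eigSp (B : Matrix (Fin d) (Fin d) F) β))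
    (f : ℕ)
    (hf : ∀ G : Matrix.SpecialLinearGroup (Fin d) F, nfix (ℙ F (Fin d → F))
      ((G * A * G⁻¹ * B : Matrix.SpecialLinearGroup (Fin d) F) :
        Matrix.ProjectiveSpecialLinearGroup (Fin d) F) = f)
    (hfa : 2 ≤ nfix (ℙ F (Fin d → F)) (A : Matrix.ProjectiveSpecialLinearGroup (Fin d) F))
    (hfb : 2 ≤ nfix (ℙ F (Fin d → F)) (B : Matrix.ProjectiveSpecialLinearGroup (Fin d) F)) :
    False := by
  have hq : 2 ≤ Fintype.card F := Fintype.one_lt_card
  have hid := psl_identity hd A B f hf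
  have hn := three_le_card_proj (F := F) hd
  have hcp := card_proj (F := F) (d := d)
  have hA1 := evN_le_of_finrank_le A _ hα
  rw [evN_eq_nfix] at hA1
  have hB1 := evN_le_of_not_scalar (by omega) B hB
  rw [evN_eq_nfix] at hB1
  obtain ⟨mA, hmA⟩ : ∃ m, m = Module.finrank F (eigSp (A : Matrix (Fin d) (Fin d) F) α) :=
    ⟨_, rfl⟩
  rw [← hmA] at hA1 hle
  obtain ⟨fa, hfa'⟩ : ∃ m, m = nfix (ℙ F (Fin d → F))
    (A : Matrix.ProjectiveSpecialLinearGroup (Fin d) F) := ⟨_, rfl⟩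
  obtain ⟨fb, hfb'⟩ : ∃ m, m = nfix (ℙ F (Fin d → F))
    (B : Matrix.ProjectiveSpecialLinearGroup (Fin d) F) := ⟨_, rfl⟩
  obtain ⟨n, hn'⟩ : ∃ m, m = Nat.card (ℙ F (Fin d → F)) := ⟨_, rfl⟩
  obtain ⟨q, hq'⟩ : ∃ m, m = Fintype.card F := ⟨_, rfl⟩
  rw [← hfa'] at hA1 hid hfa
  rw [← hfb'] at hB1 hid hfb
  rw [← hn'] at hid hn hcp
  rw [← hq'] at hA1 hB1 hcp hq
  -- pass to integers
  have hM1 : 1 ≤ q ^ mA := Nat.one_le_pow _ _ (by omega)
  have hR : q ^ d = q * q ^ (d - 1) := by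
    rw [← pow_succ']
    congr 1
    omega
  have hR2 : q ^ 2 ≤ q ^ (d - 1) := Nat.pow_le_pow_right (by omega) (by omega)
  obtain ⟨R, hR'⟩ : ∃ m, m = q ^ (d - 1) := ⟨_, rfl⟩
  obtain ⟨M, hM'⟩ : ∃ m, m = q ^ mA := ⟨_, rfl⟩
  rw [← hR'] at hR hR2 hB1
  rw [hR] at hcp
  rw [← hM'] at hA1 hM1
  have hA1z : (fa : ℤ) * ((q : ℤ) - 1) ≤ ((q : ℤ) - 1) * ((M : ℤ) - 1) := by
    have := hA1
    zify [show 1 ≤ q by omega, hM1] at this
    exact this
  have hB1z : (fb : ℤ) * ((q : ℤ) - 1) ≤ (R : ℤ) + (q : ℤ) - 2 := by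
    have h1 : 2 ≤ R + q := by omega
    have := hB1
    zify [show 1 ≤ q by omega, h1] at this
    exact this
  have hcpz : (n : ℤ) * ((q : ℤ) - 1) + 1 = (q : ℤ) * (R : ℤ) := by
    have := hcp
    zify [show 1 ≤ q by omega] at this
    exact this
  have hqz : (2 : ℤ) ≤ (q : ℤ) := by exact_mod_cast hq
  have hnz : (3 : ℤ) ≤ (n : ℤ) := by exact_mod_cast hn
  have hfaz : (2 : ℤ) ≤ (fa : ℤ) := by exact_mod_cast hfa
  have hfbz : (2 : ℤ) ≤ (fb : ℤ) := by exact_mod_cast hfb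
  have hfa_le : (fa : ℤ) ≤ (M : ℤ) - 1 := by
    have h : ((q : ℤ) - 1) * (fa : ℤ) ≤ ((q : ℤ) - 1) * ((M : ℤ) - 1) := by linarith
    exact le_of_mul_le_mul_left h (by linarith)
  have hfb_le : (q : ℤ) * ((fb : ℤ) - 1) ≤ (n : ℤ) - 1 := by
    have h : ((q : ℤ) - 1) * ((q : ℤ) * ((fb : ℤ) - 1)) ≤ ((q : ℤ) - 1) * ((n : ℤ) - 1) := by
      nlinarith
    exact le_of_mul_le_mul_left h (by linarith)
  have hf_le : (q : ℤ) * ((f : ℤ) - 1) ≤ (fa : ℤ) - 1 := by
    have h : ((n : ℤ) - 1) * ((q : ℤ) * ((f : ℤ) - 1)) ≤ ((n : ℤ) - 1) * ((fa : ℤ) - 1) := by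
      have h1 : ((n : ℤ) - 1) * ((q : ℤ) * ((f : ℤ) - 1)) =
          ((fa : ℤ) - 1) * ((q : ℤ) * ((fb : ℤ) - 1)) := by
        linear_combination (q : ℤ) * hid
      rw [h1, mul_comm ((n : ℤ) - 1)]
      exact mul_le_mul_of_nonneg_left hfb_le (by linarith)
    exact le_of_mul_le_mul_left h (by linarith)
  have hf2 : (2 : ℤ) ≤ (f : ℤ) := by
    by_contra hlt
    push Not at hlt
    have h1 : ((n : ℤ) - 1) * ((f : ℤ) - 1) ≤ 0 :=
      mul_nonpos_of_nonneg_of_nonpos (by linarith) (by linarith)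
    have h2 : 0 < ((fa : ℤ) - 1) * ((fb : ℤ) - 1) := mul_pos (by linarith) (by linarith)
    linarith
  rcases Nat.lt_or_ge mA 2 with hm | hm
  · -- all eigenspaces of `A` are lines
    have hMq : M ≤ q := by
      rw [hM']
      calc q ^ mA ≤ q ^ 1 := Nat.pow_le_pow_right (by omega) (by omega)
        _ = q := pow_one q
    have hMqz : (M : ℤ) ≤ (q : ℤ) := by exact_mod_cast hMq
    have h1 : (q : ℤ) * 1 ≤ (q : ℤ) * ((f : ℤ) - 1) :=
      mul_le_mul_of_nonneg_left (by linarith) (by linarith)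
    linarith
  · -- a common large eigenspace
    have hMq : q ^ 2 ≤ M := by
      rw [hM']
      exact Nat.pow_le_pow_right (by omega) hm
    have hMqz : (q : ℤ) ^ 2 ≤ (M : ℤ) := by exact_mod_cast hMq
    obtain ⟨bA⟩ : Nonempty (Module.Basis (Fin mA) F (eigSp (A : Matrix (Fin d) (Fin d) F) α)) := by
      rw [hmA]
      exact ⟨Module.finBasis F _⟩
    obtain ⟨mB, hmB⟩ : ∃ m, m = Module.finrank F (eigSp (B : Matrix (Fin d) (Fin d) F) β) :=
      ⟨_, rfl⟩
    rw [← hmB] at hle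
    obtain ⟨bB⟩ : Nonempty (Module.Basis (Fin mB) F (eigSp (B : Matrix (Fin d) (Fin d) F) β)) := by
      rw [hmB]
      exact ⟨Module.finBasis F _⟩
    have hu : LinearIndependent F (fun i : Fin mA => ((bA i : eigSp (A : Matrix (Fin d) (Fin d) F) α) :
        Fin d → F)) :=
      bA.linearIndependent.map' (eigSp (A : Matrix (Fin d) (Fin d) F) α).subtype
        (Submodule.ker_subtype _)
    have hv : LinearIndependent F (fun i : Fin mA =>
        ((bB (Fin.castLE hle i) : eigSp (B : Matrix (Fin d) (Fin d) F) β) : Fin d → F)) :=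
      (bB.linearIndependent.comp (Fin.castLE hle) (Fin.castLE_injective hle)).map'
        (eigSp (B : Matrix (Fin d) (Fin d) F) β).subtype (Submodule.ker_subtype _)
    obtain ⟨G, c, hc, hG⟩ := exists_SL_map _ _ hu hv ⟨0, by omega⟩
    have hmap : ∀ w ∈ eigSp (A : Matrix (Fin d) (Fin d) F) α,
        (G : Matrix (Fin d) (Fin d) F) *ᵥ w ∈ eigSp (B : Matrix (Fin d) (Fin d) F) β := by
      intro w hw
      have h1 := congrArg Subtype.val (bA.sum_repr ⟨w, hw⟩)
      rw [Submodule.coe_sum] at h1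
      simp only [Submodule.coe_smul] at h1
      rw [← h1, Matrix.mulVec_sum]
      refine Submodule.sum_mem _ (fun i _ => ?_)
      rw [Matrix.mulVec_smul]
      refine Submodule.smul_mem _ _ ?_
      rw [hG i]
      split_ifs
      · exact Submodule.smul_mem _ _ (Subtype.property _)
      · exact Subtype.property _
    have hge := evN_conj_ge G A B α β hmap
    rw [evN_eq_nfix, hf G, ← hmA, ← hq', ← hM'] at hge
    have hgez : (M : ℤ) - 1 ≤ (f : ℤ) * ((q : ℤ) - 1) := by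
      have := hge
      zify [show 1 ≤ q by omega, hM1] at this
      exact this
    have h1 : (q : ℤ) * ((M : ℤ) - 1) ≤ (q : ℤ) * ((f : ℤ) * ((q : ℤ) - 1)) :=
      mul_le_mul_of_nonneg_left hgez (by linarith)
    have h2 : ((q : ℤ) * (f : ℤ)) * ((q : ℤ) - 1) ≤ ((M : ℤ) + (q : ℤ) - 2) * ((q : ℤ) - 1) :=
      mul_le_mul_of_nonneg_right (by linarith) (by linarith)
    linarith

/-- For non-scalar `A, B ∈ SL_d(F)`, `d ≥ 3`, the products `G A G⁻¹ B` and `G B G⁻¹ A` do not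
all have the same number of fixed projective points. -/
theorem classprod_main (hd : 3 ≤ d) (A B : Matrix.SpecialLinearGroup (Fin d) F)
    (hA : ∀ r : F, (A : Matrix (Fin d) (Fin d) F) ≠ Matrix.scalar (Fin d) r)
    (hB : ∀ r : F, (B : Matrix (Fin d) (Fin d) F) ≠ Matrix.scalar (Fin d) r) (f : ℕ)
    (hf : ∀ G : Matrix.SpecialLinearGroup (Fin d) F, nfix (ℙ F (Fin d → F))
      ((G * A * G⁻¹ * B : Matrix.SpecialLinearGroup (Fin d) F) :
        Matrix.ProjectiveSpecialLinearGroup (Fin d) F) = f)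
    (hf' : ∀ G : Matrix.SpecialLinearGroup (Fin d) F, nfix (ℙ F (Fin d → F))
      ((G * B * G⁻¹ * A : Matrix.SpecialLinearGroup (Fin d) F) :
        Matrix.ProjectiveSpecialLinearGroup (Fin d) F) = f) : False := by
  have hid := psl_identity hd A B f hf
  have hn := three_le_card_proj (F := F) hd
  have hAlt := nfix_lt_card (by omega) A hA
  have hBlt := nfix_lt_card (by omega) B hB
  have hnz : (3 : ℤ) ≤ (Nat.card (ℙ F (Fin d → F)) : ℤ) := by exact_mod_cast hn
  have hAltz : (nfix (ℙ F (Fin d → F)) (A : Matrix.ProjectiveSpecialLinearGroup (Fin d) F) : ℤ) <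
      (Nat.card (ℙ F (Fin d → F)) : ℤ) := by exact_mod_cast hAlt
  have hBltz : (nfix (ℙ F (Fin d → F)) (B : Matrix.ProjectiveSpecialLinearGroup (Fin d) F) : ℤ) <
      (Nat.card (ℙ F (Fin d → F)) : ℤ) := by exact_mod_cast hBlt
  -- the case `f = 1` forced by a factor `0`
  have hf1 : ((nfix (ℙ F (Fin d → F)) (A : Matrix.ProjectiveSpecialLinearGroup (Fin d) F) : ℤ) - 1) *
      ((nfix (ℙ F (Fin d → F)) (B : Matrix.ProjectiveSpecialLinearGroup (Fin d) F) : ℤ) - 1) = 0 →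
      f = 1 := by
    intro h0
    rw [h0] at hid
    rcases mul_eq_zero.mp hid with h | h
    · linarith
    · have : (f : ℤ) = 1 := by linarith
      exact_mod_cast this
  by_cases hb1 : nfix (ℙ F (Fin d → F)) (B : Matrix.ProjectiveSpecialLinearGroup (Fin d) F) = 1
  · have hf1' := hf1 (by rw [hb1]; simp)
    obtain ⟨G, hG⟩ := alpha_core hd A B hA hB hb1
    rw [hf G] at hG
    omega
  by_cases ha1 : nfix (ℙ F (Fin d → F)) (A : Matrix.ProjectiveSpecialLinearGroup (Fin d) F) = 1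
  · have hf1' := hf1 (by rw [ha1]; simp)
    obtain ⟨G, hG⟩ := alpha_core hd B A hB hA ha1
    rw [hf' G] at hG
    omega
  -- a general sign argument: a factor `-1` is impossible
  have hneg : ∀ x : ℤ, 0 ≤ x → x < (Nat.card (ℙ F (Fin d → F)) : ℤ) → x ≠ 1 →
      ((Nat.card (ℙ F (Fin d → F)) : ℤ) - 1) * ((f : ℤ) - 1) = -(x - 1) → False := by
    intro x hx0 hxn hx1 hx
    have hfz : (0 : ℤ) ≤ (f : ℤ) := Int.natCast_nonneg f
    rcases lt_trichotomy (f : ℤ) 1 with h | h | h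
    · have h0 : (f : ℤ) = 0 := by omega
      rw [h0] at hx
      linarith
    · rw [h] at hx
      have : x = 1 := by linarith
      exact hx1 this
    · have h2 : ((Nat.card (ℙ F (Fin d → F)) : ℤ) - 1) * 1 ≤
          ((Nat.card (ℙ F (Fin d → F)) : ℤ) - 1) * ((f : ℤ) - 1) :=
        mul_le_mul_of_nonneg_left (by linarith) (by linarith)
      linarith
  by_cases ha0 : nfix (ℙ F (Fin d → F)) (A : Matrix.ProjectiveSpecialLinearGroup (Fin d) F) = 0
  · apply hneg _ (Int.natCast_nonneg _) hBltz (by exact_mod_cast hb1)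
    rw [hid, ha0]
    push_cast
    ring
  by_cases hb0 : nfix (ℙ F (Fin d → F)) (B : Matrix.ProjectiveSpecialLinearGroup (Fin d) F) = 0
  · apply hneg _ (Int.natCast_nonneg _) hAltz (by exact_mod_cast ha1)
    rw [hid, hb0]
    push_cast
    ring
  have hfa : 2 ≤ nfix (ℙ F (Fin d → F)) (A : Matrix.ProjectiveSpecialLinearGroup (Fin d) F) := by
    omega
  have hfb : 2 ≤ nfix (ℙ F (Fin d → F)) (B : Matrix.ProjectiveSpecialLinearGroup (Fin d) F) := by
    omega
  obtain ⟨α, -, hα⟩ := Finset.exists_max_image Finset.univ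
    (fun c : F => Module.finrank F (eigSp (A : Matrix (Fin d) (Fin d) F) c)) ⟨0, Finset.mem_univ _⟩
  obtain ⟨β, -, hβ⟩ := Finset.exists_max_image Finset.univ
    (fun c : F => Module.finrank F (eigSp (B : Matrix (Fin d) (Fin d) F) c)) ⟨0, Finset.mem_univ _⟩
  rcases le_total (Module.finrank F (eigSp (A : Matrix (Fin d) (Fin d) F) α))
    (Module.finrank F (eigSp (B : Matrix (Fin d) (Fin d) F) β)) with hle | hle
  · exact beta_core hd A B hB α β (fun c => hα c (Finset.mem_univ _)) hle f hf hfa hfb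
  · exact beta_core hd B A hA β α (fun c => hβ c (Finset.mem_univ _)) hle f hf' hfb hfa

end classprod

end Cfsg.Agent.H43
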