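import Mathlib

/-!
# Counting fixed points under a normal elementary abelian subgroup of rank two

`V` is a finite abelian group of order prime to `p`, and `φ`, `ψ`, `γ` are automorphisms of `V`
with `φ ^ p = ψ ^ p = 1`, `φ ψ = ψ φ`, `ψ` fixed-point-free, `γ` commuting with `ψ` and
conjugating `φ` to `φ ψ ^ j` with `p ∤ j`.  Then `V` is the direct product of the fixed-point
groups of the `φ ψ ^ i`, these are permuted cyclically by `γ`, and so `|C_V(γ)| ^ p ≤ |V|`.
-/

set_option autoImplicit false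

namespace Cfsg.Agent.H43

section PowVal

variable {M : Type*} [Monoid M] {p : ℕ} [NeZero p]

omit [NeZero p] in
theorem pow_val_natCast (a : M) (ha : a ^ p = 1) (m : ℕ) : a ^ ((m : ZMod p).val) = a ^ m := by
  rw [ZMod.val_natCast]
  conv_rhs => rw [← Nat.div_add_mod m p, pow_add, pow_mul, ha, one_pow, one_mul]

theorem pow_val_add (a : M) (ha : a ^ p = 1) (b c : ZMod p) :
    a ^ (b + c).val = a ^ b.val * a ^ c.val := by
  rw [← pow_add, ← pow_val_natCast a ha (b.val + c.val)]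
  simp

theorem pow_val_mul (a : M) (ha : a ^ p = 1) (b c : ZMod p) :
    a ^ (b * c).val = (a ^ b.val) ^ c.val := by
  rw [← pow_mul, ← pow_val_natCast a ha (b.val * c.val)]
  simp

end PowVal

section Norm

variable {V : Type*} [CommGroup V] {p : ℕ} [hp : Fact p.Prime]

/-- The norm map of `V` along the cyclic group generated by `a` (when `a ^ p = 1`). -/
noncomputable def nrmZ (p : ℕ) [NeZero p] (a : MulAut V) : V →* V :=
  ∏ b : ZMod p, ((a ^ b.val : MulAut V).toMonoidHom)

theorem nrmZ_apply (a : MulAut V) (v : V) : nrmZ p a v = ∏ b : ZMod p, (a ^ b.val) v := by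
  simp [nrmZ, MonoidHom.finsetProd_apply]

theorem pow_apply_of_fixed (a : MulAut V) (w : V) (hw : a w = w) (k : ℕ) : (a ^ k) w = w := by
  induction k with
  | zero => simp
  | succ k ih => rw [pow_succ, MulAut.mul_apply, hw, ih]

/-- If `c * a * c⁻¹ = a'` then `c` carries the `a`-norm to the `a'`-norm. -/
theorem apply_nrmZ (a a' c : MulAut V) (h : c * a * c⁻¹ = a') (v : V) :
    c (nrmZ p a v) = nrmZ p a' (c v) := by
  rw [nrmZ_apply, nrmZ_apply, map_prod]
  refine Finset.prod_congr rfl (fun b _ => ?_)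
  have h1 : c * a ^ b.val = a' ^ b.val * c := by
    rw [← h, conj_pow]; group
  have := congrArg (fun f : MulAut V => f v) h1
  simpa [MulAut.mul_apply] using this

theorem apply_nrmZ_of_commute (a c : MulAut V) (h : Commute c a) (v : V) :
    c (nrmZ p a v) = nrmZ p a (c v) :=
  apply_nrmZ a a c (by rw [h.eq, mul_inv_cancel_right]) v

theorem nrmZ_fixed (a : MulAut V) (ha : a ^ p = 1) (v : V) : a (nrmZ p a v) = nrmZ p a v := by
  rw [nrmZ_apply, map_prod]
  have h1 : a ^ (1 : ZMod p).val = a := by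
    have := pow_val_natCast a ha 1
    simpa using this
  have : ∀ b : ZMod p, a ((a ^ b.val) v) = (a ^ (b + 1).val) v := by
    intro b
    rw [pow_val_add a ha, ← MulAut.mul_apply, h1, ← pow_succ, ← pow_succ']
  simp_rw [this]
  exact Equiv.prod_comp (Equiv.addRight (1 : ZMod p)) (fun b => (a ^ b.val) v)

theorem nrmZ_of_fixed (a : MulAut V) (w : V) (hw : a w = w) : nrmZ p a w = w ^ p := by
  rw [nrmZ_apply]
  simp_rw [pow_apply_of_fixed a w hw]
  simp

/-- The norms along the `p` subgroups `⟨φ ψ ^ i⟩` multiply to the `p`-th power. -/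
theorem prod_nrmZ (φ ψ : MulAut V) (hc : Commute φ ψ) (hψ : ψ ^ p = 1)
    (hfix : ∀ v, ψ v = v → v = 1) (v : V) :
    ∏ i : ZMod p, nrmZ p (φ * ψ ^ i.val) v = v ^ p := by
  simp_rw [nrmZ_apply]
  rw [Finset.prod_comm]
  rw [Finset.prod_eq_single (0 : ZMod p)]
  · simp
  · intro b _ hb
    have h1 : ∀ i : ZMod p,
        ((φ * ψ ^ i.val) ^ b.val) v = (φ ^ b.val) ((ψ ^ (i * b).val) v) := by
      intro i
      rw [(hc.pow_right i.val).mul_pow, pow_val_mul ψ hψ, MulAut.mul_apply]
    simp_rw [h1]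
    rw [← map_prod]
    have h2 : ∏ i : ZMod p, (ψ ^ (i * b).val) v = nrmZ p ψ v := by
      rw [nrmZ_apply]
      exact Equiv.prod_comp (Equiv.mulRight₀ b hb) (fun j => (ψ ^ j.val) v)
    rw [h2, hfix _ (nrmZ_fixed ψ hψ v), map_one]
  · intro h; exact absurd (Finset.mem_univ _) h

/-- The counting bound. -/
theorem card_fixed_pow_le [Finite V] (φ ψ γ : MulAut V) (hc : Commute φ ψ) (hφ : φ ^ p = 1)
    (hψ : ψ ^ p = 1) (hfix : ∀ v, ψ v = v → v = 1) (hγψ : Commute γ ψ) (j : ℕ) (hj : ¬ p ∣ j)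
    (hγφ : γ * φ * γ⁻¹ = φ * ψ ^ j) (hcop : (Nat.card V).Coprime p) :
    Nat.card {v : V // γ v = v} ^ p ≤ Nat.card V := by
  classical
  set a : ZMod p → MulAut V := fun i => φ * ψ ^ i.val with hadef
  have hap : ∀ i, a i ^ p = 1 := by
    intro i
    simp only [hadef]
    rw [(hc.pow_right i.val).mul_pow, hφ, one_mul, ← pow_mul, mul_comm, pow_mul, hψ, one_pow]
  have hacomm : ∀ i i', Commute (a i) (a i') := by
    intro i i'
    simp only [hadef]
    exact ((Commute.refl φ).mul_right (hc.pow_right _)).mul_left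
      ((hc.symm.pow_left _).mul_right (Commute.pow_pow_self ψ _ _))
  have hγa : ∀ i, γ * a i * γ⁻¹ = a (i + (j : ZMod p)) := by
    intro i
    simp only [hadef]
    have h1 : γ * (φ * ψ ^ i.val) * γ⁻¹ = (γ * φ * γ⁻¹) * (γ * ψ ^ i.val * γ⁻¹) := by group
    have h2 : γ * ψ ^ i.val * γ⁻¹ = ψ ^ i.val := by
      rw [(hγψ.pow_right i.val).eq, mul_inv_cancel_right]
    rw [h1, hγφ, h2, mul_assoc, pow_val_add ψ hψ, pow_val_natCast ψ hψ, ← pow_add, ← pow_add,
      add_comm]
  have hpow : ∀ x y : V, x ^ p = y ^ p → x = y := fun x y h => (powCoprime hcop).injective h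
  have hj0 : (j : ZMod p) ≠ 0 := by
    rw [Ne, ZMod.natCast_eq_zero_iff]; exact hj
  have hK : ∀ u : V, γ u = u → ∀ i, nrmZ p (a i) u = 1 → u = 1 := by
    intro u hu i hi
    have h1 : ∀ m : ℕ, nrmZ p (a (i + m * (j : ZMod p))) u = 1 := by
      intro m
      induction m with
      | zero => simpa using hi
      | succ m ih =>
        have h2 := apply_nrmZ (p := p) (a (i + m * (j : ZMod p))) _ γ (hγa _) u
        rw [ih, map_one, hu] at h2
        have h3 : i + ((m + 1 : ℕ) : ZMod p) * (j : ZMod p)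
            = i + m * (j : ZMod p) + (j : ZMod p) := by
          push_cast; ring
        rw [h3]; exact h2.symm
    have h2 : ∀ i', nrmZ p (a i') u = 1 := by
      intro i'
      have h3 := h1 (((i' - i) * (j : ZMod p)⁻¹).val)
      rw [ZMod.natCast_zmod_val] at h3
      have h4 : i + (i' - i) * (j : ZMod p)⁻¹ * (j : ZMod p) = i' := by
        rw [mul_assoc, inv_mul_cancel₀ hj0]; ring
      rwa [h4] at h3
    have h5 := prod_nrmZ φ ψ hc hψ hfix u
    rw [Finset.prod_eq_one (fun i _ => h2 i)] at h5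
    exact hpow u 1 (by rw [← h5, one_pow])
  have hB3 : ∀ i i' : ZMod p, i ≠ i' → ∀ w : V, a i' w = w → nrmZ p (a i) w = 1 := by
    intro i i' hii w hw
    obtain ⟨x, hx⟩ : ∃ x, x = nrmZ p (a i) w := ⟨_, rfl⟩
    rw [← hx]
    have h1 : a i x = x := by rw [hx]; exact nrmZ_fixed (a i) (hap i) w
    have h2 : a i' x = x := by
      rw [hx, apply_nrmZ_of_commute (a i) (a i') (hacomm i' i), hw]
    obtain ⟨d, hd⟩ : ∃ d : ZMod p, d = i' - i := ⟨_, rfl⟩
    have hd0 : d ≠ 0 := by rw [hd]; exact sub_ne_zero.mpr (Ne.symm hii)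
    have h3 : a i' = a i * ψ ^ d.val := by
      simp only [hadef]
      rw [mul_assoc, ← pow_val_add ψ hψ]
      have : i + d = i' := by rw [hd]; ring
      rw [this]
    have h4 : (ψ ^ d.val) x = x := by
      have h5 : a i ((ψ ^ d.val) x) = a i x := by
        rw [← MulAut.mul_apply, ← h3, h2, h1]
      exact (a i).injective h5
    have h6 : ψ x = x := by
      have h7 : (ψ ^ d.val) ^ (d⁻¹).val = ψ := by
        rw [← pow_val_mul ψ hψ, mul_inv_cancel₀ hd0]
        have := pow_val_natCast ψ hψ 1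
        simpa using this
      rw [← h7]
      exact pow_apply_of_fixed _ x h4 _
    exact hfix x h6
  let Θ : (ZMod p → {v : V // γ v = v}) → V := fun f => ∏ i : ZMod p, nrmZ p (a i) (f i : V)
  have hΘ : Function.Injective Θ := by
    intro f f' hff
    funext i₀
    have h1 : ∀ g : ZMod p → {v : V // γ v = v},
        nrmZ p (a i₀) (Θ g) = (nrmZ p (a i₀) (g i₀ : V)) ^ p := by
      intro g
      simp only [Θ]
      rw [map_prod, Finset.prod_eq_single i₀]
      · exact nrmZ_of_fixed (a i₀) _ (nrmZ_fixed (a i₀) (hap i₀) _)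
      · intro i _ hi
        exact hB3 i₀ i (Ne.symm hi) _ (nrmZ_fixed (a i) (hap i) _)
      · intro h; exact absurd (Finset.mem_univ _) h
    have h2 : nrmZ p (a i₀) (f i₀ : V) = nrmZ p (a i₀) (f' i₀ : V) := by
      apply hpow
      rw [← h1 f, ← h1 f', hff]
    have h3 : nrmZ p (a i₀) ((f i₀ : V) * (f' i₀ : V)⁻¹) = 1 := by
      rw [map_mul, map_inv, h2, mul_inv_cancel]
    have h4 : γ ((f i₀ : V) * (f' i₀ : V)⁻¹) = (f i₀ : V) * (f' i₀ : V)⁻¹ := by
      rw [map_mul, map_inv, (f i₀).2, (f' i₀).2]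
    have h5 := hK _ h4 i₀ h3
    exact Subtype.ext (mul_inv_eq_one.mp h5)
  have h := Nat.card_le_card_of_injective Θ hΘ
  rwa [Nat.card_fun, Nat.card_zmod] at h

end Norm

/-- `card_fixed_pow_le` for a group known to be commutative. -/
theorem card_fixed_pow_le' {V : Type*} [Group V] [Finite V] (hcomm : ∀ a b : V, a * b = b * a)
    {p : ℕ} [Fact p.Prime] (φ ψ γ : MulAut V) (hc : Commute φ ψ) (hφ : φ ^ p = 1)
    (hψ : ψ ^ p = 1) (hfix : ∀ v, ψ v = v → v = 1) (hγψ : Commute γ ψ) (j : ℕ) (hj : ¬ p ∣ j)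
    (hγφ : γ * φ * γ⁻¹ = φ * ψ ^ j) (hcop : (Nat.card V).Coprime p) :
    Nat.card {v : V // γ v = v} ^ p ≤ Nat.card V := by
  let _ : CommGroup V := { (inferInstance : Group V) with mul_comm := hcomm }
  exact card_fixed_pow_le φ ψ γ hc hφ hψ hfix hγψ j hj hγφ hcop

/-- If all the `φ ψ ^ k` and `ψ` are fixed-point-free then `V` is trivial. -/
theorem eq_one_of_fixed_trivial {V : Type*} [Group V] (hcomm : ∀ a b : V, a * b = b * a)
    {p : ℕ} [Fact p.Prime] (φ ψ : MulAut V) (hc : Commute φ ψ) (hφ : φ ^ p = 1) (hψ : ψ ^ p = 1)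
    (hfix : ∀ v, ψ v = v → v = 1) (hfix' : ∀ (k : ℕ) (v : V), (φ * ψ ^ k) v = v → v = 1)
    (hcop : (Nat.card V).Coprime p) (v : V) : v = 1 := by
  let _ : CommGroup V := { (inferInstance : Group V) with mul_comm := hcomm }
  have h1 := prod_nrmZ φ ψ hc hψ hfix v
  have h2 : ∀ i : ZMod p, nrmZ p (φ * ψ ^ i.val) v = 1 := by
    intro i
    apply hfix' i.val
    apply nrmZ_fixed
    rw [(hc.pow_right i.val).mul_pow, hφ, one_mul, ← pow_mul, mul_comm, pow_mul, hψ, one_pow]
  rw [Finset.prod_eq_one (fun i _ => h2 i)] at h1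
  exact (powCoprime hcop).injective (show v ^ p = 1 ^ p by rw [← h1, one_pow])

end Cfsg.Agent.H43
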