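import Mathlib
import Cfsg.Agent.H1.FPF

/-!
# A central pair in a noncyclic `p`-group, `p` odd

For a noncyclic finite `p`-group `P` with `p` odd there are `z ∈ Z(P)` of order `p` and
`e ∉ ⟨z⟩` with `e ^ p = 1` and `[P, e] ≤ ⟨z⟩`: so `⟨z, e⟩` is a normal elementary abelian
subgroup of rank two.
-/

set_option autoImplicit false

namespace Cfsg.Agent.H43

universe u

theorem pow_mul_comm_central {P : Type*} [Group P] (x y c : P) (hc : c ∈ Subgroup.center P)
    (h : y * x = x * y * c) (n : ℕ) : y ^ n * x = x * y ^ n * c ^ n := by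
  have hcc : ∀ (m : ℕ) (g : P), g * c ^ m = c ^ m * g := fun m g =>
    Subgroup.mem_center_iff.mp (Subgroup.pow_mem _ hc m) g
  induction n with
  | zero => simp
  | succ n ih =>
    calc y ^ (n + 1) * x = y ^ n * (y * x) := by rw [pow_succ, mul_assoc]
      _ = y ^ n * (x * y * c) := by rw [h]
      _ = (y ^ n * x) * y * c := by simp only [mul_assoc]
      _ = x * y ^ n * c ^ n * y * c := by rw [ih]
      _ = x * y ^ n * (y * c ^ n) * c := by rw [hcc n y]; simp only [mul_assoc]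
      _ = x * y ^ (n + 1) * c ^ (n + 1) := by simp only [pow_succ, mul_assoc]

theorem mul_pow_central {P : Type*} [Group P] (x y c : P) (hc : c ∈ Subgroup.center P)
    (h : y * x = x * y * c) (n : ℕ) : (x * y) ^ n = x ^ n * y ^ n * c ^ (n.choose 2) := by
  have hcc : ∀ (m : ℕ) (g : P), g * c ^ m = c ^ m * g := fun m g =>
    Subgroup.mem_center_iff.mp (Subgroup.pow_mem _ hc m) g
  induction n with
  | zero => simp
  | succ n ih =>
    have h2 : (n + 1).choose 2 = n + n.choose 2 := by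
      rw [Nat.choose_succ_succ, Nat.choose_one_right]
    calc (x * y) ^ (n + 1) = (x * y) ^ n * (x * y) := pow_succ _ _
      _ = x ^ n * y ^ n * c ^ (n.choose 2) * (x * y) := by rw [ih]
      _ = x ^ n * (y ^ n * x) * y * c ^ (n.choose 2) := by
        rw [mul_assoc (x ^ n * y ^ n), ← hcc (n.choose 2) (x * y)]; simp only [mul_assoc]
      _ = x ^ n * (x * y ^ n * c ^ n) * y * c ^ (n.choose 2) := by
        rw [pow_mul_comm_central x y c hc h n]
      _ = x ^ n * x * y ^ n * (y * c ^ n) * c ^ (n.choose 2) := by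
        rw [hcc n y]; simp only [mul_assoc]
      _ = x ^ (n + 1) * y ^ (n + 1) * c ^ ((n + 1).choose 2) := by
        rw [h2, pow_add c n]; simp only [pow_succ, mul_assoc]

theorem mul_pow_prime_central {P : Type*} [Group P] {p : ℕ} (hp : p.Prime) (hp2 : p ≠ 2)
    (x y c : P) (hc : c ∈ Subgroup.center P) (hcp : c ^ p = 1)
    (h : y * x = x * y * c) : (x * y) ^ p = x ^ p * y ^ p := by
  rw [mul_pow_central x y c hc h p]
  have h2 : p ∣ p.choose 2 := hp.dvd_choose_self (by norm_num) (by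
    have := hp.two_le; omega)
  obtain ⟨m, hm⟩ := h2
  rw [hm, pow_mul, hcp, one_pow, mul_one]

theorem exists_central_pair_aux {p : ℕ} [hp : Fact p.Prime] (hp2 : p ≠ 2) : ∀ n : ℕ,
    ∀ (P : Type u) [Group P] [Finite P], Nat.card P = n → IsPGroup p P → ¬ IsCyclic P →
    ∃ z e : P, z ∈ Subgroup.center P ∧ orderOf z = p ∧ e ^ p = 1 ∧ e ∉ Subgroup.zpowers z ∧
      ∀ g : P, g * e * g⁻¹ * e⁻¹ ∈ Subgroup.zpowers z := by
  intro n
  induction n using Nat.strong_induction_on with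
  | _ n ih =>
  intro P _ _ hn hP hcyc
  have hnt : Nontrivial P := by
    by_contra h
    rw [not_nontrivial_iff_subsingleton] at h
    exact hcyc inferInstance
  have := hP.center_nontrivial
  have hdvd : p ∣ Nat.card (Subgroup.center P) := by
    rcases (hP.to_subgroup (Subgroup.center P)).card_eq_or_dvd with h | h
    · have := Finite.one_lt_card (α := Subgroup.center P)
      omega
    · exact h
  obtain ⟨z0', hz0'⟩ := exists_prime_orderOf_dvd_card' (G := Subgroup.center P) p hdvd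
  obtain ⟨z0, hz0c⟩ := z0'
  have hz0o : orderOf z0 = p := by
    rw [← hz0']; exact (Subgroup.orderOf_mk z0 hz0c).symm
  set Z : Subgroup P := Subgroup.zpowers z0 with hZdef
  have hZle : Z ≤ Subgroup.center P := by rw [hZdef, Subgroup.zpowers_le]; exact hz0c
  have hZn : Z.Normal := ⟨fun a ha g => by
    have h1 := Subgroup.mem_center_iff.mp (hZle ha) g
    rw [h1, mul_inv_cancel_right]; exact ha⟩
  have hZcard : Nat.card Z = p := by rw [hZdef, Nat.card_zpowers, hz0o]
  have hZp : ∀ t ∈ Z, t ^ p = 1 := by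
    intro t ht
    obtain ⟨k, rfl⟩ := Subgroup.mem_zpowers_iff.mp ht
    rw [← zpow_natCast, ← zpow_mul, mul_comm, zpow_mul, zpow_natCast, ← hz0o, pow_orderOf_eq_one,
      one_zpow]
  have hZgen : ∀ t ∈ Z, t ≠ 1 → z0 ∈ Subgroup.zpowers t := by
    intro t ht ht1
    have h1 : (⟨z0, Subgroup.mem_zpowers z0⟩ : Z) ∈ Subgroup.zpowers (⟨t, ht⟩ : Z) :=
      mem_zpowers_of_prime_card hZcard (by intro h; exact ht1 (congrArg Subtype.val h))
    obtain ⟨k, hk⟩ := Subgroup.mem_zpowers_iff.mp h1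
    rw [Subgroup.mem_zpowers_iff]
    exact ⟨k, by simpa using congrArg Subtype.val hk⟩
  set π : P →* P ⧸ Z := QuotientGroup.mk' Z with hπdef
  have hπ : ∀ g : P, π g = 1 ↔ g ∈ Z := fun g => QuotientGroup.eq_one_iff g
  have hQcard : Nat.card (P ⧸ Z) < n := by
    have h1 := Subgroup.card_eq_card_quotient_mul_card_subgroup Z
    rw [hn, hZcard] at h1
    have h2 : 0 < Nat.card (P ⧸ Z) := Nat.card_pos
    have h3 := hp.out.two_le
    nlinarith
  by_cases hQ : IsCyclic (P ⧸ Z)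
  · have hcomm : ∀ a b : P, a * b = b * a := by
      intro a b
      have := π.isMulCommutative_of_isCyclic_of_ker_le_center
        (by rw [hπdef, QuotientGroup.ker_mk']; exact hZle)
      exact this.is_comm.comm a b
    obtain ⟨p', x, y, hp', hx1, hxp, hyp, hy⟩ := H1.FPF.exists_noncyclic_pair hcomm hcyc
    have hpp : p' = p := by
      have : Fact p'.Prime := ⟨hp'⟩
      have hxo : orderOf x = p' := orderOf_eq_prime hxp hx1
      obtain ⟨k, hk⟩ := (IsPGroup.iff_orderOf.mp hP) x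
      rw [hxo] at hk
      have : p ∣ p' := by
        rcases k with _ | k
        · simp at hk; exact absurd hk hp'.one_lt.ne'
        · rw [hk]; exact dvd_pow_self p (Nat.succ_ne_zero k)
      exact ((Nat.prime_dvd_prime_iff_eq hp.out hp').mp this).symm
    subst hpp
    have hcomm' : ∀ g e : P, g * e * g⁻¹ * e⁻¹ ∈ Z := by
      intro g e
      rw [hcomm g e, mul_inv_cancel_right, mul_inv_cancel]; exact Z.one_mem
    by_cases hxz : x ∈ Z
    · refine ⟨z0, y, hz0c, hz0o, hyp, ?_, fun g => hcomm' g y⟩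
      intro hyZ
      have h1 : z0 ∈ Subgroup.zpowers x := hZgen x hxz hx1
      exact hy ((Subgroup.zpowers_le.mpr h1) hyZ)
    · exact ⟨z0, x, hz0c, hz0o, hxp, hxz, fun g => hcomm' g x⟩
  · obtain ⟨zb, eb, hzbc, hzbo, hebp, hebz, hebg⟩ :=
      ih _ hQcard (P ⧸ Z) rfl (hP.to_quotient Z) hQ
    obtain ⟨z1, hz1⟩ : ∃ z1, π z1 = zb := QuotientGroup.mk'_surjective Z zb
    obtain ⟨e1, he1⟩ : ∃ e1, π e1 = eb := QuotientGroup.mk'_surjective Z eb
    subst hz1 he1
    have f1 : z1 ∉ Z := by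
      intro h
      have h1 : π z1 = 1 := (hπ z1).mpr h
      rw [h1, orderOf_one] at hzbo
      exact hp.out.one_lt.ne hzbo
    have f2 : z1 ^ p ∈ Z := by
      rw [← hπ, map_pow, ← hzbo]; exact pow_orderOf_eq_one _
    have f3k : ∀ (k : ℤ) (g : P), g * z1 ^ k * g⁻¹ * (z1 ^ k)⁻¹ ∈ Z := by
      intro k g
      rw [← hπ]
      simp only [map_mul, map_inv, map_zpow]
      have := Subgroup.mem_center_iff.mp (Subgroup.zpow_mem _ hzbc k) (π g)
      rw [this, mul_inv_cancel_right, mul_inv_cancel]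
    have f3 : ∀ g : P, g * z1 * g⁻¹ * z1⁻¹ ∈ Z := by
      intro g
      have := f3k 1 g
      simpa using this
    have f4 : e1 ^ p ∈ Z := by
      rw [← hπ, map_pow]; exact hebp
    have key : ∀ (u : P), (∀ g : P, g * u * g⁻¹ * u⁻¹ ∈ Z) → ∀ w : P,
        ∃ c ∈ Z, w * u = u * w * c := by
      intro u hu w
      refine ⟨w⁻¹ * u⁻¹ * w * u, ?_, by group⟩
      have h1 := hu w⁻¹
      have h2 := hZn.conj_mem _ (Z.inv_mem h1) u⁻¹
      convert h2 using 1
      group
    by_cases hz1p : z1 ^ p = 1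
    · exact ⟨z0, z1, hz0c, hz0o, hz1p, f1, f3⟩
    · have hz0mem : z0 ∈ Subgroup.zpowers (z1 ^ p) := hZgen _ f2 hz1p
      have hZle' : Z ≤ Subgroup.zpowers (z1 ^ p) := by
        rw [hZdef, Subgroup.zpowers_le]; exact hz0mem
      obtain ⟨a, ha⟩ := Subgroup.mem_zpowers_iff.mp (hZle' f4)
      obtain ⟨e, hedef⟩ : ∃ e : P, e = z1 ^ (-a) * e1 := ⟨_, rfl⟩
      have hep : e ^ p = 1 := by
        obtain ⟨c, hc, hcomm⟩ := key (z1 ^ (-a)) (f3k (-a)) e1
        rw [hedef, mul_pow_prime_central hp.out hp2 (z1 ^ (-a)) e1 c (hZle hc) (hZp c hc) hcomm,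
          ← ha]
        rw [← zpow_natCast (z1 ^ (-a)) p, ← zpow_mul, ← zpow_natCast z1 p, ← zpow_mul, ← zpow_add]
        have : -a * (p : ℤ) + (p : ℤ) * a = 0 := by ring
        rw [this, zpow_zero]
      have heZ : e ∉ Z := by
        intro h
        apply hebz
        have h1 : π e = 1 := (hπ e).mpr h
        rw [hedef, map_mul, map_zpow] at h1
        rw [Subgroup.mem_zpowers_iff]
        refine ⟨a, ?_⟩
        rw [zpow_neg, inv_mul_eq_one] at h1
        exact h1
      refine ⟨z0, e, hz0c, hz0o, hep, heZ, ?_⟩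
      intro g
      have hw : π (g * e * g⁻¹ * e⁻¹) ∈ Subgroup.zpowers (π z1) := by
        have h1 := hebg (π g)
        have hc := Subgroup.mem_center_iff.mp (Subgroup.zpow_mem _ hzbc (-a))
        have h2 : π (g * e * g⁻¹ * e⁻¹) = π g * π e1 * (π g)⁻¹ * (π e1)⁻¹ := by
          rw [hedef]
          simp only [map_mul, map_inv, map_zpow]
          generalize (π z1) ^ (-a) = ζ at hc
          calc π g * (ζ * π e1) * (π g)⁻¹ * (ζ * π e1)⁻¹
              = (π g * ζ) * π e1 * (π g)⁻¹ * (π e1)⁻¹ * ζ⁻¹ := by group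
            _ = ζ * (π g * π e1 * (π g)⁻¹ * (π e1)⁻¹) * ζ⁻¹ := by rw [hc (π g)]; group
            _ = (π g * π e1 * (π g)⁻¹ * (π e1)⁻¹) * ζ * ζ⁻¹ := by
              rw [hc (π g * π e1 * (π g)⁻¹ * (π e1)⁻¹)]
            _ = π g * π e1 * (π g)⁻¹ * (π e1)⁻¹ := by group
        rw [h2]; exact h1
      obtain ⟨k, hk⟩ := Subgroup.mem_zpowers_iff.mp hw
      obtain ⟨T, hT⟩ : ∃ T : P, T = (z1 ^ k)⁻¹ * (g * e * g⁻¹ * e⁻¹) := ⟨_, rfl⟩
      have ht : T ∈ Z := by
        rw [hT, ← hπ, map_mul, map_inv, map_zpow, hk, inv_mul_cancel]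
      have h1 : (g * e * g⁻¹) ^ p = 1 := by
        rw [conj_pow, hep, mul_one, mul_inv_cancel]
      have h2 : g * e * g⁻¹ = T * (z1 ^ k * e) := by
        have htc := Subgroup.mem_center_iff.mp (hZle ht) (z1 ^ k)
        calc g * e * g⁻¹ = z1 ^ k * T * e := by rw [hT]; group
          _ = T * z1 ^ k * e := by rw [htc]
          _ = T * (z1 ^ k * e) := mul_assoc _ _ _
      have h3 : (T * (z1 ^ k * e)) ^ p = (z1 ^ k * e) ^ p := by
        have htc : Commute T (z1 ^ k * e) :=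
          (Subgroup.mem_center_iff.mp (hZle ht) _).symm
        rw [htc.mul_pow, hZp _ ht, one_mul]
      obtain ⟨c, hc, hcomm⟩ := key (z1 ^ k) (f3k k) e
      have h4 : (z1 ^ k * e) ^ p = (z1 ^ k) ^ p :=  by
        rw [mul_pow_prime_central hp.out hp2 (z1 ^ k) e c (hZle hc) (hZp c hc) hcomm, hep,
          mul_one]
      have h5 : (z1 ^ p) ^ k = 1 := by
        rw [← h1, h2, h3, h4, ← zpow_natCast (z1 ^ k) p, ← zpow_mul, ← zpow_natCast z1 p,
          ← zpow_mul, mul_comm]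
      have h6 : orderOf (z1 ^ p) = p := orderOf_eq_prime (hZp _ f2) hz1p
      have h7 : (p : ℤ) ∣ k := by
        rw [← h6]; exact orderOf_dvd_iff_zpow_eq_one.mpr h5
      obtain ⟨k', rfl⟩ := h7
      have h8 : z1 ^ ((p : ℤ) * k') ∈ Z := by
        rw [zpow_mul, zpow_natCast]; exact Z.zpow_mem f2 k'
      have h9 : g * e * g⁻¹ * e⁻¹ = z1 ^ ((p : ℤ) * k') * T := by rw [hT]; group
      rw [h9]
      exact Z.mul_mem h8 ht

/-- A noncyclic finite `p`-group, `p` odd, has a central element `z` of order `p` and an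
element `e ∉ ⟨z⟩` with `e ^ p = 1` that is central modulo `⟨z⟩`. -/
theorem exists_central_pair {p : ℕ} [hp : Fact p.Prime] (hp2 : p ≠ 2) (P : Type u) [Group P]
    [Finite P] (hP : IsPGroup p P) (hcyc : ¬ IsCyclic P) :
    ∃ z e : P, z ∈ Subgroup.center P ∧ orderOf z = p ∧ e ^ p = 1 ∧ e ∉ Subgroup.zpowers z ∧
      ∀ g : P, g * e * g⁻¹ * e⁻¹ ∈ Subgroup.zpowers z :=
  exists_central_pair_aux hp2 _ P rfl hP hcyc

end Cfsg.Agent.H43
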