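import Mathlib
import Cfsg.Agent.H1.CoprimeSylow
import Cfsg.Agent.H43.PGroupPair
import Cfsg.Agent.H43.NormCount

/-!
# A coprime variant of the Baer–Suzuki theorem

`G = N P` with `N` a normal `p'`-subgroup and `P` a `p`-subgroup, `p` odd, `P = ⟨C⟩ = ⟨D⟩`,
and `⟨c ^ x, d⟩` a `p`-group for all `x ∈ N`, `c ∈ C`, `d ∈ D`.  Then `P` centralises `N`.
-/

set_option autoImplicit false

namespace Cfsg.Agent.H43

universe u

/-- The hypotheses of the coprime Baer–Suzuki variant. -/
structure BSData (p : ℕ) {G : Type*} [Group G] (N P : Subgroup G) (C D : Set G) : Prop where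
  normal : N.Normal
  pgroup : IsPGroup p P
  coprime : (Nat.card N).Coprime p
  sup : N ⊔ P = ⊤
  genC : Subgroup.closure C = P
  genD : Subgroup.closure D = P
  hyp : ∀ x ∈ N, ∀ c ∈ C, ∀ d ∈ D,
    IsPGroup p (Subgroup.closure ({x * c * x⁻¹, d} : Set G))

theorem inf_eq_bot_of_coprime_pgroup {p : ℕ} {G : Type*} [Group G] {N S : Subgroup G}
    (hN : (Nat.card N).Coprime p) (hS : IsPGroup p S) : N ⊓ S = ⊥ := by
  rw [eq_bot_iff]
  intro x hx
  obtain ⟨k, hk⟩ := hS ⟨x, hx.2⟩
  have h1 : x ^ (p ^ k) = 1 := congrArg Subtype.val hk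
  have h2 : orderOf x ∣ p ^ k := orderOf_dvd_of_pow_eq_one h1
  have h3 : orderOf x ∣ Nat.card N := Subgroup.orderOf_dvd_natCard N hx.1
  have h4 : orderOf x = 1 := Nat.eq_one_of_dvd_coprimes (hN.pow_right k) h3 h2
  rw [Subgroup.mem_bot]
  exact orderOf_eq_one_iff.mp h4

theorem BSData.inf_eq_bot {p : ℕ} {G : Type*} [Group G] {N P : Subgroup G} {C D : Set G}
    (h : BSData p N P C D) : N ⊓ P = ⊥ :=
  inf_eq_bot_of_coprime_pgroup h.coprime h.pgroup

theorem BSData.quot {p : ℕ} {G : Type*} [Group G] {N P : Subgroup G} {C D : Set G}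
    (h : BSData p N P C D) (K : Subgroup G) [K.Normal] :
    BSData p (N.map (QuotientGroup.mk' K)) (P.map (QuotientGroup.mk' K))
      ((QuotientGroup.mk' K) '' C) ((QuotientGroup.mk' K) '' D) where
  normal := by
    have := h.normal
    exact Subgroup.Normal.map inferInstance _ (QuotientGroup.mk'_surjective K)
  pgroup := h.pgroup.map _
  coprime := Nat.Coprime.coprime_dvd_left (Subgroup.card_map_dvd _ _) h.coprime
  sup := by
    rw [← Subgroup.map_sup, h.sup, ← MonoidHom.range_eq_map, MonoidHom.range_eq_top]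
    exact QuotientGroup.mk'_surjective K
  genC := by rw [← MonoidHom.map_closure, h.genC]
  genD := by rw [← MonoidHom.map_closure, h.genD]
  hyp := by
    rintro _ ⟨x, hx, rfl⟩ _ ⟨c, hc, rfl⟩ _ ⟨d, hd, rfl⟩
    have h1 := (h.hyp x hx c hc d hd).map (QuotientGroup.mk' K)
    rw [MonoidHom.map_closure, Set.image_pair, map_mul, map_mul, map_inv] at h1
    exact h1

theorem BSData.sub {p : ℕ} {G : Type*} [Group G] [Finite G] {N P : Subgroup G} {C D : Set G}
    (h : BSData p N P C D) (N₁ : Subgroup G) (hN₁ : N₁ ≤ N)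
    (hP : P ≤ Subgroup.normalizer (N₁ : Set G)) :
    BSData p (N₁.subgroupOf (P ⊔ N₁)) (P.subgroupOf (P ⊔ N₁))
      ((Subtype.val : ↥(P ⊔ N₁) → G) ⁻¹' C) ((Subtype.val : ↥(P ⊔ N₁) → G) ⁻¹' D) := by
  have hgen : ∀ E : Set G, Subgroup.closure E = P →
      Subgroup.closure ((Subtype.val : ↥(P ⊔ N₁) → G) ⁻¹' E) = P.subgroupOf (P ⊔ N₁) := by
    intro E hE
    apply Subgroup.map_injective (P ⊔ N₁).subtype_injective
    rw [MonoidHom.map_closure, Subgroup.map_subgroupOf_eq_of_le le_sup_left]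
    have h1 : ((P ⊔ N₁).subtype '' ((Subtype.val : ↥(P ⊔ N₁) → G) ⁻¹' E)) = E := by
      have h2 : E ⊆ ((P ⊔ N₁ : Subgroup G) : Set G) := by
        intro e he
        have : e ∈ Subgroup.closure E := Subgroup.subset_closure he
        rw [hE] at this
        exact Subgroup.mem_sup_left this
      ext e
      constructor
      · rintro ⟨e', he', rfl⟩; exact he'
      · intro he; exact ⟨⟨e, h2 he⟩, he, rfl⟩
    rw [h1, hE]
  refine ⟨Subgroup.normal_subgroupOf_sup_of_le_normalizer hP, h.pgroup.comap_subtype, ?_, ?_,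
    hgen C h.genC, hgen D h.genD, ?_⟩
  · rw [H1.card_subgroupOf_of_le le_sup_right]
    exact Nat.Coprime.coprime_dvd_left (Subgroup.card_dvd_of_le hN₁) h.coprime
  · rw [← Subgroup.subgroupOf_sup le_sup_right le_sup_left, Subgroup.subgroupOf_eq_top, sup_comm]
  · intro x hx c hc d hd
    have h1 := h.hyp x.1 (hN₁ (Subgroup.mem_subgroupOf.mp hx)) c.1 hc d.1 hd
    have h2 := h1.comap_of_injective (P ⊔ N₁).subtype (P ⊔ N₁).subtype_injective
    refine h2.to_le ?_
    rw [Subgroup.closure_le]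
    intro y hy
    rcases hy with rfl | rfl
    · exact Subgroup.subset_closure (Set.mem_insert _ _)
    · exact Subgroup.subset_closure (Set.mem_insert_of_mem _ rfl)

/-- `N = C_N(d) C_N(c)` for `c ∈ C`, `d ∈ D`. -/
theorem BSData.decomp {p : ℕ} [Fact p.Prime] {G : Type*} [Group G] [Finite G]
    {N P : Subgroup G} {C D : Set G} (h : BSData p N P C D) (x : G) (hx : x ∈ N) (c : G)
    (hc : c ∈ C) (d : G) (hd : d ∈ D) :
    ∃ y ∈ N, y * d = d * y ∧ (y⁻¹ * x) * c = c * (y⁻¹ * x) := by
  have hN := h.normal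
  have hinf := h.inf_eq_bot
  have hcP : c ∈ P := by rw [← h.genC]; exact Subgroup.subset_closure hc
  have hdP : d ∈ P := by rw [← h.genD]; exact Subgroup.subset_closure hd
  obtain ⟨S, hS⟩ := h.pgroup.exists_le_sylow
  have hSP : ∀ s ∈ S, s ∈ P := by
    intro s hs
    have hsmem : s ∈ ((N ⊔ P : Subgroup G) : Set G) := by rw [h.sup]; trivial
    rw [Subgroup.normal_mul] at hsmem
    obtain ⟨y, hy, q, hq, hyq⟩ := Set.mem_mul.mp hsmem
    subst hyq
    have h1 : y ∈ N ⊓ (S : Subgroup G) := by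
      refine ⟨hy, ?_⟩
      have : y = y * q * q⁻¹ := by group
      rw [this]
      exact (S : Subgroup G).mul_mem hs ((S : Subgroup G).inv_mem (hS hq))
    rw [inf_eq_bot_of_coprime_pgroup h.coprime S.isPGroup', Subgroup.mem_bot] at h1
    rw [h1, one_mul]; exact hq
  obtain ⟨T, hT⟩ := (h.hyp x hx c hc d hd).exists_le_sylow
  obtain ⟨g, hg⟩ := MulAction.exists_smul_eq G S T
  have hgmem : g ∈ ((N ⊔ P : Subgroup G) : Set G) := by rw [h.sup]; trivial
  rw [Subgroup.normal_mul] at hgmem
  obtain ⟨y, hy, q, hq, hyq⟩ := Set.mem_mul.mp hgmem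
  subst hyq
  have key : ∀ t ∈ Subgroup.closure ({x * c * x⁻¹, d} : Set G), y⁻¹ * t * y ∈ P := by
    intro t ht
    have h1 : t ∈ (((y * q) • S : Sylow p G) : Subgroup G) := by rw [hg]; exact hT ht
    rw [Sylow.coe_subgroup_smul, Subgroup.mem_pointwise_smul_iff_inv_smul_mem] at h1
    have h2 : (y * q)⁻¹ * t * (y * q) ∈ P := by
      apply hSP
      have h3 : (MulAut.conj (y * q))⁻¹ • t = (y * q)⁻¹ * t * (y * q) := by
        rw [MulAut.smul_def, MulAut.conj_inv_apply]
      rw [h3] at h1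
      exact h1
    have h4 : y⁻¹ * t * y = q * ((y * q)⁻¹ * t * (y * q)) * q⁻¹ := by group
    rw [h4]
    exact P.mul_mem (P.mul_mem hq h2) (P.inv_mem hq)
  refine ⟨y, hy, ?_, ?_⟩
  · have h1 := key d (Subgroup.subset_closure (Set.mem_insert_of_mem _ rfl))
    have h2 : y⁻¹ * d * y * d⁻¹ ∈ N ⊓ P := by
      refine ⟨?_, P.mul_mem h1 (P.inv_mem hdP)⟩
      have : y⁻¹ * d * y * d⁻¹ = y⁻¹ * (d * y * d⁻¹) := by group
      rw [this]
      exact N.mul_mem (N.inv_mem hy) (hN.conj_mem y hy d)
    rw [hinf, Subgroup.mem_bot] at h2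
    have h3 : y * d = y * (y⁻¹ * d * y * d⁻¹) * d := by rw [h2, mul_one]
    rw [h3]; group
  · have h1 := key (x * c * x⁻¹) (Subgroup.subset_closure (Set.mem_insert _ _))
    have hw : y⁻¹ * x ∈ N := N.mul_mem (N.inv_mem hy) hx
    have h2 : (y⁻¹ * x) * c * (y⁻¹ * x)⁻¹ * c⁻¹ ∈ N ⊓ P := by
      refine ⟨?_, ?_⟩
      · have : (y⁻¹ * x) * c * (y⁻¹ * x)⁻¹ * c⁻¹ = (y⁻¹ * x) * (c * (y⁻¹ * x)⁻¹ * c⁻¹) := by
          group
        rw [this]
        exact N.mul_mem hw (hN.conj_mem _ (N.inv_mem hw) c)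
      · have : (y⁻¹ * x) * c * (y⁻¹ * x)⁻¹ * c⁻¹ = (y⁻¹ * (x * c * x⁻¹) * y) * c⁻¹ := by group
        rw [this]
        exact P.mul_mem h1 (P.inv_mem hcP)
    rw [hinf, Subgroup.mem_bot] at h2
    have h3 : (y⁻¹ * x) * c = ((y⁻¹ * x) * c * (y⁻¹ * x)⁻¹ * c⁻¹) * c * (y⁻¹ * x) := by group
    rw [h3, h2, one_mul]

/-- If `[g, x]` commutes with `g`, `g` is a `p`-element and `[g, x]` is a `p'`-element, then
`g` and `x` commute. -/
theorem comm_of_commutator_comm {G : Type*} [Group G] {p : ℕ} (g x : G) (j m : ℕ)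
    (hg : g ^ (p ^ j) = 1) (hk : (g * x * g⁻¹ * x⁻¹) ^ m = 1) (hm : m.Coprime p)
    (hc : g * (g * x * g⁻¹ * x⁻¹) = (g * x * g⁻¹ * x⁻¹) * g) : g * x = x * g := by
  obtain ⟨k, hkdef⟩ : ∃ k, k = g * x * g⁻¹ * x⁻¹ := ⟨_, rfl⟩
  rw [← hkdef] at hk hc
  have h1 : ∀ i : ℕ, g ^ i * x * (g ^ i)⁻¹ = k ^ i * x := by
    intro i
    induction i with
    | zero => simp
    | succ i ih =>
      have hci : g * k ^ i = k ^ i * g := Commute.pow_right hc i
      calc g ^ (i + 1) * x * (g ^ (i + 1))⁻¹ = g * (g ^ i * x * (g ^ i)⁻¹) * g⁻¹ := by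
            rw [pow_succ']; group
        _ = g * (k ^ i * x) * g⁻¹ := by rw [ih]
        _ = (g * k ^ i) * x * g⁻¹ := by group
        _ = k ^ i * (g * x * g⁻¹ * x⁻¹) * x := by rw [hci]; group
        _ = k ^ (i + 1) * x := by rw [← hkdef, ← pow_succ]
  have h2 := h1 (p ^ j)
  rw [hg] at h2
  have h3 : k ^ (p ^ j) = 1 := by
    have : x = k ^ (p ^ j) * x := by simpa using h2
    exact (mul_eq_right.mp this.symm)
  have h4 : orderOf k ∣ p ^ j := orderOf_dvd_of_pow_eq_one h3
  have h5 : orderOf k ∣ m := orderOf_dvd_of_pow_eq_one hk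
  have h6 : orderOf k = 1 := Nat.eq_one_of_dvd_coprimes (hm.pow_right j) h5 h4
  have h7 : k = 1 := orderOf_eq_one_iff.mp h6
  rw [hkdef] at h7
  have h8 : g * x = (g * x * g⁻¹ * x⁻¹) * x * g := by group
  rw [h8, h7, one_mul]

theorem bs_aux {p : ℕ} [hp : Fact p.Prime] (hp3 : 3 ≤ p) : ∀ n : ℕ,
    ∀ (G : Type u) [Group G] [Finite G], Nat.card G = n →
    ∀ (N P : Subgroup G) (C D : Set G), BSData p N P C D →
    ∀ g ∈ P, ∀ x ∈ N, g * x = x * g := by
  intro n
  induction n using Nat.strong_induction_on with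
  | _ n ih =>
  intro G _ _ hn N P C D h
  have hNn := h.normal
  have hinf : N ⊓ P = ⊥ := h.inf_eq_bot
  have hPn : P ≤ Subgroup.normalizer (N : Set G) := by
    rw [Subgroup.normalizer_eq_top_iff.mpr hNn]; exact le_top
  have hcard : Nat.card G = Nat.card P * Nat.card N := by
    have h1 := H1.card_sup_of_disjoint_normal P N (by rw [inf_comm]; exact hinf)
    rw [sup_comm, h.sup, Subgroup.card_top] at h1
    exact h1
  have hcomm_of : ∀ g x : G, g * x * g⁻¹ * x⁻¹ = 1 → g * x = x * g := by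
    intro g x h1
    have h2 : g * x = (g * x * g⁻¹ * x⁻¹) * x * g := by group
    rw [h2, h1, one_mul]
  -- proper invariant subgroups are centralised
  have S1 : ∀ N₁ : Subgroup G, N₁ ≤ N → N₁ ≠ N → P ≤ Subgroup.normalizer (N₁ : Set G) →
      ∀ g ∈ P, ∀ x ∈ N₁, g * x = x * g := by
    intro N₁ hN₁ hne hPN₁ g hg x hx
    have hd := h.sub N₁ hN₁ hPN₁
    have hlt : Nat.card ↥(P ⊔ N₁) < n := by
      have h1 : P ⊓ N₁ = ⊥ := by
        rw [eq_bot_iff, ← hinf, inf_comm N P]; exact inf_le_inf_left P hN₁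
      rw [H1.card_sup_of_le_normalizer P N₁ hPN₁ h1, ← hn, hcard]
      have h2 := H1.card_lt_card_of_lt (lt_of_le_of_ne hN₁ hne)
      have h3 : 0 < Nat.card P := Nat.card_pos
      nlinarith
    have h2 := ih _ hlt ↥(P ⊔ N₁) rfl _ _ _ _ hd ⟨g, Subgroup.mem_sup_left hg⟩
      (Subgroup.mem_subgroupOf.mpr hg) ⟨x, Subgroup.mem_sup_right hx⟩
      (Subgroup.mem_subgroupOf.mpr hx)
    exact congrArg Subtype.val h2
  -- quotients by nontrivial normal subgroups are centralised
  have S2 : ∀ K : Subgroup G, K.Normal → K ≠ ⊥ → ∀ g ∈ P, ∀ x ∈ N, g * x * g⁻¹ * x⁻¹ ∈ K := by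
    intro K hK hKne g hg x hx
    have hd := h.quot K
    have hlt : Nat.card (G ⧸ K) < n := by
      have h1 := Subgroup.card_eq_card_quotient_mul_card_subgroup K
      rw [hn] at h1
      have h2 : 1 < Nat.card K := (Subgroup.one_lt_card_iff_ne_bot K).mpr hKne
      have h3 : 0 < Nat.card (G ⧸ K) := Nat.card_pos
      nlinarith
    have h4 := ih _ hlt (G ⧸ K) rfl _ _ _ _ hd (QuotientGroup.mk' K g)
      (Subgroup.mem_map_of_mem _ hg) (QuotientGroup.mk' K x) (Subgroup.mem_map_of_mem _ hx)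
    rw [← QuotientGroup.eq_one_iff]
    have h5 : (QuotientGroup.mk' K) (g * x * g⁻¹ * x⁻¹) = 1 := by
      rw [map_mul, map_mul, map_mul, map_inv, map_inv, h4, mul_inv_cancel_right, mul_inv_cancel]
    exact h5
  -- minimal normal
  by_cases hM : ∃ K : Subgroup G, K.Normal ∧ K ≠ ⊥ ∧ K ≤ N ∧ K ≠ N
  · obtain ⟨K, hKn, hK1, hKN, hKne⟩ := hM
    intro g hg x hx
    have hk : g * x * g⁻¹ * x⁻¹ ∈ K := S2 K hKn hK1 g hg x hx
    have hcent := S1 K hKN hKne (by rw [Subgroup.normalizer_eq_top_iff.mpr hKn]; exact le_top)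
    obtain ⟨j, hj⟩ := h.pgroup ⟨g, hg⟩
    have hj' : g ^ (p ^ j) = 1 := congrArg Subtype.val hj
    refine comm_of_commutator_comm (p := p) g x j (Nat.card N) hj' ?_ h.coprime
      (hcent g hg _ hk)
    have h1 : (⟨g * x * g⁻¹ * x⁻¹, hKN hk⟩ : N) ^ Nat.card N = 1 := pow_card_eq_one'
    exact congrArg Subtype.val h1
  push Not at hM
  -- faithful
  by_cases hF : P ⊓ Subgroup.centralizer (N : Set G) ≠ ⊥
  · intro g hg x hx
    have hcn : (Subgroup.centralizer (N : Set G)).Normal := inferInstance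
    have hTn : (P ⊓ Subgroup.centralizer (N : Set G)).Normal := by
      refine ⟨fun t ht g => ?_⟩
      have hgmem : g ∈ ((N ⊔ P : Subgroup G) : Set G) := by rw [h.sup]; trivial
      rw [Subgroup.normal_mul] at hgmem
      obtain ⟨y, hy, q, hq, hyq⟩ := Set.mem_mul.mp hgmem
      subst hyq
      have h1 : q * t * q⁻¹ ∈ P ⊓ Subgroup.centralizer (N : Set G) :=
        ⟨P.mul_mem (P.mul_mem hq ht.1) (P.inv_mem hq), hcn.conj_mem _ ht.2 q⟩
      have h2 : y * q * t * (y * q)⁻¹ = q * t * q⁻¹ := by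
        have h3 := Subgroup.mem_centralizer_iff.mp h1.2 y hy
        calc y * q * t * (y * q)⁻¹ = y * (q * t * q⁻¹) * y⁻¹ := by group
          _ = q * t * q⁻¹ := by rw [h3, mul_inv_cancel_right]
      rw [h2]; exact h1
    have h1 := S2 _ hTn hF g hg x hx
    have h2 : g * x * g⁻¹ * x⁻¹ ∈ N := N.mul_mem (hNn.conj_mem x hx g) (N.inv_mem hx)
    have h3 : g * x * g⁻¹ * x⁻¹ ∈ N ⊓ P := ⟨h2, h1.1⟩
    rw [hinf, Subgroup.mem_bot] at h3
    exact hcomm_of g x h3
  push Not at hF
  by_cases hN1 : N = ⊥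
  · intro g hg x hx
    rw [hN1, Subgroup.mem_bot] at hx
    rw [hx, mul_one, one_mul]
  -- `N` is an `r`-group
  have hPsolv : Group.IsSolvable P := by
    have := h.pgroup.isNilpotent
    infer_instance
  have hcopPN : (Nat.card P).Coprime (Nat.card N) := by
    obtain ⟨k, hk⟩ := IsPGroup.iff_card.mp h.pgroup
    rw [hk]; exact Nat.Coprime.pow_left k h.coprime.symm
  by_cases hr : ∃ r : ℕ, r.Prime ∧ IsPGroup r N
  swap
  · intro g hg x hx
    have hM' : N ⊓ Subgroup.centralizer (P : Set G) = N := by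
      apply Subgroup.eq_of_le_of_card_ge inf_le_left
      apply Nat.le_of_dvd Nat.card_pos
      rw [← Nat.factorization_prime_le_iff_dvd Nat.card_pos.ne' Nat.card_pos.ne']
      intro r hrp
      have : Fact r.Prime := ⟨hrp⟩
      obtain ⟨R, hR⟩ := H1.coprime_exists_invariant_sylow P N hPn hcopPN (Or.inl hPsolv) r
      have hRN : (R : Subgroup N).map N.subtype ≤ N := H1.sylow_map_le r N R
      have hRne : (R : Subgroup N).map N.subtype ≠ N := by
        intro heq
        apply hr
        refine ⟨r, hrp, ?_⟩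
        have h1 := H1.sylow_map_card r N R
        rw [heq] at h1
        exact IsPGroup.of_card h1
      have hRc := S1 _ hRN hRne hR
      have hRle : (R : Subgroup N).map N.subtype ≤ N ⊓ Subgroup.centralizer (P : Set G) := by
        intro y hy
        refine Subgroup.mem_inf.mpr ⟨hRN hy, ?_⟩
        rw [Subgroup.mem_centralizer_iff]
        intro q hq
        exact hRc q hq y hy
      have h1 := Subgroup.card_dvd_of_le hRle
      rw [H1.sylow_map_card] at h1
      exact (Nat.Prime.pow_dvd_iff_le_factorization hrp Nat.card_pos.ne').mp h1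
    have hx' : x ∈ N ⊓ Subgroup.centralizer (P : Set G) := by rw [hM']; exact hx
    exact Subgroup.mem_centralizer_iff.mp hx'.2 g hg
  obtain ⟨r, hrp, hNr⟩ := hr
  -- `N` is abelian
  have hNab : ∀ a ∈ N, ∀ b ∈ N, a * b = b * a := by
    have hZn : (N ⊓ Subgroup.centralizer (N : Set G)).Normal := inferInstance
    have hZ1 : N ⊓ Subgroup.centralizer (N : Set G) ≠ ⊥ := by
      have : Nontrivial N := (Subgroup.nontrivial_iff_ne_bot N).mpr hN1
      have : Fact r.Prime := ⟨hrp⟩
      have := hNr.center_nontrivial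
      obtain ⟨z, hz⟩ := exists_ne (1 : Subgroup.center N)
      intro hbot
      apply hz
      have h1 : ((z : N) : G) ∈ N ⊓ Subgroup.centralizer (N : Set G) := by
        refine Subgroup.mem_inf.mpr ⟨z.1.2, ?_⟩
        rw [Subgroup.mem_centralizer_iff]
        intro y hy
        have h2 := Subgroup.mem_center_iff.mp z.2 ⟨y, hy⟩
        exact congrArg Subtype.val h2
      rw [hbot, Subgroup.mem_bot] at h1
      exact Subtype.ext (Subtype.ext h1)
    have h3 := hM _ hZn hZ1 inf_le_left
    intro a ha b hb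
    have hb' : b ∈ N ⊓ Subgroup.centralizer (N : Set G) := by rw [h3]; exact hb
    exact Subgroup.mem_centralizer_iff.mp hb'.2 a ha
  -- `N` is irreducible
  have hirr : ∀ N₁ : Subgroup G, N₁ ≤ N → P ≤ Subgroup.normalizer (N₁ : Set G) →
      N₁ = ⊥ ∨ N₁ = N := by
    intro N₁ hN₁ hPN₁
    by_cases h1 : N₁ = ⊥
    · exact Or.inl h1
    · right
      refine hM N₁ ?_ h1 hN₁
      rw [← Subgroup.normalizer_eq_top_iff, eq_top_iff, ← h.sup]
      refine sup_le ?_ hPN₁
      refine le_trans ?_ (Subgroup.centralizer_le_normalizer (N₁ : Set G))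
      intro y hy
      rw [Subgroup.mem_centralizer_iff]
      intro t ht
      exact hNab t (hN₁ ht) y hy
  by_cases hP1 : P = ⊥
  · intro g hg x hx
    rw [hP1, Subgroup.mem_bot] at hg
    rw [hg, one_mul, mul_one]
  exfalso
  apply hN1
  -- nontrivial central elements of `P` have no fixed points
  have hfixz : ∀ z ∈ P, z ≠ 1 → (∀ q ∈ P, q * z = z * q) → ∀ x ∈ N, z * x = x * z → x = 1 := by
    intro z hz hz1 hzc x hx hzx
    have h1 := hirr (N ⊓ Subgroup.centralizer ({z} : Set G)) inf_le_left (by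
      rw [Subgroup.le_normalizer_iff]
      intro q hq t ht
      refine Subgroup.mem_inf.mpr ⟨hNn.conj_mem t ht.1 q, ?_⟩
      rw [Subgroup.mem_centralizer_iff]
      intro w hw
      rw [Set.mem_singleton_iff] at hw
      subst hw
      have hwt : Commute w t := Subgroup.mem_centralizer_iff.mp ht.2 w rfl
      have hwq : Commute w q := (hzc q hq).symm
      exact ((hwq.mul_right hwt).mul_right hwq.inv_right).eq)
    rcases h1 with h1 | h1
    · have hx' : x ∈ N ⊓ Subgroup.centralizer ({z} : Set G) := Subgroup.mem_inf.mpr ⟨hx, by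
        rw [Subgroup.mem_centralizer_iff]
        intro w hw
        rw [Set.mem_singleton_iff] at hw
        rw [hw]; exact hzx⟩
      rw [h1, Subgroup.mem_bot] at hx'
      exact hx'
    · exfalso
      apply hz1
      have hz' : z ∈ P ⊓ Subgroup.centralizer (N : Set G) := Subgroup.mem_inf.mpr ⟨hz, by
        rw [Subgroup.mem_centralizer_iff]
        intro y hy
        have hy' : y ∈ N ⊓ Subgroup.centralizer ({z} : Set G) := by rw [h1]; exact hy
        exact (Subgroup.mem_centralizer_iff.mp hy'.2 z rfl).symm⟩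
      rw [hF, Subgroup.mem_bot] at hz'
      exact hz'
  have hexne : ∀ E : Set G, Subgroup.closure E = P → ∃ c ∈ E, c ≠ 1 := by
    intro E hE
    by_contra hcon
    push Not at hcon
    apply hP1
    rw [← hE, Subgroup.closure_eq_bot_iff]
    intro c hc
    exact hcon c hc
  by_cases hPab : ∀ a ∈ P, ∀ b ∈ P, a * b = b * a
  · rw [eq_bot_iff]
    intro x hx
    obtain ⟨c, hc, hc1⟩ := hexne C h.genC
    obtain ⟨d, hd, hd1⟩ := hexne D h.genD
    have hcP : c ∈ P := by rw [← h.genC]; exact Subgroup.subset_closure hc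
    have hdP : d ∈ P := by rw [← h.genD]; exact Subgroup.subset_closure hd
    obtain ⟨y, hy, hyd, hyc⟩ := h.decomp x hx c hc d hd
    have h1 : y = 1 := hfixz d hdP hd1 (fun q hq => hPab q hq d hdP) y hy hyd.symm
    have h2 : y⁻¹ * x = 1 := hfixz c hcP hc1 (fun q hq => hPab q hq c hcP) _
      (N.mul_mem (N.inv_mem hy) hx) hyc.symm
    rw [h1] at h2
    rw [Subgroup.mem_bot]
    simpa using h2
  · have hcyc : ¬ IsCyclic P := by
      intro hc
      apply hPab
      intro a ha b hb
      have h1 := (IsCyclic.isMulCommutative (α := P)).is_comm.comm ⟨a, ha⟩ ⟨b, hb⟩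
      exact congrArg Subtype.val h1
    obtain ⟨z', e', hz'c, hz'o, he'p, he'z, he'g⟩ :=
      exists_central_pair (p := p) (by omega) ↥P h.pgroup hcyc
    obtain ⟨z, hz⟩ := z'
    obtain ⟨e, he⟩ := e'
    have hzo : orderOf z = p := by rw [← hz'o]; exact (Subgroup.orderOf_mk z hz).symm
    have hz1 : z ≠ 1 := by
      intro h1
      rw [h1, orderOf_one] at hzo
      exact hp.out.one_lt.ne hzo
    have hzp : z ^ p = 1 := by rw [← hzo]; exact pow_orderOf_eq_one z
    have hzc : ∀ q ∈ P, q * z = z * q := by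
      intro q hq
      have h1 := Subgroup.mem_center_iff.mp hz'c ⟨q, hq⟩
      exact congrArg Subtype.val h1
    have hep : e ^ p = 1 := congrArg Subtype.val he'p
    have hez : ∀ k : ℕ, e * z ^ k ≠ 1 := by
      intro k hk
      apply he'z
      rw [Subgroup.mem_zpowers_iff]
      refine ⟨-(k : ℤ), ?_⟩
      apply Subtype.ext
      rw [Subgroup.coe_zpow, zpow_neg, zpow_natCast]
      exact (eq_inv_of_mul_eq_one_left hk).symm
    have heg : ∀ q ∈ P, ∃ j : ℕ, q * e * q⁻¹ * e⁻¹ = z ^ j := by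
      intro q hq
      have h1 := he'g ⟨q, hq⟩
      rw [← mem_powers_iff_mem_zpowers] at h1
      obtain ⟨j, hj⟩ := h1
      exact ⟨j, (congrArg Subtype.val hj).symm⟩
    have hfz := hfixz z hz hz1 hzc
    have hNcomm : ∀ a b : N, a * b = b * a := fun a b => Subtype.ext (hNab a a.2 b b.2)
    have hfixG : ∀ (g : G) (v : N), (MulAut.conjNormal g) v = v ↔ g * (v : G) = v * g := by
      intro g v
      rw [Subtype.ext_iff, MulAut.conjNormal_apply]
      constructor
      · intro h1
        have h2 : g * (v : G) = (g * v * g⁻¹) * g := by group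
        rw [h2, h1]
      · intro h1; rw [h1, mul_inv_cancel_right]
    have hφψ : Commute (MulAut.conjNormal e : MulAut N) (MulAut.conjNormal z) := by
      show (MulAut.conjNormal e : MulAut N) * MulAut.conjNormal z
        = MulAut.conjNormal z * MulAut.conjNormal e
      rw [← map_mul, ← map_mul, hzc e he]
    have hφp : (MulAut.conjNormal e : MulAut N) ^ p = 1 := by rw [← map_pow, hep, map_one]
    have hψp : (MulAut.conjNormal z : MulAut N) ^ p = 1 := by rw [← map_pow, hzp, map_one]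
    have hψfix : ∀ v : N, (MulAut.conjNormal z) v = v → v = 1 := by
      intro v hv
      exact Subtype.ext (hfz v v.2 ((hfixG z v).mp hv))
    by_cases hecent : ∀ q ∈ P, q * e = e * q
    · rw [eq_bot_iff]
      intro x hx
      have h1 := eq_one_of_fixed_trivial hNcomm (MulAut.conjNormal e) (MulAut.conjNormal z)
        hφψ hφp hψp hψfix (fun k v hv => by
          have h2 : (MulAut.conjNormal e : MulAut N) * MulAut.conjNormal z ^ k
              = MulAut.conjNormal (e * z ^ k) := by rw [map_mul, map_pow]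
          rw [h2, hfixG] at hv
          exact Subtype.ext (hfixz (e * z ^ k) (P.mul_mem he (P.pow_mem hz k)) (hez k)
            (fun q hq => by
              have h3 := hecent q hq
              have hzk : q * z ^ k = z ^ k * q := Commute.pow_right (hzc q hq) k
              rw [← mul_assoc, h3, mul_assoc, hzk, mul_assoc]) v v.2 hv)) h.coprime ⟨x, hx⟩
      rw [Subgroup.mem_bot]
      exact congrArg Subtype.val h1
    · push Not at hecent
      have hex : ∀ E : Set G, Subgroup.closure E = P → ∃ c ∈ E, c * e ≠ e * c := by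
        intro E hE
        by_contra hcon
        push Not at hcon
        obtain ⟨q, hq, hqe⟩ := hecent
        apply hqe
        have h1 : P ≤ Subgroup.centralizer ({e} : Set G) := by
          rw [← hE, Subgroup.closure_le]
          intro c hc
          rw [SetLike.mem_coe, Subgroup.mem_centralizer_iff]
          intro w hw
          rw [Set.mem_singleton_iff] at hw
          rw [hw]; exact (hcon c hc).symm
        exact (Subgroup.mem_centralizer_iff.mp (h1 hq) e rfl).symm
      have hbound : ∀ c ∈ P, c * e ≠ e * c →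
          Nat.card {v : N // (MulAut.conjNormal c) v = v} ^ p ≤ Nat.card N := by
        intro c hcP hce
        obtain ⟨j, hj⟩ := heg c hcP
        have hj' : ¬ p ∣ j := by
          intro hdvd
          apply hce
          obtain ⟨m, rfl⟩ := hdvd
          rw [pow_mul, hzp, one_pow] at hj
          exact hcomm_of c e hj
        refine card_fixed_pow_le' hNcomm (MulAut.conjNormal e) (MulAut.conjNormal z)
          (MulAut.conjNormal c) hφψ hφp hψp hψfix ?_ j hj' ?_ h.coprime
        · show (MulAut.conjNormal c : MulAut N) * MulAut.conjNormal z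
            = MulAut.conjNormal z * MulAut.conjNormal c
          rw [← map_mul, ← map_mul, hzc c hcP]
        · rw [← map_inv, ← map_mul, ← map_mul, ← map_pow, ← map_mul]
          congr 1
          have h1 : c * e * c⁻¹ = (c * e * c⁻¹ * e⁻¹) * e := by group
          rw [h1, hj]
          exact (Commute.pow_right (hzc e he) j).symm
      obtain ⟨c, hc, hce⟩ := hex C h.genC
      obtain ⟨d, hd, hde⟩ := hex D h.genD
      have hcP : c ∈ P := by rw [← h.genC]; exact Subgroup.subset_closure hc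
      have hdP : d ∈ P := by rw [← h.genD]; exact Subgroup.subset_closure hd
      have ha := hbound c hcP hce
      have hb := hbound d hdP hde
      have hab : Nat.card N ≤ Nat.card {v : N // (MulAut.conjNormal d) v = v}
          * Nat.card {v : N // (MulAut.conjNormal c) v = v} := by
        rw [← Nat.card_prod]
        refine Nat.card_le_card_of_surjective
          (fun uw : {v : N // (MulAut.conjNormal d) v = v}
            × {v : N // (MulAut.conjNormal c) v = v} => (uw.1 : N) * (uw.2 : N)) ?_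
        intro x
        obtain ⟨y, hy, hyd, hyc⟩ := h.decomp x.1 x.2 c hc d hd
        refine ⟨(⟨⟨y, hy⟩, (hfixG d _).mpr hyd.symm⟩,
          ⟨⟨y⁻¹ * x, N.mul_mem (N.inv_mem hy) x.2⟩, (hfixG c _).mpr hyc.symm⟩), ?_⟩
        apply Subtype.ext
        simp
      have hm : Nat.card N = 1 := by
        by_contra hne
        have h2 : 2 ≤ Nat.card N := by
          have := Nat.card_pos (α := N)
          omega
        have h3 : Nat.card N ^ p ≤ Nat.card N ^ 2 := by
          calc Nat.card N ^ p ≤ (Nat.card {v : N // (MulAut.conjNormal d) v = v}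
                * Nat.card {v : N // (MulAut.conjNormal c) v = v}) ^ p :=
                Nat.pow_le_pow_left hab p
            _ = Nat.card {v : N // (MulAut.conjNormal d) v = v} ^ p
                * Nat.card {v : N // (MulAut.conjNormal c) v = v} ^ p := mul_pow _ _ _
            _ ≤ Nat.card N * Nat.card N := Nat.mul_le_mul hb ha
            _ = Nat.card N ^ 2 := (sq _).symm
        have h4 : Nat.card N ^ 2 < Nat.card N ^ p := Nat.pow_lt_pow_right (by omega) (by omega)
        omega
      exact Subgroup.card_eq_one.mp hm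

/-- **Coprime Baer–Suzuki variant.** -/
theorem coprime_baer_suzuki {p : ℕ} [Fact p.Prime] (hp3 : 3 ≤ p) {G : Type u} [Group G]
    [Finite G] (N P : Subgroup G) (C D : Set G) (h : BSData p N P C D) :
    ∀ g ∈ P, ∀ x ∈ N, g * x = x * g :=
  bs_aux hp3 _ G rfl N P C D h

end Cfsg.Agent.H43
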