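import Mathlib

/-!
# Local moves changing the number of fixed points of `a * b'`

Tools for S2271: for permutations `a`, `b'`, conjugating `b'` by a transposition or a
3-cycle in a controlled position destroys a fixed point of `a * b'` without creating new ones.
-/

set_option autoImplicit false

namespace Cfsg.Agent.H43

open Equiv

theorem card_fixedPoints_lt {α : Type*} [Finite α] (σ₁ σ₂ : Perm α)
    (hsub : ∀ m, σ₂ m = m → σ₁ m = m) (i : α) (h1 : σ₁ i = i) (h2 : σ₂ i ≠ i) :
    Nat.card (Function.fixedPoints ⇑σ₂) < Nat.card (Function.fixedPoints ⇑σ₁) := by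
  rw [Nat.card_coe_set_eq, Nat.card_coe_set_eq]
  apply Set.ncard_lt_ncard
  · constructor
    · intro m hm; exact hsub m hm
    · intro hcon; exact h2 (hcon h1)
  · exact Set.toFinite _

theorem exists_perm_two {α : Type*} [DecidableEq α] (u v i j : α) (huv : u ≠ v) (hij : i ≠ j) :
    ∃ h : Perm α, h u = i ∧ h v = j := by
  have hw : swap u i v ≠ i := by
    intro h
    have h' := congrArg (swap u i) h
    rw [swap_apply_self, swap_apply_right] at h'
    exact huv h'.symm
  refine ⟨swap (swap u i v) j * swap u i, ?_, ?_⟩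
  · rw [Perm.mul_apply, swap_apply_left, swap_apply_of_ne_of_ne (Ne.symm hw) hij]
  · rw [Perm.mul_apply, swap_apply_left]

theorem exists_perm_three {α : Type*} [DecidableEq α] (u₁ u₂ u₃ i j k : α) (hu12 : u₁ ≠ u₂)
    (hu13 : u₁ ≠ u₃) (hu23 : u₂ ≠ u₃) (hij : i ≠ j) (hik : i ≠ k) (hjk : j ≠ k) :
    ∃ h : Perm α, h u₁ = i ∧ h u₂ = j ∧ h u₃ = k := by
  obtain ⟨h₂, h1, h2⟩ := exists_perm_two u₁ u₂ i j hu12 hij
  have hwi : h₂ u₃ ≠ i := by rw [← h1]; exact fun h => hu13 (h₂.injective h).symm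
  have hwj : h₂ u₃ ≠ j := by rw [← h2]; exact fun h => hu23 (h₂.injective h).symm
  refine ⟨swap (h₂ u₃) k * h₂, ?_, ?_, ?_⟩
  · rw [Perm.mul_apply, h1, swap_apply_of_ne_of_ne (Ne.symm hwi) hik]
  · rw [Perm.mul_apply, h2, swap_apply_of_ne_of_ne (Ne.symm hwj) hjk]
  · rw [Perm.mul_apply, swap_apply_left]

theorem exists_two_notMem {n : ℕ} (s : Finset (Fin n)) (hs : s.card + 2 ≤ n) :
    ∃ m₁ m₂ : Fin n, m₁ ≠ m₂ ∧ m₁ ∉ s ∧ m₂ ∉ s := by
  have h1 : 1 < (Finset.univ \ s).card := by
    rw [Finset.card_univ_sdiff, Fintype.card_fin]; omega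
  obtain ⟨m₁, hm₁, m₂, hm₂, hne⟩ := Finset.one_lt_card.mp h1
  exact ⟨m₁, m₂, hne, (Finset.mem_sdiff.mp hm₁).2, (Finset.mem_sdiff.mp hm₂).2⟩

theorem exists_notMem {n : ℕ} (s : Finset (Fin n)) (hs : s.card < n) : ∃ m : Fin n, m ∉ s := by
  by_contra hcon
  push Not at hcon
  have : s = Finset.univ := Finset.eq_univ_iff_forall.mpr hcon
  rw [this, Finset.card_univ, Fintype.card_fin] at hs
  exact lt_irrefl _ hs

theorem exists_alt_three {n : ℕ} (hn : 5 ≤ n) (u₁ u₂ u₃ i j k : Fin n) (hu12 : u₁ ≠ u₂)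
    (hu13 : u₁ ≠ u₃) (hu23 : u₂ ≠ u₃) (hij : i ≠ j) (hik : i ≠ k) (hjk : j ≠ k) :
    ∃ h : Perm (Fin n), h ∈ alternatingGroup (Fin n) ∧ h u₁ = i ∧ h u₂ = j ∧ h u₃ = k := by
  obtain ⟨h₀, h1, h2, h3⟩ := exists_perm_three u₁ u₂ u₃ i j k hu12 hu13 hu23 hij hik hjk
  by_cases hs : Perm.sign h₀ = 1
  · exact ⟨h₀, Perm.mem_alternatingGroup.mpr hs, h1, h2, h3⟩
  · have hs' : Perm.sign h₀ = -1 := (Int.units_eq_one_or _).resolve_left hs
    obtain ⟨m₁, m₂, hne, hm₁, hm₂⟩ := exists_two_notMem ({i, j, k} : Finset (Fin n)) (by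
      have := Finset.card_le_three (a := i) (b := j) (c := k); omega)
    simp only [Finset.mem_insert, Finset.mem_singleton, not_or] at hm₁ hm₂
    refine ⟨swap m₁ m₂ * h₀, ?_, ?_, ?_, ?_⟩
    · rw [Perm.mem_alternatingGroup, Perm.sign_mul, Perm.sign_swap hne, hs']; rfl
    · rw [Perm.mul_apply, h1, swap_apply_of_ne_of_ne (Ne.symm hm₁.1) (Ne.symm hm₂.1)]
    · rw [Perm.mul_apply, h2, swap_apply_of_ne_of_ne (Ne.symm hm₁.2.1) (Ne.symm hm₂.2.1)]
    · rw [Perm.mul_apply, h3, swap_apply_of_ne_of_ne (Ne.symm hm₁.2.2) (Ne.symm hm₂.2.2)]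

theorem exists_three_cycle {α : Type*} [DecidableEq α] [Fintype α] (i j k : α) (hij : i ≠ j)
    (hik : i ≠ k) (hjk : j ≠ k) :
    ∃ t : Perm α, t ∈ alternatingGroup α ∧ t i = j ∧ t j = k ∧ t k = i ∧
      ∀ m, m ≠ i → m ≠ j → m ≠ k → t m = m := by
  refine ⟨swap i j * swap j k, ?_, ?_, ?_, ?_, ?_⟩
  · rw [Perm.mem_alternatingGroup, Perm.sign_mul, Perm.sign_swap hij, Perm.sign_swap hjk]; rfl
  · rw [Perm.mul_apply, swap_apply_of_ne_of_ne hij hik, swap_apply_left]
  · rw [Perm.mul_apply, swap_apply_left, swap_apply_of_ne_of_ne (Ne.symm hik) (Ne.symm hjk)]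
  · rw [Perm.mul_apply, swap_apply_right, swap_apply_right]
  · intro m h1 h2 h3
    rw [Perm.mul_apply, swap_apply_of_ne_of_ne h2 h3, swap_apply_of_ne_of_ne h1 h2]

/-- The transposition move. -/
theorem moveT {α : Type*} [DecidableEq α] [Finite α] (a b' : Perm α) (i j k : α) (hij : i ≠ j)
    (hki : k ≠ i) (hkj : k ≠ j) (hb : b' i = j) (ha : a j = i) (hT1 : a (b' k) ≠ j)
    (hT2 : a (b' j) ≠ k) :
    Nat.card (Function.fixedPoints ⇑(a * (swap j k * b' * (swap j k)⁻¹)))
      < Nat.card (Function.fixedPoints ⇑(a * b')) := by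
  have hak : a k ≠ i := by rw [← ha]; exact fun h => hkj (a.injective h)
  apply card_fixedPoints_lt _ _ _ i
  · rw [Perm.mul_apply, hb, ha]
  · rw [swap_inv, Perm.mul_apply, Perm.mul_apply, Perm.mul_apply,
      swap_apply_of_ne_of_ne hij (Ne.symm hki), hb, swap_apply_left]
    exact hak
  · intro m hm
    rw [swap_inv, Perm.mul_apply, Perm.mul_apply, Perm.mul_apply] at hm
    rw [Perm.mul_apply]
    by_cases hmj : m = j
    · exfalso
      subst hmj
      rw [swap_apply_left] at hm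
      by_cases h1 : b' k = m
      · rw [← hb] at h1; exact hki (b'.injective h1)
      · by_cases h2 : b' k = k
        · rw [h2, swap_apply_right, ha] at hm; exact hij hm
        · rw [swap_apply_of_ne_of_ne h1 h2] at hm; exact hT1 hm
    · by_cases hmk : m = k
      · exfalso
        subst hmk
        rw [swap_apply_right] at hm
        by_cases h1 : b' j = j
        · exact hij (b'.injective (hb.trans h1.symm))
        · by_cases h2 : b' j = m
          · rw [h2, swap_apply_right, ha] at hm; exact hki hm.symm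
          · rw [swap_apply_of_ne_of_ne h1 h2] at hm; exact hT2 hm
      · rw [swap_apply_of_ne_of_ne hmj hmk] at hm
        by_cases h1 : b' m = j
        · exfalso
          have hmi : m = i := b'.injective (h1.trans hb.symm)
          rw [h1, swap_apply_left, hmi] at hm
          exact hak hm
        · by_cases h2 : b' m = k
          · exfalso
            rw [h2, swap_apply_right, ha] at hm
            rw [← hm, hb] at h2
            exact hkj h2.symm
          · rw [swap_apply_of_ne_of_ne h1 h2] at hm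
            exact hm

/-- The 3-cycle move. -/
theorem move3 {α : Type*} [DecidableEq α] [Finite α] (a b' t : Perm α) (i j k p' s' : α)
    (hij : i ≠ j) (hpi : p' ≠ i) (hsj : s' ≠ j)
    (hsi : s' ≠ i) (hsk : s' ≠ k) (hbp : b' p' = i) (hbi : b' i = j) (hbj : b' j = k)
    (hbk : b' k = s') (ha : a j = i) (hk : a i ≠ k)
    (ht1 : t i = j) (ht2 : t j = k) (ht3 : t k = i)
    (ht : ∀ m, m ≠ i → m ≠ j → m ≠ k → t m = m) :
    Nat.card (Function.fixedPoints ⇑(a * (t * b' * t⁻¹)))
      < Nat.card (Function.fixedPoints ⇑(a * b')) := by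
  have hti1 : t⁻¹ j = i := by rw [Perm.inv_eq_iff_eq, ht1]
  have hti2 : t⁻¹ k = j := by rw [Perm.inv_eq_iff_eq, ht2]
  have hti3 : t⁻¹ i = k := by rw [Perm.inv_eq_iff_eq, ht3]
  have hti : ∀ m, m ≠ i → m ≠ j → m ≠ k → t⁻¹ m = m := by
    intro m h1 h2 h3
    rw [Perm.inv_eq_iff_eq, ht m h1 h2 h3]
  have has : a s' ≠ i := by rw [← ha]; exact fun h => hsj (a.injective h)
  apply card_fixedPoints_lt _ _ _ i
  · rw [Perm.mul_apply, hbi, ha]
  · rw [Perm.mul_apply, Perm.mul_apply, Perm.mul_apply, hti3, hbk, ht s' hsi hsj hsk]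
    exact has
  · intro m hm
    rw [Perm.mul_apply, Perm.mul_apply, Perm.mul_apply] at hm
    rw [Perm.mul_apply]
    by_cases hmi : m = i
    · exfalso
      subst hmi
      rw [hti3, hbk, ht s' hsi hsj hsk] at hm
      exact has hm
    · by_cases hmj : m = j
      · subst hmj
        rw [hti1, hbi, ht2] at hm
        rw [hbj]; exact hm
      · by_cases hmk : m = k
        · exfalso
          subst hmk
          rw [hti2, hbj, ht3] at hm
          exact hk hm
        · rw [hti m hmi hmj hmk] at hm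
          by_cases h1 : b' m = i
          · exfalso
            rw [h1, ht1, ha] at hm
            rw [← hm] at hmi
            exact hmi rfl
          · by_cases h2 : b' m = j
            · exfalso
              exact hmi (b'.injective (h2.trans hbi.symm))
            · by_cases h3 : b' m = k
              · exfalso
                exact hmj (b'.injective (h3.trans hbj.symm))
              · rw [ht _ h1 h2 h3] at hm
                exact hm

theorem exists_even_conj {α : Type*} [DecidableEq α] [Fintype α] (b σ : Perm α)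
    (hσ : Perm.sign σ = -1) (hc : σ * b = b * σ) (g : Perm α) :
    ∃ g' : Perm α, g' ∈ alternatingGroup α ∧ g' * b * g'⁻¹ = g * b * g⁻¹ := by
  by_cases hs : Perm.sign g = 1
  · exact ⟨g, Perm.mem_alternatingGroup.mpr hs, rfl⟩
  · have hs' : Perm.sign g = -1 := (Int.units_eq_one_or _).resolve_left hs
    refine ⟨g * σ, ?_, ?_⟩
    · rw [Perm.mem_alternatingGroup, Perm.sign_mul, hs', hσ]; rfl
    · have h1 : σ * b * σ⁻¹ = b := by rw [hc, mul_inv_cancel_right]
      calc g * σ * b * (g * σ)⁻¹ = g * (σ * b * σ⁻¹) * g⁻¹ := by group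
        _ = g * b * g⁻¹ := by rw [h1]

/-- A nonidentity permutation of at least 5 points all of whose cycles have length at most 3
commutes with an odd permutation. -/
theorem exists_odd_commute {n : ℕ} (hn : 5 ≤ n) (b : Perm (Fin n)) (hb : b ≠ 1)
    (hshort : ∀ u, b u ≠ u → b (b u) ≠ u → b (b (b u)) = u) :
    ∃ σ : Perm (Fin n), Perm.sign σ = -1 ∧ σ * b = b * σ := by
  by_cases hB1 : ∃ u, b u ≠ u ∧ b (b u) = u
  · obtain ⟨u, h1, h2⟩ := hB1
    refine ⟨swap u (b u), Perm.sign_swap (Ne.symm h1), ?_⟩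
    rw [mul_swap_eq_swap_mul, h2, swap_comm]
  push Not at hB1
  by_cases hB2 : ∃ w₁ w₂, w₁ ≠ w₂ ∧ b w₁ = w₁ ∧ b w₂ = w₂
  · obtain ⟨w₁, w₂, hne, h1, h2⟩ := hB2
    refine ⟨swap w₁ w₂, Perm.sign_swap hne, ?_⟩
    rw [mul_swap_eq_swap_mul, h1, h2]
  push Not at hB2
  obtain ⟨u, hu⟩ : ∃ u, b u ≠ u := by
    by_contra hcon
    push Not at hcon
    exact hb (Perm.ext hcon)
  have hu2 : b (b u) ≠ u := hB1 u hu
  have hu3 : b (b (b u)) = u := hshort u hu hu2
  obtain ⟨m₁, m₂, hne, hm₁, hm₂⟩ := exists_two_notMem ({u, b u, b (b u)} : Finset (Fin n)) (by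
    have := Finset.card_le_three (a := u) (b := b u) (c := b (b u)); omega)
  simp only [Finset.mem_insert, Finset.mem_singleton, not_or] at hm₁ hm₂
  obtain ⟨v, hv, hvu1, hvu2, hvu3⟩ : ∃ v, b v ≠ v ∧ v ≠ u ∧ v ≠ b u ∧ v ≠ b (b u) := by
    by_cases h1 : b m₁ = m₁
    · exact ⟨m₂, hB2 m₁ m₂ hne h1, hm₂⟩
    · exact ⟨m₁, h1, hm₁⟩
  have hv2 : b (b v) ≠ v := hB1 v hv
  have hv3 : b (b (b v)) = v := hshort v hv hv2
  -- distinctness
  have du12 : u ≠ b u := Ne.symm hu
  have du13 : u ≠ b (b u) := Ne.symm hu2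
  have du23 : b u ≠ b (b u) := fun h => du12 (b.injective h)
  have dv12 : v ≠ b v := Ne.symm hv
  have dv13 : v ≠ b (b v) := Ne.symm hv2
  have dv23 : b v ≠ b (b v) := fun h => dv12 (b.injective h)
  have c21 : b v ≠ u := by
    intro h; rw [← hu3] at h; exact hvu3 (b.injective h)
  have c22 : b v ≠ b u := fun h => hvu1 (b.injective h)
  have c23 : b v ≠ b (b u) := fun h => hvu2 (b.injective h)
  have c31 : b (b v) ≠ u := by
    intro h; rw [← hu3] at h; exact c23 (b.injective h)
  have c32 : b (b v) ≠ b u := fun h => c21 (b.injective h)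
  have c33 : b (b v) ≠ b (b u) := fun h => c22 (b.injective h)
  have e1 : b * swap u v = swap (b u) (b v) * b := mul_swap_eq_swap_mul b u v
  have e2 : b * swap (b u) (b v) = swap (b (b u)) (b (b v)) * b := mul_swap_eq_swap_mul b _ _
  have e3 : b * swap (b (b u)) (b (b v)) = swap u v * b := by
    rw [mul_swap_eq_swap_mul, hu3, hv3]
  have k12 : Commute (swap u v) (swap (b u) (b v)) :=
    (Perm.disjoint_swap_swap (by
      simp only [List.nodup_cons, List.mem_cons, List.not_mem_nil, or_false, not_or,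
        List.nodup_nil, and_true, not_false_eq_true]
      exact ⟨⟨Ne.symm hvu1, du12, Ne.symm c21⟩, ⟨hvu2, dv12⟩, Ne.symm c22⟩)).commute
  have k13 : Commute (swap u v) (swap (b (b u)) (b (b v))) :=
    (Perm.disjoint_swap_swap (by
      simp only [List.nodup_cons, List.mem_cons, List.not_mem_nil, or_false, not_or,
        List.nodup_nil, and_true, not_false_eq_true]
      exact ⟨⟨Ne.symm hvu1, du13, Ne.symm c31⟩, ⟨hvu3, dv13⟩, Ne.symm c33⟩)).commute
  refine ⟨swap u v * swap (b u) (b v) * swap (b (b u)) (b (b v)), ?_, ?_⟩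
  · rw [Perm.sign_mul, Perm.sign_mul, Perm.sign_swap (Ne.symm hvu1), Perm.sign_swap (Ne.symm c22),
      Perm.sign_swap (Ne.symm c33)]
    rfl
  · symm
    calc b * (swap u v * swap (b u) (b v) * swap (b (b u)) (b (b v)))
        = (b * swap u v) * swap (b u) (b v) * swap (b (b u)) (b (b v)) := by
          simp only [mul_assoc]
      _ = swap (b u) (b v) * (b * swap (b u) (b v)) * swap (b (b u)) (b (b v)) := by
          rw [e1]; simp only [mul_assoc]
      _ = swap (b u) (b v) * swap (b (b u)) (b (b v)) * (b * swap (b (b u)) (b (b v))) := by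
          rw [e2]; simp only [mul_assoc]
      _ = swap (b u) (b v) * (swap (b (b u)) (b (b v)) * swap u v) * b := by
          rw [e3]; simp only [mul_assoc]
      _ = swap (b u) (b v) * (swap u v * swap (b (b u)) (b (b v))) * b := by rw [k13.eq]
      _ = (swap (b u) (b v) * swap u v) * swap (b (b u)) (b (b v)) * b := by
          simp only [mul_assoc]
      _ = swap u v * swap (b u) (b v) * swap (b (b u)) (b (b v)) * b := by rw [k12.eq]

end Cfsg.Agent.H43
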