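import Mathlib

set_option autoImplicit false

namespace Cfsg.Agent.H43

open Nat

theorem padicValNat_two_pow_even_sub_one (q : ℕ) (hq : Odd q) (hq1 : 1 < q) (m : ℕ) (hm : m ≠ 0) :
    padicValNat 2 (q ^ (2 * m) - 1) = padicValNat 2 (q ^ 2 - 1) + padicValNat 2 m := by
  have hx : ¬ 2 ∣ q := hq.not_two_dvd_nat
  have hxy : 2 ∣ q - 1 := by
    obtain ⟨k, rfl⟩ := hq
    exact ⟨k, by omega⟩
  have h1 := padicValNat.pow_two_sub_pow hq1 hxy hx (n := 2 * m) (by omega) (even_two_mul m)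
  have h2 := padicValNat.pow_two_sub_pow hq1 hxy hx (n := 2) (by norm_num) even_two
  rw [one_pow] at h1 h2
  have h3 : padicValNat 2 (2 * m) = 1 + padicValNat 2 m := by
    rw [padicValNat.mul (by norm_num) hm, padicValNat_self]
  have h4 : padicValNat 2 2 = 1 := padicValNat_self
  omega

theorem padicValNat_two_prod_sp (q : ℕ) (hq : Odd q) (hq1 : 1 < q) (n : ℕ) :
    padicValNat 2 (∏ i ∈ Finset.range n, (q ^ (2 * (i + 1)) - 1)) =
      n * padicValNat 2 (q ^ 2 - 1) + padicValNat 2 n ! := by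
  have hne : ∀ i, q ^ (2 * (i + 1)) - 1 ≠ 0 := by
    intro i
    have : 1 < q ^ (2 * (i + 1)) := Nat.one_lt_pow (by omega) hq1
    omega
  induction n with
  | zero => simp
  | succ n ih =>
    rw [Finset.prod_range_succ,
      padicValNat.mul (Finset.prod_ne_zero_iff.mpr fun i _ => hne i) (hne n), ih,
      padicValNat_two_pow_even_sub_one q hq hq1 (n + 1) (by omega), Nat.factorial_succ,
      padicValNat.mul (by omega) (Nat.factorial_ne_zero n)]
    ring

/-- The `2`-part of `|Sp_{2n}(q)|` divides `|Sp₂(q)|ⁿ · n!` for odd `q`. -/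
theorem sp_two_part_dvd (q : ℕ) (hq : Odd q) (hq1 : 1 < q) (n : ℕ) :
    2 ^ (q ^ (n ^ 2) * ∏ i ∈ Finset.range n, (q ^ (2 * (i + 1)) - 1)).factorization 2 ∣
      (q ^ (1 ^ 2) * ∏ i ∈ Finset.range 1, (q ^ (2 * (i + 1)) - 1)) ^ n * n ! := by
  have hne : ∀ i, q ^ (2 * (i + 1)) - 1 ≠ 0 := by
    intro i
    have : 1 < q ^ (2 * (i + 1)) := Nat.one_lt_pow (by omega) hq1
    omega
  rw [Nat.factorization_def _ Nat.prime_two]
  have h0 : padicValNat 2 (q ^ (n ^ 2)) = 0 :=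
    padicValNat.eq_zero_of_not_dvd (hq.pow).not_two_dvd_nat
  rw [padicValNat.mul (by positivity) (Finset.prod_ne_zero_iff.mpr fun i _ => hne i), h0, zero_add,
    padicValNat_two_prod_sp q hq hq1 n]
  have e : (q ^ (1 ^ 2) * ∏ i ∈ Finset.range 1, (q ^ (2 * (i + 1)) - 1)) = q * (q ^ 2 - 1) := by
    simp
  rw [e, pow_add, mul_comm n, pow_mul]
  apply mul_dvd_mul
  · exact pow_dvd_pow_of_dvd (Dvd.dvd.mul_left pow_padicValNat_dvd q) n
  · exact pow_padicValNat_dvd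

end Cfsg.Agent.H43
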