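import Mathlib
import Cfsg.Agent.H43.SpTwoPart

set_option autoImplicit false

/-! Helper lemmas (helper43): the `2`-part of `|GL_n(q)|` for odd `q`. -/

namespace Cfsg.Agent.H43

open Nat

theorem pred_mul_geom (q : ℕ) (hq : 1 ≤ q) (i : ℕ) :
    (q - 1) * ∑ j ∈ Finset.range i, q ^ j = q ^ i - 1 := by
  induction i with
  | zero => simp
  | succ i ih =>
    rw [Finset.sum_range_succ, Nat.mul_add, ih, Nat.sub_mul, one_mul, pow_succ]
    have h1 : 1 ≤ q ^ i := Nat.one_le_pow _ _ hq
    have h2 : q ^ i ≤ q * q ^ i := Nat.le_mul_of_pos_left _ hq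
    have h3 : q ^ i * q = q * q ^ i := mul_comm _ _
    omega

theorem padicValNat_two_pow_odd_sub_one (q : ℕ) (hq : Odd q) (hq1 : 1 < q) (i : ℕ) (hi : Odd i) :
    padicValNat 2 (q ^ i - 1) = padicValNat 2 (q - 1) := by
  have hsum : Odd (∑ j ∈ Finset.range i, q ^ j) := by
    rw [Finset.odd_sum_iff_odd_card_odd]
    have : (Finset.range i).filter (fun x => Odd (q ^ x)) = Finset.range i := by
      apply Finset.filter_true_of_mem
      intro x _
      exact hq.pow
    rw [this, Finset.card_range]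
    exact hi
  rw [← pred_mul_geom q (by omega) i,
    padicValNat.mul (by omega) (Nat.pos_of_ne_zero (fun h => by rw [h] at hsum; exact absurd hsum (by decide))).ne',
    padicValNat.eq_zero_of_not_dvd hsum.not_two_dvd_nat, add_zero]

theorem padicValNat_two_sq_sub_one (q : ℕ) (hq : Odd q) (hq1 : 1 < q) :
    padicValNat 2 (q ^ 2 - 1) = padicValNat 2 (q - 1) + padicValNat 2 (q + 1) := by
  have hx : ¬ 2 ∣ q := hq.not_two_dvd_nat
  have hxy : 2 ∣ q - 1 := by
    obtain ⟨k, rfl⟩ := hq
    exact ⟨k, by omega⟩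
  have h2 := padicValNat.pow_two_sub_pow hq1 hxy hx (n := 2) (by norm_num) even_two
  rw [one_pow] at h2
  have h4 : padicValNat 2 2 = 1 := padicValNat_self
  omega

/-- The `2`-adic valuation of `∏_{j < n} (q^(j+1) - 1)`. -/
theorem padicValNat_two_sum_GL (q : ℕ) (hq : Odd q) (hq1 : 1 < q) (n : ℕ) :
    ∑ j ∈ Finset.range n, padicValNat 2 (q ^ (j + 1) - 1) =
      n * padicValNat 2 (q - 1) + (n / 2) * padicValNat 2 (q + 1) + padicValNat 2 (n / 2)! := by
  induction n with
  | zero => simp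
  | succ n ih =>
    rw [Finset.sum_range_succ, ih]
    rcases Nat.even_or_odd n with hn | hn
    · -- n + 1 odd
      have h1 : (n + 1) / 2 = n / 2 := by
        obtain ⟨k, rfl⟩ := hn
        omega
      rw [padicValNat_two_pow_odd_sub_one q hq hq1 (n + 1) hn.add_one, h1]
      ring
    · -- n + 1 even
      obtain ⟨k, rfl⟩ := hn
      have h1 : (2 * k + 1 + 1) / 2 = k + 1 := by omega
      have h2 : (2 * k + 1) / 2 = k := by omega
      have h3 : 2 * k + 1 + 1 = 2 * (k + 1) := by ring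
      rw [h1, h2, h3, padicValNat_two_pow_even_sub_one q hq hq1 (k + 1) (by omega),
        padicValNat_two_sq_sub_one q hq hq1, Nat.factorial_succ,
        padicValNat.mul (by omega) (Nat.factorial_ne_zero k)]
      ring

theorem padicValNat_two_card_GL {F : Type*} [Field F] [Fintype F] (hF : Odd (Fintype.card F))
    (n : ℕ) :
    padicValNat 2 (Nat.card (GL (Fin n) F)) =
      n * padicValNat 2 (Fintype.card F - 1) + (n / 2) * padicValNat 2 (Fintype.card F + 1) +
        padicValNat 2 (n / 2)! := by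
  have hq1 : 1 < Fintype.card F := Fintype.one_lt_card
  obtain ⟨q, hq⟩ : ∃ q : ℕ, q = Fintype.card F := ⟨_, rfl⟩
  rw [Matrix.card_GL_field, ← hq]
  rw [← hq] at hF hq1
  rw [Fin.prod_univ_eq_prod_range (fun i => q ^ n - q ^ i) n]
  have hne : ∀ i ∈ Finset.range n, q ^ n - q ^ i ≠ 0 := by
    intro i hi
    have hi' := Finset.mem_range.mp hi
    have : q ^ i < q ^ n := Nat.pow_lt_pow_right hq1 hi'
    omega
  rw [← Nat.factorization_def _ Nat.prime_two, Nat.factorization_prod hne, Finsupp.finsetSum_apply]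
  have hterm : ∀ i ∈ Finset.range n, (q ^ n - q ^ i).factorization 2 =
      padicValNat 2 (q ^ (n - 1 - i + 1) - 1) := by
    intro i hi
    have hi' := Finset.mem_range.mp hi
    have h1 : q ^ n - q ^ i = q ^ i * (q ^ (n - 1 - i + 1) - 1) := by
      rw [Nat.mul_sub, mul_one, ← pow_add]
      congr 2
      omega
    have h2 : q ^ (n - 1 - i + 1) - 1 ≠ 0 := by
      have : 1 < q ^ (n - 1 - i + 1) := Nat.one_lt_pow (by omega) hq1
      omega
    rw [Nat.factorization_def _ Nat.prime_two, h1, padicValNat.mul (by positivity) h2,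
      padicValNat.eq_zero_of_not_dvd (hF.pow).not_two_dvd_nat, zero_add]
  rw [Finset.sum_congr rfl hterm,
    Finset.sum_range_reflect (fun j => padicValNat 2 (q ^ (j + 1) - 1)) n]
  exact padicValNat_two_sum_GL q hF hq1 n

theorem padicValNat_two_factorial_half (n : ℕ) :
    padicValNat 2 n ! = n / 2 + padicValNat 2 (n / 2)! := by
  have h1 : n = 2 * (n / 2) + n % 2 := (Nat.div_add_mod n 2).symm
  conv_lhs => rw [h1]
  rw [padicValNat_factorial_mul_add (n / 2) (Nat.mod_lt n (by norm_num)), padicValNat_factorial_mul]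
  ring

/-- For `q ≡ 1 (mod 4)` the `2`-part of `|GL_n(q)|` divides `n! · |GL_1(q)|^n`. -/
theorem gl_two_part_dvd_one {F : Type*} [Field F] [Fintype F] (h1 : Fintype.card F % 4 = 1)
    (n : ℕ) :
    2 ^ (Nat.card (GL (Fin n) F)).factorization 2 ∣
      n ! * (Nat.card (GL (Fin 1) F) ^ n * (Fintype.card F - 1) ^ 0) := by
  have hF : Odd (Fintype.card F) := by
    rw [Nat.odd_iff]
    omega
  have hq1 : 1 < Fintype.card F := Fintype.one_lt_card
  have hG1 : Nat.card (GL (Fin 1) F) ≠ 0 := Nat.card_pos.ne'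
  rw [pow_zero, mul_one, Nat.factorization_def _ Nat.prime_two,
    padicValNat_dvd_iff_le (mul_ne_zero (Nat.factorial_ne_zero n) (pow_ne_zero n hG1)),
    padicValNat.mul (Nat.factorial_ne_zero n) (pow_ne_zero n hG1), padicValNat.pow,
    padicValNat_two_card_GL hF n, padicValNat_two_card_GL hF 1, padicValNat_two_factorial_half n]
  have hb : padicValNat 2 (Fintype.card F + 1) = 1 := by
    have h2 : Fintype.card F + 1 = 2 * ((Fintype.card F + 1) / 2) := by omega
    have h3 : ¬ 2 ∣ (Fintype.card F + 1) / 2 := by omega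
    rw [h2, padicValNat.mul (by norm_num) (by omega), padicValNat_self,
      padicValNat.eq_zero_of_not_dvd h3]
  rw [hb]
  simp
  ring_nf
  omega

/-- For odd `q` the `2`-part of `|GL_n(q)|` divides `(n/2)! · |GL_2(q)|^(n/2) · (q-1)^(n%2)`. -/
theorem gl_two_part_dvd_two {F : Type*} [Field F] [Fintype F] (hF : Odd (Fintype.card F))
    (n : ℕ) :
    2 ^ (Nat.card (GL (Fin n) F)).factorization 2 ∣
      (n / 2)! * (Nat.card (GL (Fin 2) F) ^ (n / 2) * (Fintype.card F - 1) ^ (n % 2)) := by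
  have hq1 : 1 < Fintype.card F := Fintype.one_lt_card
  have hG2 : Nat.card (GL (Fin 2) F) ≠ 0 := Nat.card_pos.ne'
  have hq0 : Fintype.card F - 1 ≠ 0 := by omega
  rw [Nat.factorization_def _ Nat.prime_two,
    padicValNat_dvd_iff_le (mul_ne_zero (Nat.factorial_ne_zero _)
      (mul_ne_zero (pow_ne_zero _ hG2) (pow_ne_zero _ hq0))),
    padicValNat.mul (Nat.factorial_ne_zero _) (mul_ne_zero (pow_ne_zero _ hG2) (pow_ne_zero _ hq0)),
    padicValNat.mul (pow_ne_zero _ hG2) (pow_ne_zero _ hq0), padicValNat.pow,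
    padicValNat.pow, padicValNat_two_card_GL hF n, padicValNat_two_card_GL hF 2]
  have h1 : n = 2 * (n / 2) + n % 2 := (Nat.div_add_mod n 2).symm
  obtain ⟨m, hm⟩ : ∃ m, m = n / 2 := ⟨_, rfl⟩
  obtain ⟨r, hr⟩ : ∃ r, r = n % 2 := ⟨_, rfl⟩
  rw [← hm, ← hr] at h1 ⊢
  rw [h1]
  simp
  nlinarith [Nat.zero_le (m * padicValNat 2 (Fintype.card F + 1)), Nat.zero_le (padicValNat 2 m !)]

end Cfsg.Agent.H43
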