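import Mathlib
import Cfsg.Prelude.Def_Transfer

set_option autoImplicit false

namespace Cfsg.Agent.H43

/-- If the normalizer of a `p`-subgroup `E₀` contains a Sylow `p`-subgroup (numerically), then
every Sylow `p`-subgroup contains and normalizes a conjugate of `E₀`. -/
theorem exists_conj_normal_in_sylow {G : Type*} [Group G] [Finite G] (p : ℕ) [hp : Fact p.Prime]
    (E₀ : Subgroup G) (hE : IsPGroup p E₀)
    (hdiv : p ^ (Nat.card G).factorization p ∣ Nat.card (Subgroup.normalizer (E₀ : Set G)))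
    (S : Sylow p G) :
    ∃ g : G, (∀ x : G, g⁻¹ * x * g ∈ E₀ → x ∈ (S : Subgroup G)) ∧
      (∀ s ∈ (S : Subgroup G), ∀ x : G, g⁻¹ * x * g ∈ E₀ ↔ g⁻¹ * (s * x * s⁻¹) * g ∈ E₀) := by
  set N : Subgroup G := Subgroup.normalizer (E₀ : Set G) with hN
  have hEN : E₀ ≤ N := Subgroup.le_normalizer
  have hE' : IsPGroup p (E₀.subgroupOf N) := hE.comap_subtype
  obtain ⟨T, hT⟩ := hE'.exists_le_sylow
  have hN0 : Nat.card N ≠ 0 := Nat.card_pos.ne'
  have hG0 : Nat.card G ≠ 0 := Nat.card_pos.ne'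
  have hfac : (Nat.card N).factorization p = (Nat.card G).factorization p := by
    apply le_antisymm
    · have hdvd : Nat.card N ∣ Nat.card G := Subgroup.card_subgroup_dvd_card N
      have h1 : p ^ (Nat.card N).factorization p ∣ Nat.card G :=
        (Nat.ordProj_dvd _ _).trans hdvd
      exact (hp.out.pow_dvd_iff_le_factorization hG0).mp h1
    · exact (hp.out.pow_dvd_iff_le_factorization hN0).mp hdiv
  have hcardT : Nat.card ((T : Subgroup N).map N.subtype) = p ^ (Nat.card G).factorization p := by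
    rw [Subgroup.card_map_of_injective N.subtype_injective, T.card_eq_multiplicity, hfac]
  obtain ⟨g, hg⟩ := MulAction.exists_smul_eq G (Sylow.ofCard _ hcardT) S
  have hS : ∀ s : G, s ∈ (S : Subgroup G) ↔ g⁻¹ * s * g ∈ (T : Subgroup N).map N.subtype := by
    intro s
    rw [← hg, Sylow.coe_subgroup_smul, Subgroup.mem_pointwise_smul_iff_inv_smul_mem]
    simp [MulAut.smul_def, Sylow.ofCard]
  refine ⟨g, ?_, ?_⟩
  · intro x hx
    rw [hS]
    exact ⟨⟨g⁻¹ * x * g, hEN hx⟩, hT (by simpa [Subgroup.mem_subgroupOf] using hx), rfl⟩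
  · intro s hs x
    rw [hS] at hs
    obtain ⟨t, -, ht⟩ := hs
    have htN : g⁻¹ * s * g ∈ N := by
      rw [← ht]; exact t.2
    rw [hN, Subgroup.mem_normalizer_iff] at htN
    have := htN (g⁻¹ * x * g)
    have e : g⁻¹ * s * g * (g⁻¹ * x * g) * (g⁻¹ * s * g)⁻¹ = g⁻¹ * (s * x * s⁻¹) * g := by group
    rw [e] at this
    exact this

/-- Transfer of a normal elementary abelian subgroup to every Sylow `p`-subgroup. -/
theorem exists_normal_elemAb_in_sylow {G : Type*} [Group G] [Finite G] (p : ℕ) [hp : Fact p.Prime]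
    (E₀ : Subgroup G) (hcomm : ∀ a ∈ E₀, ∀ b ∈ E₀, a * b = b * a) (hexp : ∀ a ∈ E₀, a ^ p = 1)
    (hdiv : p ^ (Nat.card G).factorization p ∣ Nat.card (Subgroup.normalizer (E₀ : Set G)))
    (S : Sylow p G) :
    ∃ E : Subgroup ↥(S : Subgroup G), E.Normal ∧ Cfsg.IsElementaryAbelian p E ∧
      Nat.card E = Nat.card E₀ := by
  have hE : IsPGroup p E₀ := fun a => ⟨1, by
    rw [pow_one]
    exact Subtype.ext (by simpa using hexp a a.2)⟩
  obtain ⟨g, h1, h2⟩ := exists_conj_normal_in_sylow p E₀ hE hdiv S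
  let E₁ : Subgroup G := E₀.map (MulAut.conj g).toMonoidHom
  have hmem : ∀ x : G, x ∈ E₁ ↔ g⁻¹ * x * g ∈ E₀ := by
    intro x
    change x ∈ E₀.map (MulAut.conj g).toMonoidHom ↔ _
    rw [Subgroup.mem_map_equiv]
    simp
  have hle : E₁ ≤ (S : Subgroup G) := fun x hx => h1 x ((hmem x).mp hx)
  have hnorm : (S : Subgroup G) ≤ Subgroup.normalizer (E₁ : Set G) := by
    intro s hs
    rw [Subgroup.mem_normalizer_iff]
    intro x
    rw [hmem, hmem]
    exact h2 s hs x
  have hcard : Nat.card (E₁.subgroupOf (S : Subgroup G)) = Nat.card E₀ := by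
    rw [Nat.card_congr (Subgroup.subgroupOfEquivOfLe hle).toEquiv]
    exact Subgroup.card_map_of_injective (MulAut.conj g).injective
  refine ⟨E₁.subgroupOf (S : Subgroup G),
    (Subgroup.normal_subgroupOf_iff_le_normalizer hle).mpr hnorm, ⟨⟨⟨fun a b => ?_⟩⟩, ?_⟩, hcard⟩
  · have ha : g⁻¹ * ((a : (S : Subgroup G)) : G) * g ∈ E₀ := (hmem _).mp a.2
    have hb : g⁻¹ * ((b : (S : Subgroup G)) : G) * g ∈ E₀ := (hmem _).mp b.2
    have hab := hcomm _ ha _ hb
    apply Subtype.ext
    apply Subtype.ext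
    change ((a : (S : Subgroup G)) : G) * ((b : (S : Subgroup G)) : G) =
      ((b : (S : Subgroup G)) : G) * ((a : (S : Subgroup G)) : G)
    have e1 : ((a : (S : Subgroup G)) : G) * ((b : (S : Subgroup G)) : G) =
        g * ((g⁻¹ * ((a : (S : Subgroup G)) : G) * g) * (g⁻¹ * ((b : (S : Subgroup G)) : G) * g)) * g⁻¹ := by
      group
    have e2 : ((b : (S : Subgroup G)) : G) * ((a : (S : Subgroup G)) : G) =
        g * ((g⁻¹ * ((b : (S : Subgroup G)) : G) * g) * (g⁻¹ * ((a : (S : Subgroup G)) : G) * g)) * g⁻¹ := by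
      group
    rw [e1, e2, hab]
  · intro a ha
    have ha' : g⁻¹ * (a : G) * g ∈ E₀ := (hmem _).mp ha
    have h3 := hexp _ ha'
    apply Subtype.ext
    have e : (g⁻¹ * (a : G) * g) ^ p = g⁻¹ * (a : G) ^ p * g := by
      have := map_pow (MulAut.conj g⁻¹) (a : G) p
      simpa using this.symm
    rw [e] at h3
    have h4 : (a : G) ^ p = 1 := by
      have := congrArg (fun z => g * z * g⁻¹) h3
      simpa [mul_assoc] using this
    simpa using h4

end Cfsg.Agent.H43
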