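import Mathlib
import Cfsg.Prelude.Def_Transfer
import Cfsg.Agent.H1.Coprime
import Cfsg.Agent.H43.SylowNormal
import Cfsg.Agent.H43.SignDiag

set_option autoImplicit false

/-! Helper lemmas (helper43): the subgroup `(GL_β ≀ Sym κ) × (Fˣ)^γ` of `GL` of the index type
`(β × κ) ⊕ γ`, normalizing the group of block sign matrices; transfer of the sign group to a normal
elementary abelian subgroup of every Sylow `2`-subgroup of `GL_n`. -/

namespace Cfsg.Agent.H43

open Matrix

section permmat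

variable {F : Type*} [Field F] {ι : Type*} [DecidableEq ι]

/-- The permutation matrix sending the `j`-th basis vector to the `τ j`-th one. -/
def permMat (F : Type*) [Field F] {ι : Type*} [DecidableEq ι] (τ : Equiv.Perm ι) : Matrix ι ι F :=
  Matrix.of fun i j => if i = τ j then 1 else 0

theorem permMat_apply (τ : Equiv.Perm ι) (i j : ι) :
    permMat F τ i j = if i = τ j then 1 else 0 := rfl

theorem permMat_mul_apply [Fintype ι] (τ : Equiv.Perm ι) (M : Matrix ι ι F) (x z : ι) :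
    (permMat F τ * M) x z = M (τ⁻¹ x) z := by
  rw [Matrix.mul_apply, Finset.sum_eq_single (τ⁻¹ x)]
  · rw [permMat_apply, if_pos (by simp), one_mul]
  · intro y _ hy
    rw [permMat_apply, if_neg, zero_mul]
    intro h
    apply hy
    rw [h]
    simp
  · intro h
    exact absurd (Finset.mem_univ _) h

theorem mul_permMat_apply [Fintype ι] (τ : Equiv.Perm ι) (M : Matrix ι ι F) (x z : ι) :
    (M * permMat F τ) x z = M x (τ z) := by
  rw [Matrix.mul_apply, Finset.sum_eq_single (τ z)]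
  · rw [permMat_apply, if_pos rfl, mul_one]
  · intro y _ hy
    rw [permMat_apply, if_neg hy, mul_zero]
  · intro h
    exact absurd (Finset.mem_univ _) h

theorem permMat_one : permMat F (1 : Equiv.Perm ι) = 1 := by
  ext i j
  rw [permMat_apply, Matrix.one_apply, Equiv.Perm.one_apply]

theorem permMat_mul [Fintype ι] (σ τ : Equiv.Perm ι) :
    permMat F (σ * τ) = permMat F σ * permMat F τ := by
  ext i j
  rw [permMat_mul_apply, permMat_apply, permMat_apply]
  by_cases h : i = (σ * τ) j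
  · rw [if_pos h, if_pos]
    rw [h]
    simp
  · rw [if_neg h, if_neg]
    intro h'
    apply h
    rw [Equiv.Perm.mul_apply, ← h']
    simp

end permmat

section wreath

variable {F : Type*} [Field F] {κ β γ : Type*} [Fintype κ] [DecidableEq κ] [Fintype β]
  [DecidableEq β] [Fintype γ] [DecidableEq γ]

/-- Block-diagonal matrix with blocks `k i` on `β × κ` and diagonal `d` on `γ`. -/
def bdMat (k : κ → Matrix β β F) (d : γ → F) : Matrix ((β × κ) ⊕ γ) ((β × κ) ⊕ γ) F :=
  Matrix.fromBlocks (Matrix.blockDiagonal k) 0 0 (Matrix.diagonal d)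

theorem bdMat_mul (k k' : κ → Matrix β β F) (d d' : γ → F) :
    bdMat (fun i => k i * k' i) (fun j => d j * d' j) = bdMat k d * bdMat k' d' := by
  unfold bdMat
  rw [Matrix.fromBlocks_multiply, Matrix.blockDiagonal_mul, Matrix.diagonal_mul_diagonal]
  simp

theorem bdMat_one : bdMat (fun _ : κ => (1 : Matrix β β F)) (fun _ : γ => (1 : F)) = 1 := by
  unfold bdMat
  have h1 : Matrix.blockDiagonal (fun _ : κ => (1 : Matrix β β F)) = 1 := Matrix.blockDiagonal_one
  have h2 : Matrix.diagonal (fun _ : γ => (1 : F)) = 1 := Matrix.diagonal_one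
  rw [h1, h2, Matrix.fromBlocks_one]

theorem bdMat_inj {k k' : κ → Matrix β β F} {d d' : γ → F} (h : bdMat k d = bdMat k' d') :
    k = k' ∧ d = d' := by
  unfold bdMat at h
  rw [Matrix.fromBlocks_inj] at h
  exact ⟨Matrix.blockDiagonal_injective h.1, Matrix.diagonal_injective h.2.2.2⟩

/-- The block-diagonal embedding `(GL_β)^κ × (Fˣ)^γ → GL`. -/
def bdHom (F : Type*) [Field F] (κ β γ : Type*) [Fintype κ] [DecidableEq κ] [Fintype β]
    [DecidableEq β] [Fintype γ] [DecidableEq γ] :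
    (κ → Matrix.GeneralLinearGroup β F) × (γ → Fˣ) →*
      Matrix.GeneralLinearGroup ((β × κ) ⊕ γ) F :=
  MonoidHom.toHomUnits
    { toFun := fun g => bdMat (fun i => (g.1 i : Matrix β β F)) (fun j => (g.2 j : F))
      map_one' := bdMat_one
      map_mul' := fun g h => bdMat_mul _ _ _ _ }

theorem bdHom_coe (g : (κ → Matrix.GeneralLinearGroup β F) × (γ → Fˣ)) :
    ((bdHom F κ β γ g : Matrix.GeneralLinearGroup ((β × κ) ⊕ γ) F) :
      Matrix ((β × κ) ⊕ γ) ((β × κ) ⊕ γ) F) =
      bdMat (fun i => (g.1 i : Matrix β β F)) (fun j => (g.2 j : F)) := rfl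

theorem bdHom_injective : Function.Injective (bdHom F κ β γ) := by
  intro g h hgh
  have h1 := congrArg (fun y : Matrix.GeneralLinearGroup ((β × κ) ⊕ γ) F =>
    (y : Matrix ((β × κ) ⊕ γ) ((β × κ) ⊕ γ) F)) hgh
  simp only [bdHom_coe] at h1
  obtain ⟨h2, h3⟩ := bdMat_inj h1
  apply Prod.ext
  · funext i
    exact Units.ext (congrFun h2 i)
  · funext j
    exact Units.ext (congrFun h3 j)

/-- The permutation of `β × κ` induced by a permutation of `κ`. -/
def ptau (β : Type*) {κ : Type*} (σ : Equiv.Perm κ) : Equiv.Perm (β × κ) :=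
  Equiv.prodCongr (Equiv.refl β) σ

theorem ptau_apply (σ : Equiv.Perm κ) (x : β × κ) : ptau β σ x = (x.1, σ x.2) := rfl

theorem ptau_one : ptau β (1 : Equiv.Perm κ) = 1 := by
  ext x <;> rfl

theorem ptau_mul (σ τ : Equiv.Perm κ) : ptau β (σ * τ) = ptau β σ * ptau β τ := by
  ext x <;> rfl

theorem ptau_inv_apply (σ : Equiv.Perm κ) (x : β × κ) : (ptau β σ)⁻¹ x = (x.1, σ⁻¹ x.2) := by
  rw [Equiv.Perm.inv_eq_iff_eq, ptau_apply]
  simp

/-- The block permutation matrix. -/
def pmMat (F : Type*) [Field F] (β γ : Type*) {κ : Type*} [DecidableEq κ] [DecidableEq β]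
    [DecidableEq γ] (σ : Equiv.Perm κ) : Matrix ((β × κ) ⊕ γ) ((β × κ) ⊕ γ) F :=
  Matrix.fromBlocks (permMat F (ptau β σ)) 0 0 1

theorem pmMat_one : pmMat F β γ (1 : Equiv.Perm κ) = 1 := by
  unfold pmMat
  rw [ptau_one, permMat_one, Matrix.fromBlocks_one]

theorem pmMat_mul (σ τ : Equiv.Perm κ) : pmMat F β γ (σ * τ) = pmMat F β γ σ * pmMat F β γ τ := by
  unfold pmMat
  rw [Matrix.fromBlocks_multiply, ptau_mul, permMat_mul]
  simp

/-- The block permutation embedding `Sym κ → GL`. -/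
def pmHom (F : Type*) [Field F] (κ β γ : Type*) [Fintype κ] [DecidableEq κ] [Fintype β]
    [DecidableEq β] [Fintype γ] [DecidableEq γ] :
    Equiv.Perm κ →* Matrix.GeneralLinearGroup ((β × κ) ⊕ γ) F :=
  MonoidHom.toHomUnits
    { toFun := fun σ => pmMat F β γ σ
      map_one' := pmMat_one
      map_mul' := pmMat_mul }

theorem pmHom_coe (σ : Equiv.Perm κ) :
    ((pmHom F κ β γ σ : Matrix.GeneralLinearGroup ((β × κ) ⊕ γ) F) :
      Matrix ((β × κ) ⊕ γ) ((β × κ) ⊕ γ) F) = pmMat F β γ σ := rfl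

theorem pmMat_mul_bdMat (σ : Equiv.Perm κ) (k : κ → Matrix β β F) (d : γ → F) :
    pmMat F β γ σ * bdMat k d = bdMat (fun i => k (σ⁻¹ i)) d * pmMat F β γ σ := by
  unfold pmMat bdMat
  rw [Matrix.fromBlocks_multiply, Matrix.fromBlocks_multiply]
  simp only [Matrix.zero_mul, Matrix.mul_zero, add_zero, zero_add, Matrix.one_mul, Matrix.mul_one]
  congr 1
  ext x z
  rw [permMat_mul_apply, mul_permMat_apply, Matrix.blockDiagonal_apply, Matrix.blockDiagonal_apply,
    ptau_inv_apply, ptau_apply]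
  by_cases h : x.2 = σ z.2
  · rw [if_pos h, if_pos (by rw [h]; simp)]
  · rw [if_neg h, if_neg (fun h' => h (by rw [← h']; simp))]

theorem pmHom_mul_bdHom (σ : Equiv.Perm κ) (g : (κ → Matrix.GeneralLinearGroup β F) × (γ → Fˣ)) :
    pmHom F κ β γ σ * bdHom F κ β γ g =
      bdHom F κ β γ (fun i => g.1 (σ⁻¹ i), g.2) * pmHom F κ β γ σ := by
  apply Units.ext
  rw [Units.val_mul, Units.val_mul, pmHom_coe, bdHom_coe, bdHom_coe, pmMat_mul_bdMat]

theorem pmHom_conj_bdHom (σ : Equiv.Perm κ) (g : (κ → Matrix.GeneralLinearGroup β F) × (γ → Fˣ)) :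
    pmHom F κ β γ σ * bdHom F κ β γ g * (pmHom F κ β γ σ)⁻¹ =
      bdHom F κ β γ (fun i => g.1 (σ⁻¹ i), g.2) := by
  rw [pmHom_mul_bdHom, mul_inv_cancel_right]

theorem permMat_ptau_eq_blockDiagonal [Nonempty β] (σ : Equiv.Perm κ) (k : κ → Matrix β β F)
    (h : permMat F (ptau β σ) = Matrix.blockDiagonal k) : σ = 1 := by
  obtain ⟨b₀⟩ := (inferInstance : Nonempty β)
  ext j
  by_contra hne
  have hne' : ¬ ((b₀, σ j) : β × κ).2 = ((b₀, j) : β × κ).2 := hne
  have h1 := congrFun (congrFun h (b₀, σ j)) (b₀, j)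
  rw [permMat_apply, ptau_apply, if_pos rfl, Matrix.blockDiagonal_apply, if_neg hne'] at h1
  exact one_ne_zero h1

theorem pmHom_injective [Nonempty β] : Function.Injective (pmHom F κ β γ) := by
  obtain ⟨b₀⟩ := (inferInstance : Nonempty β)
  intro σ τ hστ
  have h1 := congrArg (fun y : Matrix.GeneralLinearGroup ((β × κ) ⊕ γ) F =>
    (y : Matrix ((β × κ) ⊕ γ) ((β × κ) ⊕ γ) F)) hστ
  simp only [pmHom_coe] at h1
  unfold pmMat at h1
  rw [Matrix.fromBlocks_inj] at h1
  ext j
  have h2 := congrFun (congrFun h1.1 (b₀, σ j)) (b₀, j)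
  rw [permMat_apply, ptau_apply, if_pos rfl, permMat_apply, ptau_apply] at h2
  by_contra hne
  rw [if_neg (fun h => hne (congrArg Prod.snd h))] at h2
  exact one_ne_zero h2

theorem range_pmHom_le_normalizer :
    (pmHom F κ β γ).range ≤ Subgroup.normalizer ((bdHom F κ β γ).range : Set _) := by
  rintro w ⟨σ, rfl⟩
  have key : ∀ (τ : Equiv.Perm κ) (b : Matrix.GeneralLinearGroup ((β × κ) ⊕ γ) F),
      b ∈ (bdHom F κ β γ).range → pmHom F κ β γ τ * b * (pmHom F κ β γ τ)⁻¹ ∈ (bdHom F κ β γ).range := by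
    rintro τ b ⟨g, rfl⟩
    rw [pmHom_conj_bdHom]
    exact ⟨_, rfl⟩
  rw [Subgroup.mem_normalizer_iff]
  intro b
  constructor
  · exact key σ b
  · intro hb
    have := key σ⁻¹ _ hb
    rw [map_inv] at this
    simpa [mul_assoc] using this

theorem range_pmHom_inf_range_bdHom [Nonempty β] :
    (pmHom F κ β γ).range ⊓ (bdHom F κ β γ).range = ⊥ := by
  rw [Subgroup.eq_bot_iff_forall]
  rintro y ⟨⟨σ, rfl⟩, ⟨g, hg⟩⟩
  have h1 := congrArg (fun y : Matrix.GeneralLinearGroup ((β × κ) ⊕ γ) F =>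
    (y : Matrix ((β × κ) ⊕ γ) ((β × κ) ⊕ γ) F)) hg
  simp only [pmHom_coe, bdHom_coe] at h1
  unfold pmMat bdMat at h1
  rw [Matrix.fromBlocks_inj] at h1
  have hσ : σ = 1 := permMat_ptau_eq_blockDiagonal σ _ h1.1.symm
  rw [hσ, map_one]

/-- The sign part: `ε ↦ (ε_i · 1)_i, (ε_j)_j`. -/
def sgnPart (F : Type*) [Field F] (κ β γ : Type*) [Fintype β] [DecidableEq β] :
    ((κ ⊕ γ) → ℤˣ) →* (κ → Matrix.GeneralLinearGroup β F) × (γ → Fˣ) where
  toFun ε := (fun i => Units.map (Matrix.scalar β).toMonoidHom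
      (Units.map (Int.castRingHom F).toMonoidHom (ε (Sum.inl i))),
    fun j => Units.map (Int.castRingHom F).toMonoidHom (ε (Sum.inr j)))
  map_one' := by
    apply Prod.ext
    · funext i
      simp
    · funext j
      simp
  map_mul' a b := by
    apply Prod.ext
    · funext i
      simp
    · funext j
      simp

theorem sgnPart_fst (ε : (κ ⊕ γ) → ℤˣ) (i : κ) :
    (((sgnPart F κ β γ ε).1 i : Matrix.GeneralLinearGroup β F) : Matrix β β F) =
      Matrix.scalar β (sgnHom F (ε (Sum.inl i))) := rfl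

theorem sgnPart_snd (ε : (κ ⊕ γ) → ℤˣ) (j : γ) :
    (((sgnPart F κ β γ ε).2 j : Fˣ) : F) = sgnHom F (ε (Sum.inr j)) := rfl

theorem sgnPart_central (ε : (κ ⊕ γ) → ℤˣ) (g : (κ → Matrix.GeneralLinearGroup β F) × (γ → Fˣ)) :
    sgnPart F κ β γ ε * g = g * sgnPart F κ β γ ε := by
  apply Prod.ext
  · funext i
    apply Units.ext
    change ((sgnPart F κ β γ ε).1 i : Matrix β β F) * (g.1 i : Matrix β β F) =
      (g.1 i : Matrix β β F) * ((sgnPart F κ β γ ε).1 i : Matrix β β F)
    rw [sgnPart_fst]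
    exact (Matrix.scalar_commute _ (fun r => Commute.all _ r) _).eq
  · funext j
    exact mul_comm _ _

theorem sgnPart_injective [Nonempty β] (h2 : (2 : F) ≠ 0) :
    Function.Injective (sgnPart F κ β γ) := by
  obtain ⟨b₀⟩ := (inferInstance : Nonempty β)
  intro ε ε' h
  funext s
  apply sgnHom_injective h2
  rcases s with i | j
  · have h1 := congrArg (fun t : (κ → Matrix.GeneralLinearGroup β F) × (γ → Fˣ) =>
      ((t.1 i : Matrix.GeneralLinearGroup β F) : Matrix β β F) b₀ b₀) h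
    simp only [sgnPart_fst] at h1
    simpa [Matrix.scalar_apply] using h1
  · have h1 := congrArg (fun t : (κ → Matrix.GeneralLinearGroup β F) × (γ → Fˣ) =>
      ((t.2 j : Fˣ) : F)) h
    simp only [sgnPart_snd] at h1
    exact h1

theorem pmHom_conj_sgn (σ : Equiv.Perm κ) (ε : (κ ⊕ γ) → ℤˣ) :
    pmHom F κ β γ σ * bdHom F κ β γ (sgnPart F κ β γ ε) * (pmHom F κ β γ σ)⁻¹ =
      bdHom F κ β γ (sgnPart F κ β γ
        (fun s => Sum.elim (fun i => ε (Sum.inl (σ⁻¹ i))) (fun j => ε (Sum.inr j)) s)) := by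
  rw [pmHom_conj_bdHom]
  rfl

/-- The group of block sign matrices. -/
def sgnSub (F : Type*) [Field F] (κ β γ : Type*) [Fintype κ] [DecidableEq κ] [Fintype β]
    [DecidableEq β] [Fintype γ] [DecidableEq γ] :
    Subgroup (Matrix.GeneralLinearGroup ((β × κ) ⊕ γ) F) :=
  ((bdHom F κ β γ).comp (sgnPart F κ β γ)).range

theorem card_sgnSub [Nonempty β] (h2 : (2 : F) ≠ 0) :
    Nat.card (sgnSub F κ β γ) = 2 ^ (Fintype.card κ + Fintype.card γ) := by
  have hinj : Function.Injective ((bdHom F κ β γ).comp (sgnPart F κ β γ)) := by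
    rw [MonoidHom.coe_comp]
    exact bdHom_injective.comp (sgnPart_injective h2)
  unfold sgnSub
  rw [← Nat.card_congr (MonoidHom.ofInjective hinj).toEquiv, Nat.card_fun, Nat.card_sum,
    Nat.card_eq_fintype_card, Nat.card_eq_fintype_card, Nat.card_eq_fintype_card,
    Fintype.card_units_int]

theorem range_bdHom_le_normalizer :
    (bdHom F κ β γ).range ≤ Subgroup.normalizer ((sgnSub F κ β γ : Subgroup _) : Set _) := by
  rintro b ⟨g, rfl⟩
  apply Subgroup.centralizer_le_normalizer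
  rw [Subgroup.mem_centralizer_iff]
  rintro y ⟨ε, rfl⟩
  rw [MonoidHom.comp_apply, ← map_mul, ← map_mul, sgnPart_central]

theorem range_pmHom_le_normalizer_sgn :
    (pmHom F κ β γ).range ≤ Subgroup.normalizer ((sgnSub F κ β γ : Subgroup _) : Set _) := by
  rintro w ⟨σ, rfl⟩
  have key : ∀ (τ : Equiv.Perm κ) (b : Matrix.GeneralLinearGroup ((β × κ) ⊕ γ) F),
      b ∈ sgnSub F κ β γ → pmHom F κ β γ τ * b * (pmHom F κ β γ τ)⁻¹ ∈ sgnSub F κ β γ := by
    rintro τ b ⟨ε, rfl⟩
    rw [MonoidHom.comp_apply, pmHom_conj_sgn]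
    exact ⟨_, rfl⟩
  rw [Subgroup.mem_normalizer_iff]
  intro b
  constructor
  · exact key σ b
  · intro hb
    have := key σ⁻¹ _ hb
    rw [map_inv] at this
    simpa [mul_assoc] using this

theorem card_dvd_normalizer_sgnSub [Fintype F] [Nonempty β] :
    (Fintype.card κ).factorial * (Nat.card (Matrix.GeneralLinearGroup β F) ^ Fintype.card κ *
      (Fintype.card F - 1) ^ Fintype.card γ) ∣
      Nat.card (Subgroup.normalizer
        (sgnSub F κ β γ : Set (Matrix.GeneralLinearGroup ((β × κ) ⊕ γ) F))) := by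
  have h1 := Cfsg.Agent.H1.card_sup_of_le_normalizer (pmHom F κ β γ).range (bdHom F κ β γ).range
    range_pmHom_le_normalizer range_pmHom_inf_range_bdHom
  have h2 : Nat.card (pmHom F κ β γ).range = (Fintype.card κ).factorial := by
    rw [← Nat.card_congr (MonoidHom.ofInjective pmHom_injective).toEquiv, Nat.card_perm,
      Nat.card_eq_fintype_card]
  have h3 : Nat.card (bdHom F κ β γ).range =
      Nat.card (Matrix.GeneralLinearGroup β F) ^ Fintype.card κ *
        (Fintype.card F - 1) ^ Fintype.card γ := by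
    rw [← Nat.card_congr (MonoidHom.ofInjective bdHom_injective).toEquiv, Nat.card_prod, Nat.card_fun,
      Nat.card_fun, Nat.card_units, Nat.card_eq_fintype_card (α := κ),
      Nat.card_eq_fintype_card (α := γ), Nat.card_eq_fintype_card (α := F)]
  rw [← h2, ← h3, ← h1]
  exact Subgroup.card_dvd_of_le (sup_le range_pmHom_le_normalizer_sgn range_bdHom_le_normalizer)

end wreath

section transfer

variable {F : Type*} [Field F] [Fintype F] {κ β γ : Type*} [Fintype κ] [DecidableEq κ] [Fintype β]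
  [DecidableEq β] [Fintype γ] [DecidableEq γ]

/-- The isomorphism of general linear groups induced by a bijection of index types. -/
def glReindex (F : Type*) [Field F] {ι : Type*} [Fintype ι] [DecidableEq ι] {n : ℕ}
    (e : ι ≃ Fin n) : Matrix.GeneralLinearGroup ι F ≃* Matrix.GeneralLinearGroup (Fin n) F :=
  Units.mapEquiv (Matrix.reindexAlgEquiv F F e).toMulEquiv

/-- **Existence of a normal elementary abelian subgroup** of order `2^(|κ| + |γ|)` in every Sylow
`2`-subgroup of `GL_n(F)`, given that the `2`-part of `|GL_n(F)|` divides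
`|κ|! · |GL_β(F)|^|κ| · (q-1)^|γ|`. -/
theorem exists_normal_elemAb_GL [Nonempty β] (hF : Odd (Fintype.card F)) {n : ℕ}
    (e : (β × κ) ⊕ γ ≃ Fin n)
    (hdiv : 2 ^ (Nat.card (Matrix.GeneralLinearGroup (Fin n) F)).factorization 2 ∣
      (Fintype.card κ).factorial * (Nat.card (Matrix.GeneralLinearGroup β F) ^ Fintype.card κ *
        (Fintype.card F - 1) ^ Fintype.card γ))
    (S : Sylow 2 (Matrix.GeneralLinearGroup (Fin n) F)) :
    ∃ E : Subgroup ↥(S : Subgroup (Matrix.GeneralLinearGroup (Fin n) F)), E.Normal ∧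
      Cfsg.IsElementaryAbelian 2 E ∧ Nat.card E = 2 ^ (Fintype.card κ + Fintype.card γ) := by
  classical
  have h2 : (2 : F) ≠ 0 := two_ne_zero_of_odd_card hF
  obtain ⟨ψ, hψ⟩ : ∃ ψ : Matrix.GeneralLinearGroup ((β × κ) ⊕ γ) F ≃*
      Matrix.GeneralLinearGroup (Fin n) F, ψ = glReindex F e := ⟨_, rfl⟩
  obtain ⟨E₀, hE₀⟩ : ∃ E₀ : Subgroup (Matrix.GeneralLinearGroup (Fin n) F),
      E₀ = (sgnSub F κ β γ).map ψ.toMonoidHom := ⟨_, rfl⟩
  have hcardE₀ : Nat.card E₀ = 2 ^ (Fintype.card κ + Fintype.card γ) := by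
    rw [hE₀, Subgroup.card_map_of_injective ψ.injective, card_sgnSub h2]
  have hcomm : ∀ a ∈ E₀, ∀ b ∈ E₀, a * b = b * a := by
    rw [hE₀]
    rintro a ⟨a', ⟨ε, rfl⟩, rfl⟩ b ⟨b', ⟨ε', rfl⟩, rfl⟩
    rw [← map_mul, ← map_mul, ← map_mul, ← map_mul, mul_comm]
  have hexp : ∀ a ∈ E₀, a ^ 2 = 1 := by
    rw [hE₀]
    rintro a ⟨a', ⟨ε, rfl⟩, rfl⟩
    rw [← map_pow, ← map_pow]
    have : ε ^ 2 = 1 := by
      funext i
      simp [pow_two]
    rw [this, map_one, map_one]
  have hdiv' : 2 ^ (Nat.card (Matrix.GeneralLinearGroup (Fin n) F)).factorization 2 ∣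
      Nat.card (Subgroup.normalizer (E₀ : Set (Matrix.GeneralLinearGroup (Fin n) F))) := by
    refine hdiv.trans (card_dvd_normalizer_sgnSub.trans ?_)
    have h3 : (Subgroup.normalizer
        (sgnSub F κ β γ : Set (Matrix.GeneralLinearGroup ((β × κ) ⊕ γ) F))).map ψ.toMonoidHom ≤
        Subgroup.normalizer (E₀ : Set (Matrix.GeneralLinearGroup (Fin n) F)) := by
      rw [hE₀]
      exact Subgroup.le_normalizer_map ψ.toMonoidHom
    have h4 := Subgroup.card_dvd_of_le h3
    rwa [Subgroup.card_map_of_injective ψ.injective] at h4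
  obtain ⟨E, hEn, hEel, hEc⟩ := exists_normal_elemAb_in_sylow 2 E₀ hcomm hexp hdiv' S
  exact ⟨E, hEn, hEel, by rw [hEc, hcardE₀]⟩

end transfer

end Cfsg.Agent.H43
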