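import Mathlib

set_option autoImplicit false

namespace Cfsg.Agent.H43.Ord7920

open Subgroup

/-- A Sylow `p`-subgroup has order `p` when `p` divides the group order exactly once. -/
theorem sylow_card_prime {G : Type*} [Group G] [Finite G] (p : ℕ) [Fact p.Prime] (P : Sylow p G)
    (h1 : p ∣ Nat.card G) (h2 : ¬ p ^ 2 ∣ Nat.card G) : Nat.card (P : Subgroup G) = p := by
  obtain ⟨k, hk⟩ := IsPGroup.iff_card.mp P.isPGroup'
  have hp := (Fact.out : p.Prime)
  have hdvd : p ∣ Nat.card (P : Subgroup G) := P.dvd_card_of_dvd_card h1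
  have hk1 : k ≠ 0 := by
    rintro rfl
    rw [hk, pow_zero] at hdvd
    exact hp.one_lt.ne' (Nat.dvd_one.mp hdvd)
  have hk2 : k < 2 := by
    by_contra hcon
    push Not at hcon
    apply h2
    exact (pow_dvd_pow p hcon).trans (hk ▸ Subgroup.card_subgroup_dvd_card (P : Subgroup G))
  have : k = 1 := by omega
  rw [hk, this, pow_one]

/-- Conjugation invariance used for the commutation of a normalising element. -/
theorem conj_mem_of_mem_normalizer {G : Type*} [Group G] (H : Subgroup G) {n x : G}
    (hn : n ∈ normalizer (H : Set G)) (hx : x ∈ H) : n * x * n⁻¹ ∈ H :=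
  (Subgroup.mem_normalizer_iff.mp hn x).mp hx

theorem conj_mem_of_mem_normalizer' {G : Type*} [Group G] (H : Subgroup G) {n x : G}
    (hn : n ∈ normalizer (H : Set G)) (hx : x ∈ H) : n⁻¹ * x * n ∈ H := by
  have := (Subgroup.mem_normalizer_iff.mp (inv_mem hn) x).mp hx
  simpa using this

end Cfsg.Agent.H43.Ord7920
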