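import Mathlib
import Cfsg.Agent.H43.Ord7920Base

set_option autoImplicit false

namespace Cfsg.Agent.H43.Ord7920

open Subgroup

theorem centralizer5_ten {G : Type*} [Group G] [Finite G] [IsSimpleGroup G]
    (hord : Nat.card G = 7920)
    (h11 : ∀ Q : Sylow 11 G, Nat.card (centralizer ((Q : Subgroup G) : Set G)) = 11)
    (P : Sylow 5 G) (hN : Nat.card (normalizer ((P : Subgroup G) : Set G)) = 20)
    (hC : Nat.card (centralizer ((P : Subgroup G) : Set G)) = 10) :
    ∃ t : G, orderOf t = 2 ∧ t ∈ centralizer ((P : Subgroup G) : Set G) ∧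
      (Nat.card (centralizer ({t} : Set G)) = 20 ∨ Nat.card (centralizer ({t} : Set G)) = 120 ∨
       Nat.card (centralizer ({t} : Set G)) = 720) := by
  have : Fact (Nat.Prime 5) := ⟨by norm_num⟩
  have : Fact (Nat.Prime 11) := ⟨by norm_num⟩
  have : Fact (Nat.Prime 2) := ⟨by norm_num⟩
  have hP5 : Nat.card (P : Subgroup G) = 5 :=
    sylow_card_prime 5 P (by rw [hord]; norm_num) (by rw [hord]; norm_num)
  obtain ⟨C, hCdef⟩ : ∃ C : Subgroup G, C = centralizer ((P : Subgroup G) : Set G) := ⟨_, rfl⟩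
  rw [← hCdef] at hC ⊢
  have hPC : (P : Subgroup G) ≤ C := by
    rw [hCdef]
    have := isCyclic_of_prime_card (α := ↥(P : Subgroup G)) hP5
    exact Subgroup.le_centralizer_iff_isMulCommutative.mpr (IsCyclic.isMulCommutative)
  have hmemC : ∀ c : G, c ∈ C → ∀ x ∈ (P : Subgroup G), x * c = c * x := by
    intro c hc x hx
    rw [hCdef, Subgroup.mem_centralizer_iff] at hc
    exact hc x hx
  have hmemC' : ∀ c : G, (∀ x ∈ (P : Subgroup G), x * c = c * x) → c ∈ C := by
    intro c hc
    rw [hCdef, Subgroup.mem_centralizer_iff]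
    exact hc
  obtain ⟨t0, ht0⟩ := exists_prime_orderOf_dvd_card' (G := ↥C) 2 (by rw [hC]; norm_num)
  obtain ⟨t, htdef⟩ : ∃ t : G, t = (t0 : G) := ⟨_, rfl⟩
  have htC : t ∈ C := htdef ▸ t0.2
  have ht : orderOf t = 2 := by rw [htdef, Subgroup.orderOf_coe]; exact ht0
  refine ⟨t, ht, htC, ?_⟩
  -- index of P in C is 2
  have hidx : ((P : Subgroup G).subgroupOf C).index = 2 := by
    have h1 : Nat.card ((P : Subgroup G).subgroupOf C) = 5 := by
      rw [Nat.card_congr (Subgroup.subgroupOfEquivOfLe hPC).toEquiv, hP5]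
    have h2 := Subgroup.card_mul_index ((P : Subgroup G).subgroupOf C)
    rw [h1, hC] at h2
    omega
  have hnotP : ∀ s : G, orderOf s = 2 → s ∉ (P : Subgroup G) := by
    intro s hs hsP
    have := Subgroup.orderOf_dvd_natCard (P : Subgroup G) hsP
    rw [hs, hP5] at this
    omega
  have ht2 : t * t = 1 := by rw [← pow_two, ← ht, pow_orderOf_eq_one]
  have huniq : ∀ s ∈ C, orderOf s = 2 → s = t := by
    intro s hsC hs
    have h1 : (⟨s, hsC⟩ : ↥C) * (⟨t, htC⟩ : ↥C)⁻¹ ∈ (P : Subgroup G).subgroupOf C := by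
      rw [Subgroup.mul_mem_iff_of_index_two hidx, inv_mem_iff]
      constructor
      · intro h; exact absurd (Subgroup.mem_subgroupOf.mp h) (hnotP s hs)
      · intro h; exact absurd (Subgroup.mem_subgroupOf.mp h) (hnotP t ht)
    have hx : s * t⁻¹ ∈ (P : Subgroup G) := by simpa [Subgroup.mem_subgroupOf] using h1
    have hcomm : (s * t⁻¹) * t = t * (s * t⁻¹) := hmemC t htC _ hx
    have hst : s * t = t * s := by
      have h2 := hcomm
      rw [inv_mul_cancel_right] at h2
      calc s * t = (t * (s * t⁻¹)) * t := by rw [← h2]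
        _ = t * s := by group
    have hs2 : s * s = 1 := by rw [← pow_two, ← hs, pow_orderOf_eq_one]
    have ht' : t⁻¹ = t := inv_eq_of_mul_eq_one_left ht2
    have hx2 : (s * t⁻¹) ^ 2 = 1 := by
      rw [ht', pow_two]
      calc s * t * (s * t) = s * (t * s) * t := by group
        _ = s * (s * t) * t := by rw [hst]
        _ = (s * s) * (t * t) := by group
        _ = 1 := by rw [hs2, ht2, one_mul]
    have hx5 : (s * t⁻¹) ^ 5 = 1 :=
      orderOf_dvd_iff_pow_eq_one.mp (hP5 ▸ Subgroup.orderOf_dvd_natCard _ hx)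
    have hx1 : s * t⁻¹ = 1 := by
      have h3 : s * t⁻¹ = (s * t⁻¹) ^ 5 * (((s * t⁻¹) ^ 2)⁻¹) ^ 2 := by group
      rw [h3, hx5, hx2]; simp
    exact mul_inv_eq_one.mp hx1
  have hNH : normalizer ((P : Subgroup G) : Set G) ≤ centralizer ({t} : Set G) := by
    intro n hn
    rw [Subgroup.mem_centralizer_singleton_iff]
    have h1 : n * t * n⁻¹ ∈ C := by
      apply hmemC'
      intro x hx
      have hx' : n⁻¹ * x * n ∈ (P : Subgroup G) := conj_mem_of_mem_normalizer' _ hn hx
      have h2 := hmemC t htC _ hx'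
      calc x * (n * t * n⁻¹) = n * ((n⁻¹ * x * n) * t) * n⁻¹ := by group
        _ = n * (t * (n⁻¹ * x * n)) * n⁻¹ := by rw [h2]
        _ = n * t * n⁻¹ * x := by group
    have h2 : orderOf (n * t * n⁻¹) = 2 := by
      have := orderOf_injective (MulAut.conj n).toMonoidHom (MulAut.conj n).injective t
      rw [← ht, ← this]
      rfl
    have h3 := huniq _ h1 h2
    calc n * t = (n * t * n⁻¹) * n := by group
      _ = t * n := by rw [h3]
  obtain ⟨H, hHdef⟩ : ∃ H : Subgroup G, H = centralizer ({t} : Set G) := ⟨_, rfl⟩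
  rw [← hHdef] at hNH ⊢
  have hPH : (P : Subgroup G) ≤ H := (Subgroup.le_normalizer).trans hNH
  have hcount : Nat.card H = 20 * Nat.card (Sylow 5 ↥H) := by
    have h1 : Nat.card (Sylow 5 ↥H) =
        (normalizer (((P.subtype hPH : Sylow 5 ↥H) : Subgroup ↥H) : Set ↥H)).index :=
      Sylow.card_eq_index_normalizer (P.subtype hPH)
    have h2 : Nat.card (normalizer (((P.subtype hPH : Sylow 5 ↥H) : Subgroup ↥H) : Set ↥H)) = 20 := by
      have h4 : ((P.subtype hPH : Sylow 5 ↥H) : Subgroup ↥H) = (P : Subgroup G).subgroupOf H := rfl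
      rw [h4, ← Subgroup.subgroupOf_normalizer_eq hPH,
        Nat.card_congr (Subgroup.subgroupOfEquivOfLe hNH).toEquiv, hN]
    have h3 := Subgroup.card_mul_index
      (normalizer (((P.subtype hPH : Sylow 5 ↥H) : Subgroup ↥H) : Set ↥H))
    rw [h2, ← h1] at h3
    exact h3.symm
  have hmod := card_sylow_modEq_one 5 ↥H
  have hdvd : Nat.card H ∣ 7920 := hord ▸ Subgroup.card_subgroup_dvd_card H
  have h11' : ¬ 11 ∣ Nat.card H := by
    intro hdiv
    obtain ⟨y0, hy0⟩ := exists_prime_orderOf_dvd_card' (G := ↥H) 11 hdiv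
    have hy : orderOf (y0 : G) = 11 := by rw [Subgroup.orderOf_coe]; exact hy0
    have hpg : IsPGroup 11 (Subgroup.zpowers (y0 : G)) := by
      apply IsPGroup.of_card (n := 1)
      rw [Nat.card_zpowers, hy, pow_one]
    obtain ⟨Q, hQ⟩ := hpg.exists_le_sylow
    have hQ11 : Nat.card (Q : Subgroup G) = 11 :=
      sylow_card_prime 11 Q (by rw [hord]; norm_num) (by rw [hord]; norm_num)
    have hQeq : Subgroup.zpowers (y0 : G) = Q := by
      apply Subgroup.eq_of_le_of_card_ge hQ
      rw [hQ11, Nat.card_zpowers, hy]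
    have hyt : Commute (y0 : G) t := by
      have h5 : (y0 : G) ∈ centralizer ({t} : Set G) := hHdef ▸ y0.2
      rw [Subgroup.mem_centralizer_singleton_iff] at h5
      exact h5
    have htQ : t ∈ centralizer ((Q : Subgroup G) : Set G) := by
      rw [← hQeq, Subgroup.mem_centralizer_iff]
      intro h hh
      obtain ⟨k, rfl⟩ := Subgroup.mem_zpowers_iff.mp hh
      exact (hyt.zpow_left k).eq
    have h6 := Subgroup.orderOf_dvd_natCard _ htQ
    rw [ht, h11 Q] at h6
    omega
  obtain ⟨s, hs⟩ : ∃ s, s = Nat.card (Sylow 5 ↥H) := ⟨_, rfl⟩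
  rw [← hs] at hcount hmod
  rw [hcount] at hdvd h11' ⊢
  have hs396 : s ∣ 396 := Nat.dvd_of_mul_dvd_mul_left (by norm_num : 0 < 20) (by simpa using hdvd)
  have hs11 : ¬ 11 ∣ s := fun h => h11' (Dvd.dvd.mul_left h 20)
  have hcop : Nat.Coprime s 11 :=
    (Nat.Coprime.symm ((Nat.Prime.coprime_iff_not_dvd (by norm_num)).mpr hs11))
  have hs36 : s ∣ 36 := hcop.dvd_of_dvd_mul_right (by simpa using hs396)
  have hsle : s ≤ 36 := Nat.le_of_dvd (by norm_num) hs36
  unfold Nat.ModEq at hmod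
  interval_cases s <;> omega

end Cfsg.Agent.H43.Ord7920
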