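import Mathlib
import Cfsg.Agent.H43.Ord7920Base

set_option autoImplicit false

namespace Cfsg.Agent.H43.Ord7920

open Subgroup

theorem normalizer5_le {G : Type*} [Group G] [Finite G] (hord : Nat.card G = 7920)
    (h11 : ∀ Q : Sylow 11 G, Nat.card (normalizer ((Q : Subgroup G) : Set G)) = 55 ∧
      Nat.card (centralizer ((Q : Subgroup G) : Set G)) = 11)
    (P : Sylow 5 G) : Nat.card (normalizer ((P : Subgroup G) : Set G)) ≤ 70 := by
  have : Fact (Nat.Prime 5) := ⟨by norm_num⟩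
  have : Fact (Nat.Prime 11) := ⟨by norm_num⟩
  have hP5 : ∀ P' : Sylow 5 G, Nat.card (P' : Subgroup G) = 5 := fun P' =>
    sylow_card_prime 5 P' (by rw [hord]; norm_num) (by rw [hord]; norm_num)
  have hQ11 : ∀ Q : Sylow 11 G, Nat.card (Q : Subgroup G) = 11 := fun Q =>
    sylow_card_prime 11 Q (by rw [hord]; norm_num) (by rw [hord]; norm_num)
  -- (a) some Sylow 11 is normalised by P
  obtain ⟨Q, hPQ⟩ : ∃ Q : Sylow 11 G, ∀ x ∈ (P : Subgroup G), x • Q = Q := by
    obtain ⟨Q0⟩ : Nonempty (Sylow 11 G) := Sylow.nonempty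
    obtain ⟨x0, hx0⟩ := exists_prime_orderOf_dvd_card'
      (G := ↥(normalizer ((Q0 : Subgroup G) : Set G))) 5 (by rw [(h11 Q0).1]; norm_num)
    have hx : orderOf (x0 : G) = 5 := by rw [Subgroup.orderOf_coe]; exact hx0
    have hpg : IsPGroup 5 (Subgroup.zpowers (x0 : G)) := by
      apply IsPGroup.of_card (n := 1); rw [Nat.card_zpowers, hx, pow_one]
    obtain ⟨P0, hP0⟩ := hpg.exists_le_sylow
    have hP0eq : Subgroup.zpowers (x0 : G) = P0 := by
      apply Subgroup.eq_of_le_of_card_ge hP0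
      rw [hP5 P0, Nat.card_zpowers, hx]
    have hP0N : (P0 : Subgroup G) ≤ normalizer ((Q0 : Subgroup G) : Set G) := by
      rw [← hP0eq, Subgroup.zpowers_le]; exact x0.2
    obtain ⟨g, hg⟩ := MulAction.exists_smul_eq G P0 P
    refine ⟨g • Q0, ?_⟩
    intro x hx
    have h1 : g⁻¹ * x * g ∈ (P0 : Subgroup G) := by
      have hx' : x ∈ ((g • P0 : Sylow 5 G) : Subgroup G) := hg ▸ hx
      rw [Sylow.coe_subgroup_smul, Subgroup.mem_pointwise_smul_iff_inv_smul_mem] at hx'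
      simpa [MulAut.smul_def, mul_assoc] using hx'
    have h2 : (g⁻¹ * x * g) • Q0 = Q0 := Sylow.smul_eq_iff_mem_normalizer.mpr (hP0N h1)
    calc x • g • Q0 = g • ((g⁻¹ * x * g) • Q0) := by simp [smul_smul, mul_assoc]
      _ = g • Q0 := by rw [h2]
  obtain ⟨F, hFdef⟩ : ∃ F : Subgroup G, F = normalizer ((Q : Subgroup G) : Set G) := ⟨_, rfl⟩
  have hF55 : Nat.card F = 55 := hFdef ▸ (h11 Q).1
  have hmemF : ∀ f : G, f ∈ F ↔ f • Q = Q := fun f => by
    rw [hFdef]; exact Sylow.smul_eq_iff_mem_normalizer.symm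
  have hPF : (P : Subgroup G) ≤ F := fun x hx => (hmemF x).mpr (hPQ x hx)
  have hQF : (Q : Subgroup G) ≤ F := hFdef ▸ Subgroup.le_normalizer
  have hdisj : ∀ x : G, x ∈ (P : Subgroup G) → x ∈ (Q : Subgroup G) → x = 1 := by
    intro x hxP hxQ
    have h1 := Subgroup.orderOf_dvd_natCard _ hxP
    have h2 := Subgroup.orderOf_dvd_natCard _ hxQ
    rw [hP5 P] at h1; rw [hQ11 Q] at h2
    have h3 : orderOf x ∣ Nat.gcd 5 11 := Nat.dvd_gcd h1 h2
    have h4 : orderOf x = 1 := by simpa using h3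
    exact orderOf_eq_one_iff.mp h4
  have hmax : ∀ D : Subgroup G, (P : Subgroup G) ≤ D → D ≤ F → ¬ F ≤ D →
      D = (P : Subgroup G) := by
    intro D hPD hDF hnFD
    have h1 : Nat.card D ∣ 55 := hF55 ▸ Subgroup.card_dvd_of_le hDF
    have h2 : 5 ∣ Nat.card D := (hP5 P) ▸ Subgroup.card_dvd_of_le hPD
    have h3 : Nat.card D = 5 ∨ Nat.card D = 55 := by
      have hle : Nat.card D ≤ 55 := Nat.le_of_dvd (by norm_num) h1
      obtain ⟨k, hk⟩ := h2
      rw [hk] at h1 hle ⊢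
      have hk11 : k ≤ 11 := by omega
      interval_cases k <;> omega
    rcases h3 with h3 | h3
    · exact (Subgroup.eq_of_le_of_card_ge hPD (by rw [h3, hP5 P])).symm
    · exact absurd (Subgroup.eq_of_le_of_card_ge hDF (by rw [h3, hF55])).ge hnFD
  -- (b)
  have hb : ∀ f : G, f ∈ F → f ∈ normalizer ((P : Subgroup G) : Set G) →
      f ∈ (P : Subgroup G) := by
    intro f hfF hfN
    have hD := hmax (F ⊓ normalizer ((P : Subgroup G) : Set G))
      (le_inf hPF Subgroup.le_normalizer) inf_le_left ?_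
    · have h0 : f ∈ F ⊓ normalizer ((P : Subgroup G) : Set G) := ⟨hfF, hfN⟩
      rw [hD] at h0; exact h0
    · intro hFD
      have hQN : (Q : Subgroup G) ≤ normalizer ((P : Subgroup G) : Set G) :=
        fun q hq => (hFD (hQF hq)).2
      have hPC : (P : Subgroup G) ≤ centralizer ((Q : Subgroup G) : Set G) := by
        intro x hx
        rw [Subgroup.mem_centralizer_iff]
        intro q hq
        have h1 : q * x * q⁻¹ * x⁻¹ ∈ (P : Subgroup G) :=
          mul_mem (conj_mem_of_mem_normalizer _ (hQN hq) hx) (inv_mem hx)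
        have h2 : q * x * q⁻¹ * x⁻¹ ∈ (Q : Subgroup G) := by
          have hxN : x ∈ normalizer ((Q : Subgroup G) : Set G) := hFdef ▸ hPF hx
          have h3 := mul_mem hq (conj_mem_of_mem_normalizer _ hxN (inv_mem hq))
          simpa [mul_assoc] using h3
        have h4 := hdisj _ h1 h2
        calc q * x = (q * x * q⁻¹ * x⁻¹) * (x * q) := by group
          _ = x * q := by rw [h4, one_mul]
      have h5 := Subgroup.card_dvd_of_le hPC
      rw [hP5 P, (h11 Q).2] at h5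
      omega
  -- (c)
  have hc : ∀ Q' : Sylow 11 G, (∀ x ∈ (P : Subgroup G), x • Q' = Q') → Q' ≠ Q →
      ∀ f : G, f ∈ F → f • Q' = Q' → f ∈ (P : Subgroup G) := by
    intro Q' hfix hne f hfF hfQ'
    have hD := hmax (F ⊓ normalizer ((Q' : Subgroup G) : Set G))
      (le_inf hPF (fun x hx => Sylow.smul_eq_iff_mem_normalizer.mp (hfix x hx))) inf_le_left ?_
    · have h0 : f ∈ F ⊓ normalizer ((Q' : Subgroup G) : Set G) :=
        ⟨hfF, Sylow.smul_eq_iff_mem_normalizer.mp hfQ'⟩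
      rw [hD] at h0; exact h0
    · intro hFD
      apply hne
      have hQN : (Q : Subgroup G) ≤ normalizer ((Q' : Subgroup G) : Set G) :=
        fun q hq => (hFD (hQF hq)).2
      have h1 : (Q : Subgroup G) ⊓ normalizer ((Q' : Subgroup G) : Set G) =
          (Q : Subgroup G) ⊓ Q' := Q.isPGroup'.inf_normalizer_sylow Q'
      rw [inf_eq_left.mpr hQN] at h1
      have h2 : (Q : Subgroup G) ≤ Q' := h1.le.trans inf_le_right
      exact (Sylow.ext (Subgroup.eq_of_le_of_card_ge h2 (by rw [hQ11, hQ11]))).symm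
  have hcard144 : Nat.card (Sylow 11 G) = 144 := by
    have h1 : Nat.card (Sylow 11 G) = (normalizer ((Q : Subgroup G) : Set G)).index :=
      Sylow.card_eq_index_normalizer Q
    have h2 := Subgroup.card_mul_index (normalizer ((Q : Subgroup G) : Set G))
    rw [(h11 Q).1, hord, ← h1] at h2
    omega
  -- the counting
  obtain ⟨S', hS'⟩ : ∃ S' : Set (Sylow 11 G),
      S' = {Q' : Sylow 11 G | (∀ x ∈ (P : Subgroup G), x • Q' = Q') ∧ Q' ≠ Q} := ⟨_, rfl⟩
  have hS'mem : ∀ Q' : Sylow 11 G, Q' ∈ S' ↔ (∀ x ∈ (P : Subgroup G), x • Q' = Q') ∧ Q' ≠ Q := by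
    intro Q'; rw [hS']; rfl
  let ψ : (↥S' × ↥(Q : Subgroup G)) ⊕ Unit → Sylow 11 G := fun a =>
    Sum.elim (fun b => (b.2 : G) • (b.1 : Sylow 11 G)) (fun _ => Q) a
  have key : ∀ (Q1 Q2 : Sylow 11 G) (q1 q2 : G), Q1 ∈ S' → Q2 ∈ S' → q1 ∈ (Q : Subgroup G) →
      q2 ∈ (Q : Subgroup G) → q1 • Q1 = q2 • Q2 → q1 = q2 ∧ Q1 = Q2 := by
    intro Q1 Q2 q1 q2 hQ1 hQ2 hq1 hq2 h
    obtain ⟨hQ1, hne1⟩ := (hS'mem Q1).mp hQ1
    obtain ⟨hQ2, hne2⟩ := (hS'mem Q2).mp hQ2
    obtain ⟨f, hfdef⟩ : ∃ f : G, f = q2⁻¹ * q1 := ⟨_, rfl⟩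
    have hf : f • Q1 = Q2 := by rw [hfdef, mul_smul, h, inv_smul_smul]
    have hfQ : f ∈ (Q : Subgroup G) := hfdef ▸ mul_mem (inv_mem hq2) hq1
    have hfF := hQF hfQ
    have hfN : f⁻¹ ∈ normalizer ((P : Subgroup G) : Set G) := by
      apply Subgroup.mem_normalizer_fintype
      intro x hx
      apply hc Q1 hQ1 hne1
      · exact mul_mem (mul_mem (inv_mem hfF) (hPF hx)) (inv_mem (inv_mem hfF))
      · rw [inv_inv, mul_smul, mul_smul, hf, hQ2 x hx, ← hf, inv_smul_smul]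
    have hfP : f⁻¹ ∈ (P : Subgroup G) := hb _ (inv_mem hfF) hfN
    have h1 : f⁻¹ = 1 := hdisj _ hfP (inv_mem hfQ)
    have h2 : q1 = q2 := by
      have h3 : q2⁻¹ * q1 = 1 := by rw [← hfdef]; exact inv_eq_one.mp h1
      exact (inv_mul_eq_one.mp h3).symm
    refine ⟨h2, ?_⟩
    subst h2
    exact MulAction.injective q1 h
  have hψ : Function.Injective ψ := by
    rintro (⟨⟨Q1, hQ1⟩, ⟨q1, hq1⟩⟩ | _) (⟨⟨Q2, hQ2⟩, ⟨q2, hq2⟩⟩ | _) h
    · simp only [ψ, Sum.elim_inl] at h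
      obtain ⟨h1, h2⟩ := key Q1 Q2 q1 q2 hQ1 hQ2 hq1 hq2 h
      subst h1; subst h2; rfl
    · simp only [ψ, Sum.elim_inl, Sum.elim_inr] at h
      exfalso
      apply ((hS'mem Q1).mp hQ1).2
      have h3 : q1 • Q = Q := (hmemF q1).mp (hQF hq1)
      rw [← h3] at h
      exact MulAction.injective q1 h
    · simp only [ψ, Sum.elim_inl, Sum.elim_inr] at h
      exfalso
      apply ((hS'mem Q2).mp hQ2).2
      have h3 : q2 • Q = Q := (hmemF q2).mp (hQF hq2)
      rw [← h3] at h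
      exact (MulAction.injective q2 h).symm
    · rfl
  have hle1 : Nat.card ((↥S' × ↥(Q : Subgroup G)) ⊕ Unit) ≤ Nat.card (Sylow 11 G) :=
    Nat.card_le_card_of_injective ψ hψ
  have hU : Nat.card Unit = 1 := Nat.card_unique
  rw [Nat.card_sum, Nat.card_prod, hU, hQ11 Q, hcard144, Nat.card_coe_set_eq] at hle1
  -- (d)
  obtain ⟨N, hNdef⟩ : ∃ N : Subgroup G, N = normalizer ((P : Subgroup G) : Set G) := ⟨_, rfl⟩
  rw [← hNdef]
  have hPN : (P : Subgroup G) ≤ N := hNdef ▸ Subgroup.le_normalizer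
  have hstab : MulAction.stabilizer ↥N Q = (P : Subgroup G).subgroupOf N := by
    ext n
    rw [MulAction.mem_stabilizer_iff, Subgroup.mem_subgroupOf, Subgroup.smul_def]
    constructor
    · intro h
      exact hb _ ((hmemF _).mpr h) (hNdef ▸ n.2)
    · intro h; exact hPQ _ h
  have h1 : Nat.card (MulAction.stabilizer ↥N Q) = 5 := by
    rw [hstab, Nat.card_congr (Subgroup.subgroupOfEquivOfLe hPN).toEquiv, hP5 P]
  have h2 := Subgroup.card_mul_index (MulAction.stabilizer ↥N Q)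
  rw [h1, MulAction.index_stabilizer] at h2
  have h3 : (MulAction.orbit ↥N Q).ncard ≤ S'.ncard + 1 := by
    have hsub : MulAction.orbit ↥N Q ⊆ insert Q S' := by
      rintro Q'' ⟨n, rfl⟩
      change n • Q ∈ insert Q S'
      by_cases hQ'' : n • Q = Q
      · exact Set.mem_insert_iff.mpr (Or.inl hQ'')
      · refine Set.mem_insert_iff.mpr (Or.inr ((hS'mem _).mpr ⟨?_, hQ''⟩))
        intro x hx
        have hnN : (n : G) ∈ normalizer ((P : Subgroup G) : Set G) := hNdef ▸ n.2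
        have h4 : (n : G)⁻¹ * x * (n : G) ∈ (P : Subgroup G) :=
          conj_mem_of_mem_normalizer' _ hnN hx
        have h5 := hPQ _ h4
        change x • (n : G) • Q = (n : G) • Q
        calc x • (n : G) • Q = (n : G) • (((n : G)⁻¹ * x * (n : G)) • Q) := by
              simp [smul_smul, mul_assoc]
          _ = (n : G) • Q := by rw [h5]
    exact (Set.ncard_le_ncard hsub (Set.toFinite _)).trans (Set.ncard_insert_le _ _)
  omega

end Cfsg.Agent.H43.Ord7920
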