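import Mathlib

set_option autoImplicit false

namespace Cfsg.Agent.H43

open Equiv Equiv.Perm
open scoped commutatorElement

/-- A subgroup containing a nontrivial element conjugate (inside the subgroup) to a commutator of
itself with one of its conjugates is not solvable. -/
theorem not_solvable_of_comm_conj {G : Type*} [Group G] (K : Subgroup G) (x y z : G)
    (hx : x ∈ K) (hy : y ∈ K) (hz : z ∈ K) (hx1 : x ≠ 1)
    (key : x = z * (x * (y * x * y⁻¹) * x⁻¹ * (y * x * y⁻¹)⁻¹) * z⁻¹) : ¬ Group.IsSolvable K := by
  set x' : K := ⟨x, hx⟩ with hx'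
  set y' : K := ⟨y, hy⟩ with hy'
  set z' : K := ⟨z, hz⟩ with hz'
  have key' : x' = z' * ⁅x', y' * x' * y'⁻¹⁆ * z'⁻¹ := by
    apply Subtype.ext
    simp only [hx', hy', hz', commutatorElement_def, Subgroup.coe_mul, Subgroup.coe_inv]
    exact key
  have hx1' : x' ≠ 1 := by
    intro h
    apply hx1
    have := congrArg Subtype.val h
    simpa [hx'] using this
  refine not_isSolvable_of_mem_derivedSeries hx1' fun n => ?_
  induction n with
  | zero => exact Subgroup.mem_top x'
  | succ n ih =>
    rw [key', (derivedSeries_normal _ _).mem_comm_iff, inv_mul_cancel_left]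
    exact Subgroup.commutator_mem_commutator ih ((derivedSeries_normal _ _).conj_mem _ ih _)

/-- Solvability of a closure passes to the closure of the image. -/
theorem isSolvable_closure_image {G H : Type*} [Group G] [Group H] (f : G →* H) (s : Set G)
    (h : Group.IsSolvable (Subgroup.closure s)) : Group.IsSolvable (Subgroup.closure (f '' s)) := by
  have hmem : ∀ x : Subgroup.closure s, f x ∈ Subgroup.closure (f '' s) := by
    intro x
    rw [← MonoidHom.map_closure]
    exact Subgroup.mem_map_of_mem f x.2
  let φ : Subgroup.closure s →* Subgroup.closure (f '' s) :=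
    (f.comp (Subgroup.closure s).subtype).codRestrict _ hmem
  have hφ : Function.Surjective φ := by
    rintro ⟨y, hy⟩
    rw [← MonoidHom.map_closure] at hy
    obtain ⟨x, hx, rfl⟩ := hy
    exact ⟨⟨x, hx⟩, rfl⟩
  exact Group.isSolvable_of_surjective hφ

/-- Solvability of the closure of the image passes back when the map is injective on the
closure. -/
theorem isSolvable_closure_of_injOn {G H : Type*} [Group G] [Group H] (f : G →* H) (s : Set G)
    (hinj : ∀ x ∈ Subgroup.closure s, ∀ y ∈ Subgroup.closure s, f x = f y → x = y)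
    (h : Group.IsSolvable (Subgroup.closure (f '' s))) : Group.IsSolvable (Subgroup.closure s) := by
  have hmem : ∀ x : Subgroup.closure s, f x ∈ Subgroup.closure (f '' s) := by
    intro x
    rw [← MonoidHom.map_closure]
    exact Subgroup.mem_map_of_mem f x.2
  let φ : Subgroup.closure s →* Subgroup.closure (f '' s) :=
    (f.comp (Subgroup.closure s).subtype).codRestrict _ hmem
  have hφ : Function.Injective φ := by
    intro x y hxy
    have : f x = f y := congrArg Subtype.val hxy
    exact Subtype.ext (hinj x x.2 y y.2 this)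
  exact Group.isSolvable_of_isSolvable_injective hφ

/-- The "good pair" property: the product is not a `p`-element and the generated group is not
solvable. -/
def PGood (p : ℕ) {G : Type*} [Group G] (u v : G) : Prop :=
  (¬ ∃ k : ℕ, orderOf (u * v) = p ^ k) ∧ ¬ Group.IsSolvable (Subgroup.closure ({u, v} : Set G))

theorem PGood.symm {p : ℕ} {G : Type*} [Group G] {u v : G} (h : PGood p u v) : PGood p v u := by
  refine ⟨?_, ?_⟩
  · have : orderOf (v * u) = orderOf (u * v) := by
      have := MulEquiv.orderOf_eq (MulAut.conj u⁻¹) (u * v)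
      rw [← this]
      congr 1
      simp [MulAut.conj_apply]
    rw [this]
    exact h.1
  · rw [Set.pair_comm]
    exact h.2

theorem PGood.conj {p : ℕ} {G : Type*} [Group G] {u v : G} (h : PGood p u v) (c : G) :
    PGood p (c * u * c⁻¹) (c * v * c⁻¹) := by
  refine ⟨?_, ?_⟩
  · have : orderOf (c * u * c⁻¹ * (c * v * c⁻¹)) = orderOf (u * v) := by
      have := MulEquiv.orderOf_eq (MulAut.conj c) (u * v)
      rw [← this]
      congr 1
      simp [MulAut.conj_apply, mul_assoc]
    rw [this]
    exact h.1
  · intro hs
    apply h.2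
    have himg : ((MulAut.conj c).toMonoidHom '' ({u, v} : Set G)) = {c * u * c⁻¹, c * v * c⁻¹} := by
      rw [Set.image_pair]
      simp [MulAut.conj_apply]
    apply isSolvable_closure_of_injOn (MulAut.conj c).toMonoidHom
    · intro x _ y _ hxy
      exact (MulAut.conj c).injective hxy
    · rw [himg]
      exact hs

/-- The model lemma: a pair acting on an invariant subset (given by an embedding) like a model
pair inherits goodness from the model. -/
theorem pgood_of_model {α ι : Type*} (p : ℕ)
    (e : ι ↪ α) (u v : Perm α) (σ₀ τ₀ : Perm ι)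
    (hu : ∀ i, u (e i) = e (σ₀ i)) (hv : ∀ i, v (e i) = e (τ₀ i))
    (hns : ¬ Group.IsSolvable (Subgroup.closure ({σ₀, τ₀} : Set (Perm ι))))
    (hfix : ∀ k : ℕ, (σ₀ * τ₀) ^ p ^ k ≠ 1) : PGood p u v := by
  -- the subgroup of compatible pairs
  let T : Subgroup (Perm α × Perm ι) :=
    { carrier := {q | ∀ i, q.1 (e i) = e (q.2 i)}
      mul_mem' := by
        intro a b ha hb i
        simp only [Set.mem_ofPred_eq] at ha hb
        simp [Prod.fst_mul, Prod.snd_mul, Perm.mul_apply, hb i, ha]
      one_mem' := by
        intro i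
        simp
      inv_mem' := by
        intro a ha i
        simp only [Set.mem_ofPred_eq] at ha
        simp only [Prod.fst_inv, Prod.snd_inv]
        rw [Perm.inv_eq_iff_eq, ha]
        simp }
  have hT : ∀ q : Perm α × Perm ι, q ∈ T ↔ ∀ i, q.1 (e i) = e (q.2 i) := fun q => Iff.rfl
  have huT : (u, σ₀) ∈ T := (hT _).2 hu
  have hvT : (v, τ₀) ∈ T := (hT _).2 hv
  refine ⟨?_, ?_⟩
  · rintro ⟨k, hk⟩
    apply hfix k
    have h1 : (u * v) ^ p ^ k = 1 := by
      rw [← hk]; exact pow_orderOf_eq_one _
    have h2 : ((u, σ₀) * (v, τ₀)) ^ p ^ k ∈ T := T.pow_mem (T.mul_mem huT hvT) _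
    rw [hT] at h2
    ext i
    apply e.injective
    have := h2 i
    simp only [Prod.mk_mul_mk, Prod.pow_fst, Prod.pow_snd, h1, Perm.one_apply] at this
    simpa using this.symm
  · intro hs
    apply hns
    set S : Set (Perm α × Perm ι) := {(u, σ₀), (v, τ₀)} with hS
    have hL : Subgroup.closure S ≤ T := by
      rw [Subgroup.closure_le]
      intro q hq
      rcases hq with rfl | rfl
      · exact huT
      · exact hvT
    have h1 : ((MonoidHom.fst (Perm α) (Perm ι)) '' S) = {u, v} := by
      rw [hS, Set.image_pair]; rfl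
    have h2 : ((MonoidHom.snd (Perm α) (Perm ι)) '' S) = {σ₀, τ₀} := by
      rw [hS, Set.image_pair]; rfl
    have hsL : Group.IsSolvable (Subgroup.closure S) := by
      apply isSolvable_closure_of_injOn (MonoidHom.fst (Perm α) (Perm ι))
      · intro x hx y hy hxy
        have hx' := (hT x).1 (hL hx)
        have hy' := (hT y).1 (hL hy)
        have hxy' : x.1 = y.1 := hxy
        apply Prod.ext hxy'
        ext i
        apply e.injective
        rw [← hx' i, ← hy' i, hxy']
      · rw [h1]; exact hs
    have := isSolvable_closure_image (MonoidHom.snd (Perm α) (Perm ι)) S hsL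
    rw [h2] at this
    exact this

/-- Fixed-point criterion: a permutation of `p`-power order has a number of fixed points
congruent to the size of the set. -/
theorem pow_ne_one_of_card_fix {ι : Type*} [Fintype ι] [DecidableEq ι] (p : ℕ) (hp : p.Prime)
    (f : Perm ι)
    (h : ¬ (Fintype.card ι ≡ (Finset.univ.filter fun x => f x = x).card [MOD p])) (k : ℕ) :
    f ^ p ^ k ≠ 1 := by
  intro hf
  apply h
  have : Fact p.Prime := ⟨hp⟩
  have h1 := card_compl_support_modEq hf
  have h2 : f.supportᶜ = Finset.univ.filter fun x => f x = x := by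
    ext x
    simp [Perm.mem_support]
  rw [h2] at h1
  exact h1.symm

/-- Existence of an even conjugator giving a good pair. -/
def PGoodEx (p : ℕ) {α : Type*} [Fintype α] [DecidableEq α] (u w : Perm α) : Prop :=
  ∃ h : Perm α, h ∈ alternatingGroup α ∧ PGood p u (h * w * h⁻¹)

theorem PGoodEx.symm {p : ℕ} {α : Type*} [Fintype α] [DecidableEq α] {u w : Perm α}
    (h : PGoodEx p w u) : PGoodEx p u w := by
  obtain ⟨g, hg, hgood⟩ := h
  refine ⟨g⁻¹, inv_mem hg, ?_⟩
  have := (hgood.conj g⁻¹).symm
  simpa [mul_assoc] using this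

theorem pgoodEx_of_cent_right {p : ℕ} {α : Type*} [Fintype α] [DecidableEq α] {u w : Perm α}
    (h : Perm α) (hg : PGood p u (h * w * h⁻¹)) (c : Perm α) (hc : c ∉ alternatingGroup α)
    (hcw : c * w = w * c) : PGoodEx p u w := by
  by_cases hh : h ∈ alternatingGroup α
  · exact ⟨h, hh, hg⟩
  · refine ⟨h * c, ?_, ?_⟩
    · rw [Perm.mem_alternatingGroup] at hh hc ⊢
      rw [map_mul]
      rcases Int.units_eq_one_or (sign h) with h1 | h1
      · exact absurd h1 hh
      · rcases Int.units_eq_one_or (sign c) with h2 | h2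
        · exact absurd h2 hc
        · rw [h1, h2]; rfl
    · have : h * c * w * (h * c)⁻¹ = h * w * h⁻¹ := by
        rw [mul_assoc h c w, hcw]
        simp [mul_assoc]
      rw [this]
      exact hg

theorem pgoodEx_of_cent_left {p : ℕ} {α : Type*} [Fintype α] [DecidableEq α] {u w : Perm α}
    (h : Perm α) (hg : PGood p u (h * w * h⁻¹)) (c : Perm α) (hc : c ∉ alternatingGroup α)
    (hcu : c * u = u * c) : PGoodEx p u w := by
  by_cases hh : h ∈ alternatingGroup α
  · exact ⟨h, hh, hg⟩
  · refine ⟨c * h, ?_, ?_⟩
    · rw [Perm.mem_alternatingGroup] at hh hc ⊢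
      rw [map_mul]
      rcases Int.units_eq_one_or (sign h) with h1 | h1
      · exact absurd h1 hh
      · rcases Int.units_eq_one_or (sign c) with h2 | h2
        · exact absurd h2 hc
        · rw [h1, h2]; rfl
    · have h1 := hg.conj c
      have h2 : c * u * c⁻¹ = u := by
        rw [hcu]; simp
      have h3 : c * (h * w * h⁻¹) * c⁻¹ = c * h * w * (c * h)⁻¹ := by
        simp [mul_assoc]
      rw [h2, h3] at h1
      exact h1

end Cfsg.Agent.H43
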