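import Mathlib

set_option autoImplicit false

namespace Cfsg.Agent.H43

open Equiv Equiv.Perm

theorem cycleType_viaEmbedding {α ι : Type*} [Fintype α] [DecidableEq α] [Fintype ι]
    [DecidableEq ι] (τ₀ : Perm ι) (e : ι ↪ α) : (viaEmbedding τ₀ e).cycleType = τ₀.cycleType := by
  unfold viaEmbedding
  exact @cycleType_extendDomain ι _ _ α _ _ _ (fun a => Classical.propDecidable _) _ τ₀

theorem sign_viaEmbedding {α ι : Type*} [Fintype α] [DecidableEq α] [Fintype ι]
    [DecidableEq ι] (τ₀ : Perm ι) (e : ι ↪ α) : sign (viaEmbedding τ₀ e) = sign τ₀ := by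
  unfold viaEmbedding
  exact @sign_extendDomain ι _ α _ _ _ τ₀ _ (fun a => Classical.propDecidable _) _

/-- Realization: a conjugate of `w` acts on the image of `e` like `τ₀`. -/
theorem exists_conj_realize {α ι : Type*} [Fintype α] [DecidableEq α] [Fintype ι] [DecidableEq ι]
    (w : Perm α) (e : ι ↪ α) (τ₀ : Perm ι)
    (hct : τ₀.cycleType ≤ w.cycleType)
    (hcard : Fintype.card ι + w.support.card ≤ Fintype.card α + τ₀.support.card) :
    ∃ h : Perm α, ∀ i, (h * w * h⁻¹) (e i) = e (τ₀ i) := by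
  classical
  set m₂ := w.cycleType - τ₀.cycleType with hm₂
  have hsum : τ₀.cycleType + m₂ = w.cycleType := add_tsub_cancel_of_le hct
  have hm₂sum : m₂.sum + τ₀.support.card = w.support.card := by
    rw [← sum_cycleType, ← sum_cycleType, ← hsum, Multiset.sum_add]; ring
  have hcardC : Fintype.card {x : α // x ∉ Set.range e} = Fintype.card α - Fintype.card ι := by
    rw [Fintype.card_subtype_compl]
    congr 1
    rw [← Nat.card_eq_fintype_card, ← Nat.card_eq_fintype_card]
    exact Nat.card_congr (Equiv.ofInjective e e.injective).symm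
  have hια : Fintype.card ι ≤ Fintype.card α := Fintype.card_le_of_injective e e.injective
  obtain ⟨g₂, hg₂⟩ := (Equiv.Perm.exists_with_cycleType_iff (α := {x : α // x ∉ Set.range e})
    (m := m₂)).2 ⟨by rw [hcardC]; omega, fun a ha =>
      two_le_of_mem_cycleType (Multiset.mem_of_le (Multiset.sub_le_self _ _) ha)⟩
  set v := viaEmbedding τ₀ e * ofSubtype g₂ with hv
  have hdisj : Perm.Disjoint (viaEmbedding τ₀ e) (ofSubtype g₂) := by
    intro x
    by_cases hx : x ∈ Set.range e
    · right; exact ofSubtype_apply_of_not_mem g₂ (by simpa using hx)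
    · left; exact viaEmbedding_apply_of_notMem τ₀ e x hx
  have hvct : v.cycleType = w.cycleType := by
    rw [hv, hdisj.cycleType_mul, cycleType_ofSubtype, hg₂, ← hsum, cycleType_viaEmbedding]
  obtain ⟨h, hh⟩ := isConj_iff.1 (isConj_iff_cycleType_eq.2 hvct.symm)
  refine ⟨h, fun i => ?_⟩
  rw [hh, hv, Perm.mul_apply, ofSubtype_apply_of_not_mem g₂ (by simp), viaEmbedding_apply]

/-- Simultaneous realization of a model pair. -/
theorem exists_pair_realize {α ι : Type*} [Fintype α] [DecidableEq α] [Fintype ι] [DecidableEq ι]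
    (u w : Perm α) (σ₀ τ₀ : Perm ι)
    (hσ : σ₀.cycleType ≤ u.cycleType)
    (hσc : Fintype.card ι + u.support.card ≤ Fintype.card α + σ₀.support.card)
    (hτ : τ₀.cycleType ≤ w.cycleType)
    (hτc : Fintype.card ι + w.support.card ≤ Fintype.card α + τ₀.support.card) :
    ∃ (e : ι ↪ α) (h : Perm α), (∀ i, u (e i) = e (σ₀ i)) ∧
      ∀ i, (h * w * h⁻¹) (e i) = e (τ₀ i) := by
  have h1 : σ₀.support.card ≤ u.support.card := by
    rw [← sum_cycleType, ← sum_cycleType, ← add_tsub_cancel_of_le hσ, Multiset.sum_add]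
    exact Nat.le_add_right _ _
  have hια : Fintype.card ι ≤ Fintype.card α := by omega
  obtain ⟨e₀⟩ := Function.Embedding.nonempty_of_card_le hια
  obtain ⟨h₁, hh₁⟩ := exists_conj_realize u e₀ σ₀ hσ hσc
  set e : ι ↪ α := e₀.trans (h₁⁻¹).toEmbedding with he
  have hu : ∀ i, u (e i) = e (σ₀ i) := by
    intro i
    have := hh₁ i
    simp only [he, Function.Embedding.trans_apply, Equiv.coe_toEmbedding]
    rw [← this]
    simp [Perm.mul_apply]
  obtain ⟨h, hh⟩ := exists_conj_realize w e τ₀ hτ hτc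
  exact ⟨e, h, hu, hh⟩

/-- Changing the realized model by a conjugation inside the model set. -/
theorem realize_conj {α ι : Type*} [Fintype α] [DecidableEq α] [Fintype ι] [DecidableEq ι]
    (w : Perm α) (e : ι ↪ α) (τ₀ ρ : Perm ι) (h : Perm α)
    (hh : ∀ i, (h * w * h⁻¹) (e i) = e (τ₀ i)) :
    (∀ i, ((viaEmbedding ρ e * h) * w * (viaEmbedding ρ e * h)⁻¹) (e i)
        = e ((ρ * τ₀ * ρ⁻¹) i)) ∧
      sign (viaEmbedding ρ e * h) = sign ρ * sign h := by
  refine ⟨fun i => ?_, ?_⟩
  · have h1 : (viaEmbedding ρ e)⁻¹ (e i) = e (ρ⁻¹ i) := by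
      rw [Perm.inv_eq_iff_eq, viaEmbedding_apply]
      simp
    have h2 : viaEmbedding ρ e * h * w * (viaEmbedding ρ e * h)⁻¹
        = viaEmbedding ρ e * (h * w * h⁻¹) * (viaEmbedding ρ e)⁻¹ := by
      simp [mul_assoc]
    rw [h2, Perm.mul_apply, Perm.mul_apply, h1, hh, viaEmbedding_apply]
    simp [Perm.mul_apply]
  · rw [map_mul, sign_viaEmbedding]

end Cfsg.Agent.H43
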