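import Mathlib

set_option autoImplicit false

namespace Cfsg.Agent.H43

/-- In a finite solvable primitive faithful permutation group, the number of fixed points of an
element having at least one fixed point divides the degree. -/
theorem card_fixedBy_dvd_of_solvable_primitive {G Ω : Type*} [Group G] [MulAction G Ω]
    [FaithfulSMul G Ω] [Finite Ω] [MulAction.IsPreprimitive G Ω] [Group.IsSolvable G]
    (g : G) (ω₀ : Ω) (hg : g • ω₀ = ω₀) :
    Nat.card (MulAction.fixedBy Ω g) ∣ Nat.card Ω := by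
  classical
  obtain ⟨n, hn⟩ := (Group.isSolvable_def G).1 inferInstance
  by_cases htriv : ∃ a : G, a ≠ 1
  swap
  · push Not at htriv
    have hg1 : g = 1 := htriv g
    have : MulAction.fixedBy Ω g = Set.univ := by
      ext x; simp [hg1]
    rw [this, Nat.card_congr (Equiv.Set.univ Ω)]
  have hex : ∃ n, derivedSeries G n = ⊥ := ⟨n, hn⟩
  have hfind := Nat.find_spec hex
  have hmin := fun m => Nat.find_min hex (m := m)
  set N := Nat.find hex with hN
  have hN0 : N ≠ 0 := by
    intro h0
    rw [h0, derivedSeries_zero] at hfind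
    obtain ⟨a, ha⟩ := htriv
    have : a ∈ (⊤ : Subgroup G) := Subgroup.mem_top a
    rw [hfind, Subgroup.mem_bot] at this
    exact ha this
  obtain ⟨k, hk⟩ := Nat.exists_eq_succ_of_ne_zero hN0
  set A : Subgroup G := derivedSeries G k with hA
  have hAbot : A ≠ ⊥ := hmin k (by omega)
  have hAA : ⁅A, A⁆ = ⊥ := by
    rw [hA, ← derivedSeries_succ]
    have : k + 1 = N := by omega
    rw [this]; exact hfind
  have hAnorm : A.Normal := derivedSeries_normal G k
  have hcomm : ∀ a ∈ A, ∀ b ∈ A, a * b = b * a := by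
    intro a ha b hb
    have := (Subgroup.commutator_eq_bot_iff_le_centralizer.1 hAA) ha
    rw [Subgroup.mem_centralizer_iff] at this
    exact (this b hb).symm
  have hfix : MulAction.fixedPoints A Ω ≠ Set.univ := by
    obtain ⟨⟨a, haA⟩, ha1⟩ := (Subgroup.ne_bot_iff_exists_ne_one).1 hAbot
    have ha1' : a ≠ 1 := fun h => ha1 (Subtype.ext h)
    have : ∃ ω : Ω, a • ω ≠ ω := by
      by_contra hcon
      push Not at hcon
      apply ha1'
      apply FaithfulSMul.eq_of_smul_eq_smul (α := Ω)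
      intro ω
      rw [hcon ω, one_smul]
    obtain ⟨ω, hω⟩ := this
    intro huniv
    have hmem : ω ∈ MulAction.fixedPoints A Ω := by rw [huniv]; exact Set.mem_univ _
    rw [MulAction.mem_fixedPoints] at hmem
    exact hω (hmem ⟨a, haA⟩)
  have htrans : MulAction.IsPretransitive A Ω :=
    MulAction.IsQuasiPreprimitive.isPretransitive_of_normal hfix
  have hex_smul : ∀ ω : Ω, ∃ b ∈ A, b • ω₀ = ω := by
    intro ω
    obtain ⟨b, hb⟩ := MulAction.exists_smul_eq A ω₀ ω
    exact ⟨b.1, b.2, hb⟩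
  have hreg : ∀ a ∈ A, a • ω₀ = ω₀ → a = 1 := by
    intro a ha haω
    apply FaithfulSMul.eq_of_smul_eq_smul (α := Ω)
    intro ω
    obtain ⟨b, hb, rfl⟩ := hex_smul ω
    rw [one_smul, ← mul_smul, hcomm a ha b hb, mul_smul, haω]
  have hinj : ∀ a ∈ A, ∀ b ∈ A, a • ω₀ = b • ω₀ → a = b := by
    intro a ha b hb hab
    have h1 : (b⁻¹ * a) • ω₀ = ω₀ := by
      rw [mul_smul, hab, ← mul_smul, inv_mul_cancel, one_smul]
    have := hreg (b⁻¹ * a) (A.mul_mem (A.inv_mem hb) ha) h1
    exact (inv_mul_eq_one.1 this).symm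
  -- the two bijections
  have hcardA : Nat.card A = Nat.card Ω := by
    apply Nat.card_congr
    refine Equiv.ofBijective (fun a : A => (a : G) • ω₀) ⟨?_, ?_⟩
    · intro a b hab
      exact Subtype.ext (hinj a a.2 b b.2 hab)
    · intro ω
      obtain ⟨b, hb, rfl⟩ := hex_smul ω
      exact ⟨⟨b, hb⟩, rfl⟩
  set C : Subgroup G := A ⊓ Subgroup.centralizer {g} with hC
  have hcardC : Nat.card C = Nat.card (MulAction.fixedBy Ω g) := by
    apply Nat.card_congr
    have hCmem : ∀ a : C, (a : G) • ω₀ ∈ MulAction.fixedBy Ω g := by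
      rintro ⟨a, ha⟩
      rw [hC, Subgroup.mem_inf, Subgroup.mem_centralizer_iff] at ha
      rw [MulAction.mem_fixedBy]
      show g • a • ω₀ = a • ω₀
      rw [← mul_smul, ha.2 g (Set.mem_singleton g), mul_smul, hg]
    refine Equiv.ofBijective (fun a : C => (⟨(a : G) • ω₀, hCmem a⟩ : MulAction.fixedBy Ω g))
      ⟨?_, ?_⟩
    · intro a b hab
      have hab' : (a : G) • ω₀ = (b : G) • ω₀ := congrArg Subtype.val hab
      have ha : (a : G) ∈ A ⊓ Subgroup.centralizer {g} := a.2
      have hb : (b : G) ∈ A ⊓ Subgroup.centralizer {g} := b.2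
      rw [Subgroup.mem_inf] at ha hb
      exact Subtype.ext (hinj a ha.1 b hb.1 hab')
    · rintro ⟨ω, hω⟩
      rw [MulAction.mem_fixedBy] at hω
      obtain ⟨a, ha, rfl⟩ := hex_smul ω
      have hga : g * a * g⁻¹ ∈ A := hAnorm.conj_mem a ha g
      have h1 : (g * a * g⁻¹) • ω₀ = a • ω₀ := by
        have hg' : g⁻¹ • ω₀ = ω₀ := by
          rw [inv_smul_eq_iff, hg]
        rw [mul_smul, mul_smul, hg', hω]
      have h2 := hinj _ hga a ha h1
      have h3 : g * a = a * g := by
        calc g * a = g * a * g⁻¹ * g := by group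
          _ = a * g := by rw [h2]
      refine ⟨⟨a, ?_⟩, rfl⟩
      rw [hC, Subgroup.mem_inf, Subgroup.mem_centralizer_iff]
      refine ⟨ha, ?_⟩
      intro x hx
      rw [Set.mem_singleton_iff] at hx
      rw [hx]; exact h3
  rw [← hcardC, ← hcardA]
  exact Subgroup.card_dvd_of_le inf_le_left

end Cfsg.Agent.H43
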