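import Mathlib
import Cfsg.Agent.H43.PE1
import Cfsg.Agent.H43.PE3

set_option autoImplicit false

namespace Cfsg.Agent.H43

open Equiv Equiv.Perm
open scoped Pointwise

theorem addRight_pow_apply {A : Type*} [AddGroup A] (a x : A) (k : ℕ) :
    ((Equiv.addRight a) ^ k) x = x + k • a := by
  induction k generalizing x with
  | zero => simp
  | succ k ih =>
    rw [pow_succ', Perm.mul_apply, ih, succ_nsmul, Equiv.coe_addRight]
    exact add_assoc _ _ _

/-- Translations lie in the group generated by the generating translation. -/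
theorem zmod_translation_mem (N : ℕ) [NeZero N] (τ : Perm (ZMod N)) (d : ZMod N) :
    ∃ g ∈ Subgroup.closure ({Equiv.addRight (1 : ZMod N), τ} : Set (Perm (ZMod N))),
      ∀ x, g x = x + d := by
  refine ⟨Equiv.addRight (1 : ZMod N) ^ d.val, Subgroup.pow_mem _ (Subgroup.subset_closure
    (Set.mem_insert _ _)) _, fun x => ?_⟩
  rw [addRight_pow_apply, nsmul_one, ZMod.natCast_zmod_val]

/-- Primitivity criterion for a group containing the translation by one on `ZMod N`. -/
theorem zmod_primitive (N : ℕ) [NeZero N] (τ : Perm (ZMod N))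
    (hH : ∀ H : AddSubgroup (ZMod N), (∀ x y, y - x ∈ H → τ y - τ x ∈ H) → H ≠ ⊥ →
      (1 : ZMod N) ∈ H) :
    MulAction.IsPreprimitive
      (Subgroup.closure ({Equiv.addRight (1 : ZMod N), τ} : Set (Perm (ZMod N)))) (ZMod N) := by
  set K := Subgroup.closure ({Equiv.addRight (1 : ZMod N), τ} : Set (Perm (ZMod N))) with hK
  have hτK : τ ∈ K := Subgroup.subset_closure (Set.mem_insert_of_mem _ rfl)
  have htr : ∀ d : ZMod N, ∃ g ∈ K, ∀ x, g x = x + d := zmod_translation_mem N τ
  have hpt : MulAction.IsPretransitive K (ZMod N) := by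
    refine ⟨fun x y => ?_⟩
    obtain ⟨g, hg, hgx⟩ := htr (y - x)
    refine ⟨⟨g, hg⟩, ?_⟩
    show g x = y
    rw [hgx]; abel
  refine { toIsPretransitive := hpt, isTrivialBlock_of_isBlock := ?_ }
  intro B hB
  by_cases hsub : B.Subsingleton
  · exact Or.inl hsub
  right
  rw [Set.not_subsingleton_iff] at hsub
  obtain ⟨b₀, hb₀, b₁, hb₁, hne⟩ := hsub
  -- block property in elementwise form
  have hblock : ∀ g ∈ K, ∀ b ∈ B, g b ∈ B → ∀ x ∈ B, g x ∈ B := by
    intro g hg b hb hgb x hx
    have h1 := (MulAction.isBlock_iff_smul_eq_of_mem.1 hB) (g := (⟨g, hg⟩ : K)) (a := b) hb hgb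
    have h2 : (⟨g, hg⟩ : K) • x ∈ (⟨g, hg⟩ : K) • B := Set.smul_mem_smul_set hx
    rw [h1] at h2
    exact h2
  -- the translation stabilizer
  have hneg : ∀ d : ZMod N, -d = (N - 1) • d := by
    intro d
    have h1 : (N - 1) • d + d = 0 := by
      rw [← succ_nsmul]
      have : N - 1 + 1 = N := Nat.sub_add_cancel (NeZero.pos N)
      rw [this]
      simp
    exact (eq_neg_of_add_eq_zero_left h1).symm
  let H : AddSubgroup (ZMod N) :=
    { carrier := {d | ∀ x ∈ B, x + d ∈ B}
      add_mem' := by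
        intro a b ha hb x hx
        have := hb _ (ha x hx)
        rwa [add_assoc] at this
      zero_mem' := by
        intro x hx
        simpa using hx
      neg_mem' := by
        intro d hd
        have hn : ∀ k : ℕ, ∀ x ∈ B, x + k • d ∈ B := by
          intro k
          induction k with
          | zero => intro x hx; simpa using hx
          | succ k ih =>
            intro x hx
            have := hd _ (ih x hx)
            rwa [add_assoc, ← succ_nsmul] at this
        intro x hx
        rw [hneg]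
        exact hn _ x hx }
  have hHmem : ∀ d : ZMod N, d ∈ H ↔ ∀ x ∈ B, x + d ∈ B := fun d => Iff.rfl
  have claimA : ∀ b ∈ B, ∀ b' ∈ B, b' - b ∈ H := by
    intro b hb b' hb'
    obtain ⟨g, hg, hgx⟩ := htr (b' - b)
    rw [hHmem]
    intro x hx
    rw [← hgx]
    apply hblock g hg b hb _ x hx
    rw [hgx]
    simpa using hb'
  have claimB : ∀ x y, y - x ∈ H → τ y - τ x ∈ H := by
    intro x y hd
    obtain ⟨g₁, hg₁, hg₁x⟩ := htr (x - b₀)
    obtain ⟨g₂, hg₂, hg₂x⟩ := htr (b₀ - τ x)
    have hgK : g₂ * (τ * g₁) ∈ K := K.mul_mem hg₂ (K.mul_mem hτK hg₁)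
    have h1 : (g₂ * (τ * g₁)) b₀ = b₀ := by
      simp only [Perm.mul_apply, hg₁x, hg₂x]
      have : b₀ + (x - b₀) = x := by abel
      rw [this]; abel
    have h2 : b₀ + (y - x) ∈ B := (hHmem _).1 hd b₀ hb₀
    have h3 := hblock _ hgK b₀ hb₀ (by rw [h1]; exact hb₀) _ h2
    have h4 : (g₂ * (τ * g₁)) (b₀ + (y - x)) = b₀ + (τ y - τ x) := by
      simp only [Perm.mul_apply, hg₁x, hg₂x]
      have : b₀ + (y - x) + (x - b₀) = y := by abel
      rw [this]; abel
    rw [h4] at h3
    have := claimA b₀ hb₀ _ h3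
    simpa using this
  have hHne : H ≠ ⊥ := by
    intro hbot
    have := claimA b₀ hb₀ b₁ hb₁
    rw [hbot, AddSubgroup.mem_bot, sub_eq_zero] at this
    exact hne this.symm
  have h1 : (1 : ZMod N) ∈ H := hH H claimB hHne
  ext x
  simp only [Set.mem_univ, iff_true]
  have h2 : x - b₀ ∈ H := by
    have : x - b₀ = (x - b₀).val • (1 : ZMod N) := by
      rw [nsmul_one, ZMod.natCast_zmod_val]
    rw [this]
    exact H.nsmul_mem h1 _
  have := (hHmem _).1 h2 b₀ hb₀
  simpa using this

/-- Model criterion on `ZMod N`: primitivity plus a suitable number of fixed points of the product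
gives a good model. -/
theorem zmod_model_good (N p : ℕ) [NeZero N] (hp : p.Prime) (τ : Perm (ZMod N))
    (hH : ∀ H : AddSubgroup (ZMod N), (∀ x y, y - x ∈ H → τ y - τ x ∈ H) → H ≠ ⊥ →
      (1 : ZMod N) ∈ H)
    (c : ℕ)
    (hc : (Finset.univ.filter fun x => (Equiv.addRight (1 : ZMod N) * τ) x = x).card = c)
    (hc0 : 0 < c) (hcN : ¬ c ∣ N) (hcp : ¬ (N ≡ c [MOD p])) :
    (¬ Group.IsSolvable
      (Subgroup.closure ({Equiv.addRight (1 : ZMod N), τ} : Set (Perm (ZMod N))))) ∧
    ∀ k : ℕ, (Equiv.addRight (1 : ZMod N) * τ) ^ p ^ k ≠ 1 := by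
  refine ⟨?_, ?_⟩
  · intro hsolv
    set K := Subgroup.closure ({Equiv.addRight (1 : ZMod N), τ} : Set (Perm (ZMod N))) with hK
    have hprim : MulAction.IsPreprimitive K (ZMod N) := zmod_primitive N τ hH
    have hσK : Equiv.addRight (1 : ZMod N) ∈ K := Subgroup.subset_closure (Set.mem_insert _ _)
    have hτK : τ ∈ K := Subgroup.subset_closure (Set.mem_insert_of_mem _ rfl)
    have hgK : Equiv.addRight (1 : ZMod N) * τ ∈ K := K.mul_mem hσK hτK
    have hne : (Finset.univ.filter fun x => (Equiv.addRight (1 : ZMod N) * τ) x = x).Nonempty := by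
      rw [← Finset.card_pos, hc]; exact hc0
    obtain ⟨ω₀, hω₀⟩ := hne
    rw [Finset.mem_filter] at hω₀
    have hdvd := card_fixedBy_dvd_of_solvable_primitive (G := K) (Ω := ZMod N)
      ⟨Equiv.addRight (1 : ZMod N) * τ, hgK⟩ ω₀ hω₀.2
    apply hcN
    have h1 : Nat.card (ZMod N) = N := by
      rw [Nat.card_eq_fintype_card, ZMod.card]
    have h2 : Nat.card (MulAction.fixedBy (ZMod N)
        (⟨Equiv.addRight (1 : ZMod N) * τ, hgK⟩ : K)) = c := by
      rw [← hc, Nat.card_eq_fintype_card, ← Fintype.card_subtype]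
      rfl
    rw [h1, h2] at hdvd
    exact hdvd
  · apply pow_ne_one_of_card_fix p hp
    rw [ZMod.card, hc]
    exact hcp

end Cfsg.Agent.H43
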