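import Mathlib
import Cfsg.Agent.H43.PE4

set_option autoImplicit false

namespace Cfsg.Agent.H43

open Equiv Equiv.Perm

theorem znn (N : ℕ) (hN : 5 ≤ N) (a b : ℕ) (ha : a < 5) (hb : b < 5) (hab : a ≠ b) :
    (a : ZMod N) ≠ (b : ZMod N) := by
  intro h
  rw [ZMod.natCast_eq_natCast_iff', Nat.mod_eq_of_lt (by omega), Nat.mod_eq_of_lt (by omega)] at h
  exact hab h

theorem zneg (N : ℕ) (hN : 5 ≤ N) (a : ℕ) (ha : a < 4) : (-1 : ZMod N) ≠ (a : ZMod N) := by
  intro h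
  have h1 : ((a + 1 : ℕ) : ZMod N) = 0 := by
    push_cast; rw [← h]; ring
  rw [ZMod.natCast_eq_zero_iff] at h1
  have := Nat.le_of_dvd (by omega) h1
  omega

theorem zq01 (N : ℕ) (hN : 5 ≤ N) : (0 : ZMod N) ≠ 1 := by simpa using znn N hN 0 1 (by norm_num) (by norm_num) (by norm_num)
theorem zq02 (N : ℕ) (hN : 5 ≤ N) : (0 : ZMod N) ≠ 2 := by simpa using znn N hN 0 2 (by norm_num) (by norm_num) (by norm_num)
theorem zq03 (N : ℕ) (hN : 5 ≤ N) : (0 : ZMod N) ≠ 3 := by simpa using znn N hN 0 3 (by norm_num) (by norm_num) (by norm_num)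
theorem zq04 (N : ℕ) (hN : 5 ≤ N) : (0 : ZMod N) ≠ 4 := by simpa using znn N hN 0 4 (by norm_num) (by norm_num) (by norm_num)
theorem zq10 (N : ℕ) (hN : 5 ≤ N) : (1 : ZMod N) ≠ 0 := by simpa using znn N hN 1 0 (by norm_num) (by norm_num) (by norm_num)
theorem zq12 (N : ℕ) (hN : 5 ≤ N) : (1 : ZMod N) ≠ 2 := by simpa using znn N hN 1 2 (by norm_num) (by norm_num) (by norm_num)
theorem zq13 (N : ℕ) (hN : 5 ≤ N) : (1 : ZMod N) ≠ 3 := by simpa using znn N hN 1 3 (by norm_num) (by norm_num) (by norm_num)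
theorem zq14 (N : ℕ) (hN : 5 ≤ N) : (1 : ZMod N) ≠ 4 := by simpa using znn N hN 1 4 (by norm_num) (by norm_num) (by norm_num)
theorem zq20 (N : ℕ) (hN : 5 ≤ N) : (2 : ZMod N) ≠ 0 := by simpa using znn N hN 2 0 (by norm_num) (by norm_num) (by norm_num)
theorem zq21 (N : ℕ) (hN : 5 ≤ N) : (2 : ZMod N) ≠ 1 := by simpa using znn N hN 2 1 (by norm_num) (by norm_num) (by norm_num)
theorem zq23 (N : ℕ) (hN : 5 ≤ N) : (2 : ZMod N) ≠ 3 := by simpa using znn N hN 2 3 (by norm_num) (by norm_num) (by norm_num)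
theorem zq24 (N : ℕ) (hN : 5 ≤ N) : (2 : ZMod N) ≠ 4 := by simpa using znn N hN 2 4 (by norm_num) (by norm_num) (by norm_num)
theorem zq30 (N : ℕ) (hN : 5 ≤ N) : (3 : ZMod N) ≠ 0 := by simpa using znn N hN 3 0 (by norm_num) (by norm_num) (by norm_num)
theorem zq31 (N : ℕ) (hN : 5 ≤ N) : (3 : ZMod N) ≠ 1 := by simpa using znn N hN 3 1 (by norm_num) (by norm_num) (by norm_num)
theorem zq32 (N : ℕ) (hN : 5 ≤ N) : (3 : ZMod N) ≠ 2 := by simpa using znn N hN 3 2 (by norm_num) (by norm_num) (by norm_num)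
theorem zq34 (N : ℕ) (hN : 5 ≤ N) : (3 : ZMod N) ≠ 4 := by simpa using znn N hN 3 4 (by norm_num) (by norm_num) (by norm_num)
theorem zq40 (N : ℕ) (hN : 5 ≤ N) : (4 : ZMod N) ≠ 0 := by simpa using znn N hN 4 0 (by norm_num) (by norm_num) (by norm_num)
theorem zq41 (N : ℕ) (hN : 5 ≤ N) : (4 : ZMod N) ≠ 1 := by simpa using znn N hN 4 1 (by norm_num) (by norm_num) (by norm_num)
theorem zq42 (N : ℕ) (hN : 5 ≤ N) : (4 : ZMod N) ≠ 2 := by simpa using znn N hN 4 2 (by norm_num) (by norm_num) (by norm_num)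
theorem zq43 (N : ℕ) (hN : 5 ≤ N) : (4 : ZMod N) ≠ 3 := by simpa using znn N hN 4 3 (by norm_num) (by norm_num) (by norm_num)
theorem zqm0 (N : ℕ) (hN : 5 ≤ N) : (-1 : ZMod N) ≠ 0 := by simpa using zneg N hN 0 (by norm_num)
theorem zq0m (N : ℕ) (hN : 5 ≤ N) : (0 : ZMod N) ≠ -1 := by simpa using (zneg N hN 0 (by norm_num)).symm
theorem zqm1 (N : ℕ) (hN : 5 ≤ N) : (-1 : ZMod N) ≠ 1 := by simpa using zneg N hN 1 (by norm_num)
theorem zq1m (N : ℕ) (hN : 5 ≤ N) : (1 : ZMod N) ≠ -1 := by simpa using (zneg N hN 1 (by norm_num)).symm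
theorem zqm2 (N : ℕ) (hN : 5 ≤ N) : (-1 : ZMod N) ≠ 2 := by simpa using zneg N hN 2 (by norm_num)
theorem zq2m (N : ℕ) (hN : 5 ≤ N) : (2 : ZMod N) ≠ -1 := by simpa using (zneg N hN 2 (by norm_num)).symm
theorem zqm3 (N : ℕ) (hN : 5 ≤ N) : (-1 : ZMod N) ≠ 3 := by simpa using zneg N hN 3 (by norm_num)
theorem zq3m (N : ℕ) (hN : 5 ≤ N) : (3 : ZMod N) ≠ -1 := by simpa using (zneg N hN 3 (by norm_num)).symm


theorem cycleType_addRight_one (N : ℕ) [NeZero N] (hN : 2 ≤ N) :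
    (Equiv.addRight (1 : ZMod N)).cycleType = {N} := by
  have h10 : (1 : ZMod N) ≠ 0 := by
    intro h
    have : ((1 : ℕ) : ZMod N) = 0 := by simpa using h
    rw [ZMod.natCast_eq_zero_iff] at this
    have := Nat.le_of_dvd (by omega) this
    omega
  have hcyc : (Equiv.addRight (1 : ZMod N)).IsCycle := by
    refine ⟨0, by simpa using h10, fun y _ => ⟨(y.val : ℤ), ?_⟩⟩
    rw [zpow_natCast, addRight_pow_apply, nsmul_one, ZMod.natCast_zmod_val, zero_add]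
  have hsupp : (Equiv.addRight (1 : ZMod N)).support = Finset.univ := by
    ext x
    simp [Perm.mem_support, h10]
  rw [hcyc.cycleType, hsupp, Finset.card_univ, ZMod.card]

theorem one_mem_of_two_mem (N : ℕ) (hodd : Odd N) (H : AddSubgroup (ZMod N))
    (h : (2 : ZMod N) ∈ H) : (1 : ZMod N) ∈ H := by
  obtain ⟨k, hk⟩ := hodd
  have h1 : (1 : ZMod N) = (k + 1) • (2 : ZMod N) := by
    have h2 : ((2 * k + 1 : ℕ) : ZMod N) = 0 := by
      rw [← hk]; exact ZMod.natCast_self N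
    push_cast at h2
    rw [nsmul_eq_mul]
    push_cast
    linear_combination -h2
  rw [h1]
  exact H.nsmul_mem h _

/-- Model A: conjugate of the translation by the transposition `(0 2)`. -/
def tauA (N : ℕ) : Perm (ZMod N) := swap 0 2 * Equiv.addRight 1 * (swap 0 2)⁻¹

/-- Model B: conjugate of the translation by `(0 1)(2 3)`. -/
def tauB (N : ℕ) : Perm (ZMod N) :=
  (swap 0 1 * swap 2 3) * Equiv.addRight 1 * (swap 0 1 * swap 2 3)⁻¹

theorem tauA_zero (N : ℕ) (hN : 5 ≤ N) : tauA N 0 = 3 := by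
  norm_num [tauA, Perm.mul_apply, Equiv.swap_apply_def, zq01 N hN, zq02 N hN, zq03 N hN, zq04 N hN, zq10 N hN, zq12 N hN, zq13 N hN, zq14 N hN, zq20 N hN, zq21 N hN, zq23 N hN, zq24 N hN, zq30 N hN, zq31 N hN, zq32 N hN, zq34 N hN, zq40 N hN, zq41 N hN, zq42 N hN, zq43 N hN, zqm0 N hN, zq0m N hN, zqm1 N hN, zq1m N hN, zqm2 N hN, zq2m N hN, zqm3 N hN, zq3m N hN]

theorem tauA_one (N : ℕ) (hN : 5 ≤ N) : tauA N 1 = 0 := by
  norm_num [tauA, Perm.mul_apply, Equiv.swap_apply_def, zq01 N hN, zq02 N hN, zq03 N hN, zq04 N hN, zq10 N hN, zq12 N hN, zq13 N hN, zq14 N hN, zq20 N hN, zq21 N hN, zq23 N hN, zq24 N hN, zq30 N hN, zq31 N hN, zq32 N hN, zq34 N hN, zq40 N hN, zq41 N hN, zq42 N hN, zq43 N hN, zqm0 N hN, zq0m N hN, zqm1 N hN, zq1m N hN, zqm2 N hN, zq2m N hN, zqm3 N hN, zq3m N hN]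

theorem tauA_two (N : ℕ) (hN : 5 ≤ N) : tauA N 2 = 1 := by
  norm_num [tauA, Perm.mul_apply, Equiv.swap_apply_def, zq01 N hN, zq02 N hN, zq03 N hN, zq04 N hN, zq10 N hN, zq12 N hN, zq13 N hN, zq14 N hN, zq20 N hN, zq21 N hN, zq23 N hN, zq24 N hN, zq30 N hN, zq31 N hN, zq32 N hN, zq34 N hN, zq40 N hN, zq41 N hN, zq42 N hN, zq43 N hN, zqm0 N hN, zq0m N hN, zqm1 N hN, zq1m N hN, zqm2 N hN, zq2m N hN, zqm3 N hN, zq3m N hN]

theorem tauA_neg (N : ℕ) (hN : 5 ≤ N) : tauA N (-1) = 2 := by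
  norm_num [tauA, Perm.mul_apply, Equiv.swap_apply_def, zq01 N hN, zq02 N hN, zq03 N hN, zq04 N hN, zq10 N hN, zq12 N hN, zq13 N hN, zq14 N hN, zq20 N hN, zq21 N hN, zq23 N hN, zq24 N hN, zq30 N hN, zq31 N hN, zq32 N hN, zq34 N hN, zq40 N hN, zq41 N hN, zq42 N hN, zq43 N hN, zqm0 N hN, zq0m N hN, zqm1 N hN, zq1m N hN, zqm2 N hN, zq2m N hN, zqm3 N hN, zq3m N hN]

theorem tauA_else (N : ℕ) (x : ZMod N) (h0 : x ≠ 0) (h1 : x ≠ 1) (h2 : x ≠ 2)
    (hm : x ≠ -1) : tauA N x = x + 1 := by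
  have a1 : x + 1 ≠ 0 := fun h => hm (by linear_combination h)
  have a2 : x + 1 ≠ 2 := fun h => h1 (by linear_combination h)
  simp only [tauA, Perm.mul_apply, Equiv.swap_inv, Equiv.coe_addRight]
  rw [Equiv.swap_apply_of_ne_of_ne h0 h2, Equiv.swap_apply_of_ne_of_ne a1 a2]

theorem tauB_zero (N : ℕ) (hN : 5 ≤ N) : tauB N 0 = 3 := by
  norm_num [tauB, Perm.mul_apply, Equiv.swap_apply_def, zq01 N hN, zq02 N hN, zq03 N hN, zq04 N hN, zq10 N hN, zq12 N hN, zq13 N hN, zq14 N hN, zq20 N hN, zq21 N hN, zq23 N hN, zq24 N hN, zq30 N hN, zq31 N hN, zq32 N hN, zq34 N hN, zq40 N hN, zq41 N hN, zq42 N hN, zq43 N hN, zqm0 N hN, zq0m N hN, zqm1 N hN, zq1m N hN, zqm2 N hN, zq2m N hN, zqm3 N hN, zq3m N hN]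

theorem tauB_one (N : ℕ) (hN : 5 ≤ N) : tauB N 1 = 0 := by
  norm_num [tauB, Perm.mul_apply, Equiv.swap_apply_def, zq01 N hN, zq02 N hN, zq03 N hN, zq04 N hN, zq10 N hN, zq12 N hN, zq13 N hN, zq14 N hN, zq20 N hN, zq21 N hN, zq23 N hN, zq24 N hN, zq30 N hN, zq31 N hN, zq32 N hN, zq34 N hN, zq40 N hN, zq41 N hN, zq42 N hN, zq43 N hN, zqm0 N hN, zq0m N hN, zqm1 N hN, zq1m N hN, zqm2 N hN, zq2m N hN, zqm3 N hN, zq3m N hN]

theorem tauB_two (N : ℕ) (hN : 5 ≤ N) : tauB N 2 = 4 := by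
  norm_num [tauB, Perm.mul_apply, Equiv.swap_apply_def, zq01 N hN, zq02 N hN, zq03 N hN, zq04 N hN, zq10 N hN, zq12 N hN, zq13 N hN, zq14 N hN, zq20 N hN, zq21 N hN, zq23 N hN, zq24 N hN, zq30 N hN, zq31 N hN, zq32 N hN, zq34 N hN, zq40 N hN, zq41 N hN, zq42 N hN, zq43 N hN, zqm0 N hN, zq0m N hN, zqm1 N hN, zq1m N hN, zqm2 N hN, zq2m N hN, zqm3 N hN, zq3m N hN]

theorem tauB_three (N : ℕ) (hN : 5 ≤ N) : tauB N 3 = 2 := by
  norm_num [tauB, Perm.mul_apply, Equiv.swap_apply_def, zq01 N hN, zq02 N hN, zq03 N hN, zq04 N hN, zq10 N hN, zq12 N hN, zq13 N hN, zq14 N hN, zq20 N hN, zq21 N hN, zq23 N hN, zq24 N hN, zq30 N hN, zq31 N hN, zq32 N hN, zq34 N hN, zq40 N hN, zq41 N hN, zq42 N hN, zq43 N hN, zqm0 N hN, zq0m N hN, zqm1 N hN, zq1m N hN, zqm2 N hN, zq2m N hN, zqm3 N hN, zq3m N hN]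

theorem tauB_neg (N : ℕ) (hN : 5 ≤ N) : tauB N (-1) = 1 := by
  norm_num [tauB, Perm.mul_apply, Equiv.swap_apply_def, zq01 N hN, zq02 N hN, zq03 N hN, zq04 N hN, zq10 N hN, zq12 N hN, zq13 N hN, zq14 N hN, zq20 N hN, zq21 N hN, zq23 N hN, zq24 N hN, zq30 N hN, zq31 N hN, zq32 N hN, zq34 N hN, zq40 N hN, zq41 N hN, zq42 N hN, zq43 N hN, zqm0 N hN, zq0m N hN, zqm1 N hN, zq1m N hN, zqm2 N hN, zq2m N hN, zqm3 N hN, zq3m N hN]

theorem tauB_else (N : ℕ) (x : ZMod N) (h0 : x ≠ 0) (h1 : x ≠ 1) (h2 : x ≠ 2) (h3 : x ≠ 3)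
    (hm : x ≠ -1) : tauB N x = x + 1 := by
  have a0 : x + 1 ≠ 0 := fun h => hm (by linear_combination h)
  have a1 : x + 1 ≠ 1 := fun h => h0 (by linear_combination h)
  have a2 : x + 1 ≠ 2 := fun h => h1 (by linear_combination h)
  have a3 : x + 1 ≠ 3 := fun h => h2 (by linear_combination h)
  simp only [tauB, Perm.mul_apply, mul_inv_rev, Equiv.swap_inv, Equiv.coe_addRight]
  rw [Equiv.swap_apply_of_ne_of_ne h0 h1, Equiv.swap_apply_of_ne_of_ne h2 h3,
    Equiv.swap_apply_of_ne_of_ne a2 a3, Equiv.swap_apply_of_ne_of_ne a0 a1]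

theorem fixA_card (N : ℕ) [NeZero N] (hN : 5 ≤ N) :
    (Finset.univ.filter fun x => (Equiv.addRight (1 : ZMod N) * tauA N) x = x).card = 2 := by
  have : (Finset.univ.filter fun x => (Equiv.addRight (1 : ZMod N) * tauA N) x = x)
      = {1, 2} := by
    ext x
    rw [Finset.mem_filter]
    simp only [Finset.mem_univ, true_and, Perm.mul_apply, Equiv.coe_addRight,
      Finset.mem_insert, Finset.mem_singleton]
    constructor
    · intro h
      by_contra hne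
      push Not at hne
      by_cases h0 : x = 0
      · subst h0
        rw [tauA_zero N hN] at h
        exact zq40 N hN (by linear_combination h)
      by_cases hm : x = -1
      · subst hm
        rw [tauA_neg N hN] at h
        exact zq40 N hN (by linear_combination h)
      rw [tauA_else N x h0 hne.1 hne.2 hm] at h
      exact zq20 N hN (by linear_combination h)
    · rintro (rfl | rfl)
      · rw [tauA_one N hN]; norm_num
      · rw [tauA_two N hN]; norm_num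
  rw [this, Finset.card_pair (zq12 N hN)]

theorem fixB_card (N : ℕ) [NeZero N] (hN : 5 ≤ N) :
    (Finset.univ.filter fun x => (Equiv.addRight (1 : ZMod N) * tauB N) x = x).card = 2 := by
  have : (Finset.univ.filter fun x => (Equiv.addRight (1 : ZMod N) * tauB N) x = x)
      = {1, 3} := by
    ext x
    rw [Finset.mem_filter]
    simp only [Finset.mem_univ, true_and, Perm.mul_apply, Equiv.coe_addRight,
      Finset.mem_insert, Finset.mem_singleton]
    constructor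
    · intro h
      by_contra hne
      push Not at hne
      by_cases h0 : x = 0
      · subst h0
        rw [tauB_zero N hN] at h
        exact zq40 N hN (by linear_combination h)
      by_cases h2 : x = 2
      · subst h2
        rw [tauB_two N hN] at h
        exact zq30 N hN (by linear_combination h)
      by_cases hm : x = -1
      · subst hm
        rw [tauB_neg N hN] at h
        exact zq30 N hN (by linear_combination h)
      rw [tauB_else N x h0 hne.1 h2 hne.2 hm] at h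
      exact zq20 N hN (by linear_combination h)
    · rintro (rfl | rfl)
      · rw [tauB_one N hN]; norm_num
      · rw [tauB_three N hN]; norm_num
  rw [this, Finset.card_pair (zq13 N hN)]

theorem primA (N : ℕ) (hN : 5 ≤ N) (hodd : Odd N) (H : AddSubgroup (ZMod N))
    (hc : ∀ x y, y - x ∈ H → tauA N y - tauA N x ∈ H) (hne : H ≠ ⊥) : (1 : ZMod N) ∈ H := by
  obtain ⟨⟨b, hb⟩, hb0'⟩ := (AddSubgroup.ne_bot_iff_exists_ne_zero).1 hne
  have hb0 : b ≠ 0 := fun h => hb0' (Subtype.ext h)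
  by_cases h1 : b = 1
  · rw [← h1]; exact hb
  by_cases hm : b = -1
  · have := H.neg_mem hb
    rw [hm] at this
    simpa using this
  by_cases h2 : b = 2
  · exact one_mem_of_two_mem N hodd H (h2 ▸ hb)
  have h3 := hc 0 b (by simpa using hb)
  rw [tauA_zero N hN, tauA_else N b hb0 h1 h2 hm] at h3
  have h4 : (2 : ZMod N) ∈ H := by
    have := H.sub_mem hb h3
    have e : b - (b + 1 - 3) = 2 := by ring
    rwa [e] at this
  exact one_mem_of_two_mem N hodd H h4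

theorem primB (N : ℕ) (hN : 5 ≤ N) (hodd : Odd N) (H : AddSubgroup (ZMod N))
    (hc : ∀ x y, y - x ∈ H → tauB N y - tauB N x ∈ H) (hne : H ≠ ⊥) : (1 : ZMod N) ∈ H := by
  obtain ⟨⟨b, hb⟩, hb0'⟩ := (AddSubgroup.ne_bot_iff_exists_ne_zero).1 hne
  have hb0 : b ≠ 0 := fun h => hb0' (Subtype.ext h)
  by_cases h1 : b = 1
  · rw [← h1]; exact hb
  by_cases hm : b = -1
  · have := H.neg_mem hb
    rw [hm] at this
    simpa using this
  by_cases h2 : b = 2
  · exact one_mem_of_two_mem N hodd H (h2 ▸ hb)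
  by_cases h3 : b = 3
  · have h4 := hc 0 3 (by simpa [h3] using hb)
    rw [tauB_zero N hN, tauB_three N hN] at h4
    have := H.neg_mem h4
    have e : -((2 : ZMod N) - 3) = 1 := by ring
    rwa [e] at this
  have h4 := hc 0 b (by simpa using hb)
  rw [tauB_zero N hN, tauB_else N b hb0 h1 h2 h3 hm] at h4
  have h5 : (2 : ZMod N) ∈ H := by
    have := H.sub_mem hb h4
    have e : b - (b + 1 - 3) = 2 := by ring
    rwa [e] at this
  exact one_mem_of_two_mem N hodd H h5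

/-- Case I models: for each sign there is a conjugator of that sign giving a good model. -/
theorem caseI_models (N p : ℕ) [NeZero N] (hN : 5 ≤ N) (hodd : Odd N) (hp : p.Prime)
    (hp3 : 3 ≤ p) (hpN : p ∣ N) (s : ℤˣ) :
    ∃ ρ : Perm (ZMod N), sign ρ = s ∧
      (¬ Group.IsSolvable (Subgroup.closure ({Equiv.addRight (1 : ZMod N),
        ρ * Equiv.addRight (1 : ZMod N) * ρ⁻¹} : Set (Perm (ZMod N))))) ∧
      ∀ k : ℕ, (Equiv.addRight (1 : ZMod N) * (ρ * Equiv.addRight (1 : ZMod N) * ρ⁻¹)) ^ p ^ k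
        ≠ 1 := by
  have h2N : ¬ 2 ∣ N := by
    intro h
    exact (Nat.not_even_iff_odd.2 hodd) (even_iff_two_dvd.2 h)
  have h2p : ¬ (N ≡ 2 [MOD p]) := by
    intro h
    have h1 : N ≡ 0 [MOD p] := (Nat.modEq_zero_iff_dvd).2 hpN
    have h2 : (2 : ℕ) ≡ 0 [MOD p] := h.symm.trans h1
    have h3 := (Nat.modEq_zero_iff_dvd).1 h2
    have := Nat.le_of_dvd (by norm_num) h3
    omega
  rcases Int.units_eq_one_or s with hs | hs
  · refine ⟨swap 0 1 * swap 2 3, ?_, ?_⟩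
    · rw [map_mul, sign_swap (zq01 N hN), sign_swap (zq23 N hN), hs]; rfl
    · exact zmod_model_good N p hp (tauB N) (primB N hN hodd) 2 (fixB_card N hN) (by norm_num)
        h2N h2p
  · refine ⟨swap 0 2, ?_, ?_⟩
    · rw [sign_swap (zq02 N hN), hs]
    · exact zmod_model_good N p hp (tauA N) (primA N hN hodd) 2 (fixA_card N hN) (by norm_num)
        h2N h2p

end Cfsg.Agent.H43
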