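import Mathlib
import Cfsg.Agent.H43.PE5
import Cfsg.Agent.H43.PE2

set_option autoImplicit false

namespace Cfsg.Agent.H43

open Equiv Equiv.Perm

theorem finRotate_val' (k : ℕ) (i : Fin k) :
    (finRotate k i).val = if i.val + 1 = k then 0 else i.val + 1 := by
  cases k with
  | zero => exact i.elim0
  | succ k =>
    rw [coe_finRotate]
    by_cases h : i = Fin.last k
    · rw [if_pos h, if_pos (by rw [h]; simp)]
    · rw [if_neg h, if_neg]
      intro h'
      apply h
      apply Fin.ext
      simp only [Fin.val_last]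
      omega

theorem zval_add_one (N : ℕ) [NeZero N] (a : ZMod N) : (a + 1).val = (a.val + 1) % N := by
  have : a + 1 = ((a.val + 1 : ℕ) : ZMod N) := by
    push_cast
    rw [ZMod.natCast_zmod_val]
  rw [this, ZMod.val_natCast]

theorem zmod_eq_of_val_add (N : ℕ) [NeZero N] (a b : ZMod N) (k : ℕ) (h : a.val + k = b.val) :
    a + (k : ZMod N) = b := by
  have h1 : ((a.val + k : ℕ) : ZMod N) = ((b.val : ℕ) : ZMod N) := by rw [h]
  push_cast at h1
  rwa [ZMod.natCast_zmod_val, ZMod.natCast_zmod_val] at h1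

/-- The embedding of `Fin k` as the interval `[A, A + k)` of `ZMod N`. -/
def ivEmb (N A k : ℕ) (h : A + k ≤ N) : Fin k ↪ ZMod N :=
  ⟨fun i => ((A + i.val : ℕ) : ZMod N), by
    intro i j hij
    have hi : (((A + i.val : ℕ) : ZMod N)).val = A + i.val :=
      ZMod.val_natCast_of_lt (by have := i.2; omega)
    have hj : (((A + j.val : ℕ) : ZMod N)).val = A + j.val :=
      ZMod.val_natCast_of_lt (by have := j.2; omega)
    have h1 : (((A + i.val : ℕ) : ZMod N)).val = (((A + j.val : ℕ) : ZMod N)).val :=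
      congrArg ZMod.val hij
    rw [hi, hj] at h1
    exact Fin.ext (by omega)⟩

theorem ivEmb_val (N A k : ℕ) (h : A + k ≤ N) (i : Fin k) :
    (ivEmb N A k h i).val = A + i.val :=
  ZMod.val_natCast_of_lt (by have := i.2; omega)

/-- The forward cycle on the interval `[A, A + k)`. -/
noncomputable def ivCyc (N A k : ℕ) (h : A + k ≤ N) : Perm (ZMod N) :=
  viaEmbedding (finRotate k) (ivEmb N A k h)

theorem ivCyc_fix (N A k : ℕ) (h : A + k ≤ N) (x : ZMod N) (hx : x.val < A ∨ A + k ≤ x.val) :
    ivCyc N A k h x = x := by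
  apply viaEmbedding_apply_of_notMem
  rintro ⟨i, rfl⟩
  have := ivEmb_val N A k h i
  have := i.2
  omega

theorem ivCyc_mem (N A k : ℕ) [NeZero N] (h : A + k ≤ N) (x : ZMod N) (hx1 : A ≤ x.val)
    (hx2 : x.val < A + k) :
    (ivCyc N A k h x).val = if x.val + 1 = A + k then A else x.val + 1 := by
  have hx : x = ivEmb N A k h ⟨x.val - A, by omega⟩ := by
    apply ZMod.val_injective N
    rw [ivEmb_val]
    simp only
    omega
  have h1 : ivCyc N A k h x = ivEmb N A k h (finRotate k ⟨x.val - A, by omega⟩) := by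
    conv_lhs => rw [hx]
    exact viaEmbedding_apply _ _ _
  rw [h1, ivEmb_val, finRotate_val']
  simp only
  split_ifs <;> omega

theorem cycleType_ivCyc (N A k : ℕ) [NeZero N] (h : A + k ≤ N) (hk : 2 ≤ k) :
    (ivCyc N A k h).cycleType = {k} := by
  unfold ivCyc
  rw [cycleType_viaEmbedding, cycleType_finRotate_of_le hk]

/-- Existence of a product of forward interval cycles with prescribed cycle type. -/
theorem exists_interval_perm (N : ℕ) [NeZero N] (μ : Multiset ℕ) :
    ∀ A : ℕ, (∀ k ∈ μ, 3 ≤ k) → A + μ.sum ≤ N →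
    ∃ τ : Perm (ZMod N), τ.cycleType = μ ∧ (∀ x : ZMod N, x.val < A → τ x = x) ∧
      ∀ x : ZMod N, A ≤ x.val → A ≤ (τ x).val ∧
        ((τ x).val = x.val + 1 ∨ (τ x).val = x.val ∨ (τ x).val + 2 ≤ x.val) := by
  induction μ using Multiset.induction_on with
  | empty =>
    intro A _ _
    refine ⟨1, cycleType_one, fun x _ => rfl, fun x hx => ⟨hx, Or.inr (Or.inl rfl)⟩⟩
  | cons k μ ih =>
    intro A hk hsum
    rw [Multiset.sum_cons] at hsum
    have hk3 : 3 ≤ k := hk k (Multiset.mem_cons_self k μ)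
    obtain ⟨τ', hct, hfix, hprop⟩ := ih (A + k) (fun j hj => hk j (Multiset.mem_cons_of_mem hj))
      (by omega)
    have hAk : A + k ≤ N := by omega
    have hdisj : Perm.Disjoint (ivCyc N A k hAk) τ' := by
      intro x
      by_cases hx : x.val < A + k
      · right; exact hfix x hx
      · left; exact ivCyc_fix N A k hAk x (Or.inr (by omega))
    refine ⟨ivCyc N A k hAk * τ', ?_, ?_, ?_⟩
    · rw [hdisj.cycleType_mul, cycleType_ivCyc N A k hAk (by omega), hct,
        Multiset.singleton_add]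
    · intro x hx
      rw [Perm.mul_apply, hfix x (by omega), ivCyc_fix N A k hAk x (Or.inl hx)]
    · intro x hx
      rw [Perm.mul_apply]
      by_cases hx2 : x.val < A + k
      · rw [hfix x hx2, ivCyc_mem N A k hAk x hx hx2]
        split_ifs with h1
        · exact ⟨le_rfl, Or.inr (Or.inr (by omega))⟩
        · exact ⟨by omega, Or.inl rfl⟩
      · obtain ⟨h1, h2⟩ := hprop x (by omega)
        rw [ivCyc_fix N A k hAk _ (Or.inr h1)]
        exact ⟨by omega, h2⟩

/-- Existence of the Case II model permutation: a backward `m`-cycle on `[0, m)` followed by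
forward interval cycles. -/
theorem exists_mc_perm (N m : ℕ) [NeZero N] (hm3 : 3 ≤ m) (μ : Multiset ℕ)
    (hμ : ∀ k ∈ μ, 3 ≤ k) (hsum : m + μ.sum ≤ N) :
    ∃ τ₀ : Perm (ZMod N), τ₀.cycleType = m ::ₘ μ ∧
      (∀ x : ZMod N, 1 ≤ x.val → x.val < m → (τ₀ x).val + 1 = x.val) ∧
      ((τ₀ 0).val + 1 = m) ∧
      (∀ x : ZMod N, m ≤ x.val → m ≤ (τ₀ x).val ∧
        ((τ₀ x).val = x.val + 1 ∨ (τ₀ x).val = x.val ∨ (τ₀ x).val + 2 ≤ x.val)) := by
  obtain ⟨τ', hct, hfix, hprop⟩ := exists_interval_perm N μ m hμ hsum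
  have h0m : 0 + m ≤ N := by omega
  set c := ivCyc N 0 m h0m with hc
  have hcfix : ∀ x : ZMod N, m ≤ x.val → c x = x :=
    fun x hx => ivCyc_fix N 0 m h0m x (Or.inr (by omega))
  have hcmem : ∀ x : ZMod N, x.val < m → (c x).val = if x.val + 1 = m then 0 else x.val + 1 := by
    intro x hx
    have := ivCyc_mem N 0 m h0m x (Nat.zero_le _) (by omega)
    rw [← hc] at this
    rw [this]
    simp
  have hcinv : ∀ x : ZMod N, m ≤ x.val → c⁻¹ x = x := by
    intro x hx
    rw [Perm.inv_eq_iff_eq, hcfix x hx]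
  have hdisj : Perm.Disjoint c⁻¹ τ' := by
    intro x
    by_cases hx : x.val < m
    · right; exact hfix x hx
    · left; exact hcinv x (by omega)
  -- key property of the inverse cycle
  have hback : ∀ x : ZMod N, x.val < m →
      ((c⁻¹ x).val + 1 = x.val ∨ (x.val = 0 ∧ (c⁻¹ x).val + 1 = m)) := by
    intro x hx
    set y := c⁻¹ x with hy
    have hcy : c y = x := by rw [hy]; simp
    by_cases hym : m ≤ y.val
    · have := hcfix y hym
      rw [hcy] at this
      rw [this] at hx
      omega
    · have h1 := hcmem y (by omega)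
      rw [hcy] at h1
      split_ifs at h1 with h2
      · right; exact ⟨h1, h2⟩
      · left; omega
  refine ⟨c⁻¹ * τ', ?_, ?_, ?_, ?_⟩
  · rw [hdisj.cycleType_mul, cycleType_inv, hc, cycleType_ivCyc N 0 m h0m (by omega), hct,
      Multiset.singleton_add]
  · intro x hx1 hxm
    rw [Perm.mul_apply, hfix x hxm]
    rcases hback x hxm with h | ⟨h, _⟩
    · exact h
    · omega
  · rw [Perm.mul_apply, hfix 0 (by rw [ZMod.val_zero]; omega)]
    rcases hback 0 (by rw [ZMod.val_zero]; omega) with h | ⟨_, h⟩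
    · rw [ZMod.val_zero] at h; omega
    · exact h
  · intro x hx
    obtain ⟨h1, h2⟩ := hprop x hx
    rw [Perm.mul_apply, hcinv _ h1]
    exact ⟨h1, h2⟩

/-- The Case II model is good. -/
theorem mc_good (N p a m : ℕ) [NeZero N] (hp : p.Prime) (hp3 : 3 ≤ p) (hN : N = p ^ a)
    (hm3 : 3 ≤ m) (hmN : m < N) (hpm : p ∣ m) (τ₀ : Perm (ZMod N))
    (C1 : ∀ x : ZMod N, 1 ≤ x.val → x.val < m → (τ₀ x).val + 1 = x.val)
    (C2 : (τ₀ 0).val + 1 = m)
    (C3 : ∀ x : ZMod N, m ≤ x.val → m ≤ (τ₀ x).val ∧
        ((τ₀ x).val = x.val + 1 ∨ (τ₀ x).val = x.val ∨ (τ₀ x).val + 2 ≤ x.val)) :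
    (¬ Group.IsSolvable
      (Subgroup.closure ({Equiv.addRight (1 : ZMod N), τ₀} : Set (Perm (ZMod N))))) ∧
    ∀ k : ℕ, (Equiv.addRight (1 : ZMod N) * τ₀) ^ p ^ k ≠ 1 := by
  have hodd : Odd N := by rw [hN]; exact (hp.odd_of_ne_two (by omega)).pow
  have ha : a ≠ 0 := by rintro rfl; rw [pow_zero] at hN; omega
  have hpN : p ∣ N := by rw [hN]; exact dvd_pow_self p ha
  have hpm1 : ¬ p ∣ m - 1 := by
    intro h
    have h0 : p ∣ m - (m - 1) := Nat.dvd_sub hpm h
    have h1 : m - (m - 1) = 1 := by omega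
    rw [h1] at h0
    have := Nat.le_of_dvd one_pos h0
    omega
  apply zmod_model_good N p hp τ₀ ?_ (m - 1) ?_ (by omega) ?_ ?_
  · -- primitivity
    intro H hc hne
    classical
    by_contra h1
    have h2 : (2 : ZMod N) ∉ H := fun h => h1 (one_mem_of_two_mem N hodd H h)
    obtain ⟨⟨b, hb⟩, hb0'⟩ := (AddSubgroup.ne_bot_iff_exists_ne_zero).1 hne
    have hb0 : b ≠ 0 := fun h => hb0' (Subtype.ext h)
    have hbpos : 0 < b.val := by
      rcases Nat.eq_zero_or_pos b.val with h | h
      · exact absurd ((ZMod.val_eq_zero b).1 h) hb0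
      · exact h
    have hex : ∃ k : ℕ, 0 < k ∧ (k : ZMod N) ∈ H :=
      ⟨b.val, hbpos, by rw [ZMod.natCast_zmod_val]; exact hb⟩
    have hd_spec := Nat.find_spec hex
    have hd_min : ∀ k : ℕ, 0 < k → (k : ZMod N) ∈ H → Nat.find hex ≤ k :=
      fun k hk1 hk2 => Nat.find_min' hex ⟨hk1, hk2⟩
    set d := Nat.find hex with hd
    have hdN : d < N :=
      lt_of_le_of_lt (hd_min b.val hbpos (by rw [ZMod.natCast_zmod_val]; exact hb)) (ZMod.val_lt b)
    have hd1 : d ≠ 1 := by
      intro h
      rw [h] at hd_spec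
      exact h1 (by simpa using hd_spec.2)
    have hd2 : d ≠ 2 := by
      intro h
      rw [h] at hd_spec
      exact h2 (by simpa using hd_spec.2)
    have hd3 : 3 ≤ d := by omega
    by_cases hdm : d < m
    · have hxv : (((m - d : ℕ) : ZMod N)).val = m - d := ZMod.val_natCast_of_lt (by omega)
      have hyv : ((m : ℕ) : ZMod N).val = m := ZMod.val_natCast_of_lt hmN
      have hdiff : ((m : ℕ) : ZMod N) - ((m - d : ℕ) : ZMod N) = (d : ZMod N) := by
        rw [Nat.cast_sub (by omega)]; ring
      have h3 := hc ((m - d : ℕ) : ZMod N) ((m : ℕ) : ZMod N) (by rw [hdiff]; exact hd_spec.2)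
      have h4 := C1 ((m - d : ℕ) : ZMod N) (by omega) (by omega)
      rw [hxv] at h4
      obtain ⟨h5, h6⟩ := C3 ((m : ℕ) : ZMod N) (by omega)
      rw [hyv] at h6
      have hx' : τ₀ ((m - d : ℕ) : ZMod N) = (((m - d - 1 : ℕ)) : ZMod N) := by
        rw [← ZMod.natCast_zmod_val (τ₀ _)]
        congr 1
        omega
      rcases h6 with h6 | h6 | h6
      · have hy' : τ₀ ((m : ℕ) : ZMod N) = ((m + 1 : ℕ) : ZMod N) := by
          rw [← ZMod.natCast_zmod_val (τ₀ _), h6]
        rw [hx', hy'] at h3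
        have e : ((m + 1 : ℕ) : ZMod N) - ((m - d - 1 : ℕ) : ZMod N) = (d : ZMod N) + 2 := by
          have e1 : m - d - 1 = m - (d + 1) := by omega
          rw [e1, Nat.cast_sub (by omega)]
          push_cast
          ring
        rw [e] at h3
        apply h2
        have := H.sub_mem h3 hd_spec.2
        simpa using this
      · have hy' : τ₀ ((m : ℕ) : ZMod N) = ((m : ℕ) : ZMod N) := by
          rw [← ZMod.natCast_zmod_val (τ₀ _), h6]
        rw [hx', hy'] at h3
        have e : ((m : ℕ) : ZMod N) - ((m - d - 1 : ℕ) : ZMod N) = (d : ZMod N) + 1 := by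
          have e1 : m - d - 1 = m - (d + 1) := by omega
          rw [e1, Nat.cast_sub (by omega)]
          push_cast
          ring
        rw [e] at h3
        apply h1
        have := H.sub_mem h3 hd_spec.2
        simpa using this
      · omega
    · have hnegd : ((N - d : ℕ) : ZMod N) ∈ H := by
        rw [Nat.cast_sub (by omega), ZMod.natCast_self, zero_sub]
        exact H.neg_mem hd_spec.2
      have h2d : d ≤ N - d := hd_min _ (by omega) hnegd
      have hxv : (1 : ZMod N).val = 1 := by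
        have := ZMod.val_natCast_of_lt (n := N) (a := 1) (by omega)
        simpa using this
      have hyv : (((d + 1 : ℕ)) : ZMod N).val = d + 1 := ZMod.val_natCast_of_lt (by omega)
      have hdiff : ((d + 1 : ℕ) : ZMod N) - 1 = (d : ZMod N) := by push_cast; ring
      have h3 := hc 1 ((d + 1 : ℕ) : ZMod N) (by rw [hdiff]; exact hd_spec.2)
      have h4 := C1 1 (by omega) (by omega)
      rw [hxv] at h4
      have hτ1 : τ₀ 1 = 0 := by
        apply ZMod.val_injective N
        rw [ZMod.val_zero]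
        omega
      rw [hτ1, sub_zero] at h3
      obtain ⟨h5, h6⟩ := C3 ((d + 1 : ℕ) : ZMod N) (by omega)
      rw [hyv] at h6
      have htH : (((τ₀ ((d + 1 : ℕ) : ZMod N)).val : ℕ) : ZMod N) ∈ H := by
        rw [ZMod.natCast_zmod_val]; exact h3
      rcases h6 with h6 | h6 | h6
      · rw [h6] at htH
        apply h2
        have := H.sub_mem htH hd_spec.2
        have e : ((d + 1 + 1 : ℕ) : ZMod N) - (d : ZMod N) = 2 := by push_cast; ring
        rwa [e] at this
      · rw [h6] at htH
        apply h1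
        have := H.sub_mem htH hd_spec.2
        have e : ((d + 1 : ℕ) : ZMod N) - (d : ZMod N) = 1 := by push_cast; ring
        rwa [e] at this
      · have := hd_min _ (by omega) htH
        omega
  · -- the fixed points of the product
    have hfix : (Finset.univ.filter fun x => (Equiv.addRight (1 : ZMod N) * τ₀) x = x)
        = (Finset.Ico 1 m).image (fun k : ℕ => (k : ZMod N)) := by
      ext x
      rw [Finset.mem_filter, Finset.mem_image]
      simp only [Finset.mem_univ, true_and, Perm.mul_apply, Equiv.coe_addRight, Finset.mem_Ico]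
      constructor
      · intro h
        refine ⟨x.val, ?_, ZMod.natCast_zmod_val x⟩
        have hv : ((τ₀ x).val + 1) % N = x.val := by rw [← zval_add_one, h]
        by_cases hx0 : x.val = 0
        · have hx : x = 0 := (ZMod.val_eq_zero x).1 hx0
          rw [hx] at hv
          rw [C2, Nat.mod_eq_of_lt hmN, ZMod.val_zero] at hv
          omega
        by_cases hxm : x.val < m
        · omega
        · exfalso
          obtain ⟨h5, h6⟩ := C3 x (by omega)
          have htN := ZMod.val_lt (τ₀ x)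
          by_cases hlt : (τ₀ x).val + 1 < N
          · rw [Nat.mod_eq_of_lt hlt] at hv; omega
          · have : (τ₀ x).val + 1 = N := by omega
            rw [this, Nat.mod_self] at hv; omega
      · rintro ⟨k, ⟨hk1, hkm⟩, rfl⟩
        have hkv : ((k : ℕ) : ZMod N).val = k := ZMod.val_natCast_of_lt (by omega)
        have h1 := C1 (k : ZMod N) (by omega) (by omega)
        have h2 := zmod_eq_of_val_add N _ _ 1 h1
        simpa using h2
    rw [hfix, Finset.card_image_of_injOn, Nat.card_Ico]
    intro k hk k' hk' hkk'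
    simp only [Finset.coe_Ico, Set.mem_Ico] at hk hk'
    have h1 := ZMod.val_natCast_of_lt (n := N) (a := k) (by omega)
    have h2 := ZMod.val_natCast_of_lt (n := N) (a := k') (by omega)
    have h3 : ((k : ℕ) : ZMod N).val = ((k' : ℕ) : ZMod N).val := congrArg ZMod.val hkk'
    omega
  · intro h
    rw [hN] at h
    obtain ⟨j, -, hj⟩ := (Nat.dvd_prime_pow hp).1 h
    cases j with
    | zero => rw [pow_zero] at hj; omega
    | succ j => exact hpm1 (hj ▸ dvd_pow_self p (Nat.succ_ne_zero j))
  · intro h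
    have h1 : N ≡ 0 [MOD p] := (Nat.modEq_zero_iff_dvd).2 hpN
    exact hpm1 ((Nat.modEq_zero_iff_dvd).1 (h.symm.trans h1))

end Cfsg.Agent.H43
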