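import Mathlib
import Cfsg.Agent.H43.PE1

set_option autoImplicit false

namespace Cfsg.Agent.H43

open Equiv Equiv.Perm

/-- small model on five points -/
def m5s : Perm (Fin 5) := swap 0 2 * swap 0 1
/-- small model on five points -/
def m5t : Perm (Fin 5) := swap 2 4 * swap 2 3

theorem m5s_cycleType : m5s.cycleType = {3} :=
  isThreeCycle_swap_mul_swap_same (by decide) (by decide) (by decide)

theorem m5t_cycleType : m5t.cycleType = {3} :=
  isThreeCycle_swap_mul_swap_same (by decide) (by decide) (by decide)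

set_option maxRecDepth 100000 in
theorem m5_good : (¬ Group.IsSolvable (Subgroup.closure ({m5s, m5t} : Set (Perm (Fin 5))))) ∧
    ∀ k : ℕ, (m5s * m5t) ^ 3 ^ k ≠ 1 := by
  refine ⟨?_, ?_⟩
  · have hs : m5s ∈ Subgroup.closure ({m5s, m5t} : Set (Perm (Fin 5))) :=
      Subgroup.subset_closure (Set.mem_insert _ _)
    have ht : m5t ∈ Subgroup.closure ({m5s, m5t} : Set (Perm (Fin 5))) :=
      Subgroup.subset_closure (Set.mem_insert_of_mem _ rfl)
    refine not_solvable_of_comm_conj _ m5s⁻¹ (m5t⁻¹ * m5s * m5t⁻¹) m5t⁻¹ (inv_mem hs)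
      (mul_mem (mul_mem (inv_mem ht) hs) (inv_mem ht)) (inv_mem ht) (by decide) (by decide)
  · apply pow_ne_one_of_card_fix 3 (by norm_num)
    decide

/-- small model on six points, one 3-cycle against two -/
def m6s : Perm (Fin 6) := swap 0 2 * swap 0 1
/-- small model on six points, one 3-cycle against two -/
def m6t : Perm (Fin 6) := (swap 0 4 * swap 0 2) * (swap 1 5 * swap 1 3)

theorem m6s_cycleType : m6s.cycleType = {3} :=
  isThreeCycle_swap_mul_swap_same (by decide) (by decide) (by decide)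

theorem m6t_cycleType : m6t.cycleType = {3, 3} := by
  have h1 : (swap (0 : Fin 6) 4 * swap 0 2).cycleType = {3} :=
    isThreeCycle_swap_mul_swap_same (by decide) (by decide) (by decide)
  have h2 : (swap (1 : Fin 6) 5 * swap 1 3).cycleType = {3} :=
    isThreeCycle_swap_mul_swap_same (by decide) (by decide) (by decide)
  have hd : Perm.Disjoint (swap (0 : Fin 6) 4 * swap 0 2) (swap (1 : Fin 6) 5 * swap 1 3) := by
    intro x; revert x; decide
  unfold m6t
  rw [hd.cycleType_mul, h1, h2]
  rfl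

set_option maxRecDepth 100000 in
theorem m6c_good : (¬ Group.IsSolvable (Subgroup.closure ({m6s, m6t} : Set (Perm (Fin 6))))) ∧
    ∀ k : ℕ, (m6s * m6t) ^ 3 ^ k ≠ 1 := by
  refine ⟨?_, ?_⟩
  · have hs : m6s ∈ Subgroup.closure ({m6s, m6t} : Set (Perm (Fin 6))) :=
      Subgroup.subset_closure (Set.mem_insert _ _)
    have ht : m6t ∈ Subgroup.closure ({m6s, m6t} : Set (Perm (Fin 6))) :=
      Subgroup.subset_closure (Set.mem_insert_of_mem _ rfl)
    refine not_solvable_of_comm_conj _ m6s⁻¹ m6t (m6t⁻¹ * m6s⁻¹ * m6t) (inv_mem hs)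
      ht (mul_mem (mul_mem (inv_mem ht) (inv_mem hs)) ht) (by decide) (by decide)
  · apply pow_ne_one_of_card_fix 3 (by norm_num)
    decide

/-- small model on six points, two 3-cycles against two -/
def m6u : Perm (Fin 6) := (swap 0 2 * swap 0 1) * (swap 3 5 * swap 3 4)
/-- small model on six points, two 3-cycles against two -/
def m6v : Perm (Fin 6) := (swap 0 3 * swap 0 1) * (swap 2 4 * swap 2 5)

theorem m6u_cycleType : m6u.cycleType = {3, 3} := by
  have h1 : (swap (0 : Fin 6) 2 * swap 0 1).cycleType = {3} :=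
    isThreeCycle_swap_mul_swap_same (by decide) (by decide) (by decide)
  have h2 : (swap (3 : Fin 6) 5 * swap 3 4).cycleType = {3} :=
    isThreeCycle_swap_mul_swap_same (by decide) (by decide) (by decide)
  have hd : Perm.Disjoint (swap (0 : Fin 6) 2 * swap 0 1) (swap (3 : Fin 6) 5 * swap 3 4) := by
    intro x; revert x; decide
  unfold m6u
  rw [hd.cycleType_mul, h1, h2]
  rfl

theorem m6v_cycleType : m6v.cycleType = {3, 3} := by
  have h1 : (swap (0 : Fin 6) 3 * swap 0 1).cycleType = {3} :=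
    isThreeCycle_swap_mul_swap_same (by decide) (by decide) (by decide)
  have h2 : (swap (2 : Fin 6) 4 * swap 2 5).cycleType = {3} :=
    isThreeCycle_swap_mul_swap_same (by decide) (by decide) (by decide)
  have hd : Perm.Disjoint (swap (0 : Fin 6) 3 * swap 0 1) (swap (2 : Fin 6) 4 * swap 2 5) := by
    intro x; revert x; decide
  unfold m6v
  rw [hd.cycleType_mul, h1, h2]
  rfl

set_option maxRecDepth 100000 in
theorem m6b_good : (¬ Group.IsSolvable (Subgroup.closure ({m6u, m6v} : Set (Perm (Fin 6))))) ∧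
    ∀ k : ℕ, (m6u * m6v) ^ 3 ^ k ≠ 1 := by
  refine ⟨?_, ?_⟩
  · have hs : m6u ∈ Subgroup.closure ({m6u, m6v} : Set (Perm (Fin 6))) :=
      Subgroup.subset_closure (Set.mem_insert _ _)
    have ht : m6v ∈ Subgroup.closure ({m6u, m6v} : Set (Perm (Fin 6))) :=
      Subgroup.subset_closure (Set.mem_insert_of_mem _ rfl)
    refine not_solvable_of_comm_conj _ m6u⁻¹ (m6v⁻¹ * m6u * m6v⁻¹) m6v⁻¹ (inv_mem hs)
      (mul_mem (mul_mem (inv_mem ht) hs) (inv_mem ht)) (inv_mem ht) (by decide) (by decide)
  · apply pow_ne_one_of_card_fix 3 (by norm_num)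
    decide

end Cfsg.Agent.H43
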