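import Mathlib

set_option autoImplicit false

namespace Cfsg.Agent.H43

open Equiv Equiv.Perm

theorem multiset_sum_le_of_le {s t : Multiset ℕ} (h : s ≤ t) : s.sum ≤ t.sum := by
  obtain ⟨u, rfl⟩ := Multiset.le_iff_exists_add.1 h
  rw [Multiset.sum_add]
  exact Nat.le_add_right _ _

/-- Exact sub-sums for multisets of powers of `p`. -/
theorem exists_sub_sum (p : ℕ) (hp : 1 ≤ p) : ∀ (c : ℕ) (m : Multiset ℕ),
    (∀ x ∈ m, ∃ j, j ≤ c ∧ x = p ^ j) → ∀ k, k * p ^ c ≤ m.sum →
    ∃ μ ≤ m, μ.sum = k * p ^ c := by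
  intro c
  induction c with
  | zero =>
    intro m hm k hk
    have h1 : m = Multiset.replicate (Multiset.card m) 1 := by
      rw [Multiset.eq_replicate_card]
      intro b hb
      obtain ⟨j, hj, rfl⟩ := hm b hb
      have : j = 0 := by omega
      rw [this, pow_zero]
    have h2 : m.sum = Multiset.card m := by
      conv_lhs => rw [h1]
      rw [Multiset.sum_replicate]; simp
    rw [pow_zero, mul_one, h2] at hk
    refine ⟨Multiset.replicate k 1, ?_, ?_⟩
    · rw [h1]
      exact (Multiset.replicate_le_replicate 1).2 hk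
    · rw [Multiset.sum_replicate]; simp
  | succ c ih =>
    intro m hm k hk
    set q := p ^ (c + 1) with hq
    set m₁ := m.filter (fun x => x = q) with hm₁
    set m₀ := m.filter (fun x => ¬ x = q) with hm₀
    have hsplit : m₁ + m₀ = m := Multiset.filter_add_not _ m
    have hm₁' : m₁ = Multiset.replicate (Multiset.count q m) q := Multiset.filter_eq' m q
    set t := Multiset.count q m with ht
    have hsum₁ : m₁.sum = t * q := by
      rw [hm₁', Multiset.sum_replicate, smul_eq_mul]
    have hsum : m.sum = t * q + m₀.sum := by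
      rw [← hsplit, Multiset.sum_add, hsum₁]
    by_cases hkt : k ≤ t
    · refine ⟨Multiset.replicate k q, ?_, ?_⟩
      · refine le_trans ?_ (Multiset.filter_le (fun x => x = q) m)
        rw [← hm₁, hm₁']
        exact (Multiset.replicate_le_replicate q).2 hkt
      · rw [Multiset.sum_replicate, smul_eq_mul]
    · push Not at hkt
      have hm₀' : ∀ x ∈ m₀, ∃ j, j ≤ c ∧ x = p ^ j := by
        intro x hx
        rw [hm₀, Multiset.mem_filter] at hx
        obtain ⟨j, hj, rfl⟩ := hm x hx.1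
        refine ⟨j, ?_, rfl⟩
        by_contra hjc
        have : j = c + 1 := by omega
        rw [this] at hx
        exact hx.2 rfl
      have hk' : (k - t) * p * p ^ c ≤ m₀.sum := by
        have h1 : (k - t) * p * p ^ c = (k - t) * q := by
          rw [hq, pow_succ]; ring
        rw [h1]
        have h2 : k * q = t * q + (k - t) * q := by
          rw [← Nat.add_mul]
          congr 1
          omega
        rw [hq] at h2 hsum ⊢
        rw [h2, hsum] at hk
        omega
      obtain ⟨μ₀, hμ₀, hμ₀s⟩ := ih m₀ hm₀' ((k - t) * p) hk'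
      refine ⟨m₁ + μ₀, ?_, ?_⟩
      · rw [← hsplit]
        exact add_le_add_right hμ₀ m₁
      · rw [Multiset.sum_add, hsum₁, hμ₀s]
        have h1 : (k - t) * p * p ^ c = (k - t) * q := by
          rw [hq, pow_succ]; ring
        rw [h1, ← Nat.add_mul]
        congr 1
        omega

/-- Selecting a sub-cycle-type of total exactly fitting into `p ^ a` points. -/
theorem exists_fitting_sub (p a : ℕ) (hp : 2 ≤ p) (ha : 1 ≤ a) (m : Multiset ℕ)
    (hm : ∀ x ∈ m, ∃ j, 1 ≤ j ∧ j < a ∧ x = p ^ j) (hm0 : m ≠ 0) (n : ℕ) (hn : p ^ a ≤ n)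
    (hmn : m.sum ≤ n) :
    ∃ μ ≤ m, μ ≠ 0 ∧ μ.sum ≤ p ^ a ∧ p ^ a + m.sum ≤ n + μ.sum := by
  by_cases hle : m.sum ≤ p ^ a
  · exact ⟨m, le_rfl, hm0, hle, by omega⟩
  · push Not at hle
    obtain ⟨c, rfl⟩ : ∃ c, a = c + 1 := ⟨a - 1, by omega⟩
    have h1 : ∀ x ∈ m, ∃ j, j ≤ c ∧ x = p ^ j := by
      intro x hx
      obtain ⟨j, -, hj, rfl⟩ := hm x hx
      exact ⟨j, by omega, rfl⟩
    have h2 : p * p ^ c ≤ m.sum := by
      rw [← pow_succ']; exact hle.le
    obtain ⟨μ, hμ, hμs⟩ := exists_sub_sum p (by omega) c m h1 p h2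
    have h3 : μ.sum = p ^ (c + 1) := by rw [hμs, pow_succ']
    refine ⟨μ, hμ, ?_, by omega, by omega⟩
    rintro rfl
    rw [Multiset.sum_zero] at h3
    have : 0 < p ^ (c + 1) := Nat.pow_pos (by omega)
    omega

/-- An odd permutation commuting with `w` exists unless the cycle type is very restricted. -/
theorem exists_odd_commute {α : Type*} [Fintype α] [DecidableEq α] (w : Perm α)
    (h : ¬ ((∀ c ∈ w.cycleType, Odd c) ∧ Fintype.card α ≤ w.cycleType.sum + 1 ∧
      ∀ i, w.cycleType.count i ≤ 1)) :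
    ∃ c : Perm α, c ∉ alternatingGroup α ∧ c * w = w * c := by
  rw [← centralizer_le_alternating_iff, SetLike.not_le_iff_exists] at h
  obtain ⟨c, hc, hc'⟩ := h
  rw [Subgroup.mem_centralizer_iff] at hc
  exact ⟨c, hc', (hc w (Set.mem_singleton w)).symm⟩

/-- Parity in Case II: a permutation all of whose cycles are proper `p`-power divisors of
`p ^ a`, on at least `p ^ a` points, commutes with an odd permutation. -/
theorem caseII_parity {α : Type*} [Fintype α] [DecidableEq α] (p a : ℕ) (hp : p.Prime)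
    (ha : 1 ≤ a) (w : Perm α)
    (hw : ∀ c ∈ w.cycleType, ∃ j, 1 ≤ j ∧ j < a ∧ c = p ^ j)
    (hcard : p ^ a ≤ Fintype.card α) :
    ∃ c : Perm α, c ∉ alternatingGroup α ∧ c * w = w * c := by
  apply exists_odd_commute
  rintro ⟨-, h1, h2⟩
  have hnd : w.cycleType.Nodup := Multiset.nodup_iff_count_le_one.2 h2
  have hsub : w.cycleType ≤ ((Finset.Ico 1 a).image (fun j => p ^ j)).val := by
    rw [Multiset.le_iff_subset hnd]
    intro c hc
    obtain ⟨j, hj1, hj2, rfl⟩ := hw c hc
    rw [Finset.mem_val, Finset.mem_image]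
    exact ⟨j, Finset.mem_Ico.2 ⟨hj1, hj2⟩, rfl⟩
  have hsum1 := multiset_sum_le_of_le hsub
  have hsum2 : ((Finset.Ico 1 a).image (fun j => p ^ j)).val.sum = ∑ j ∈ Finset.Ico 1 a, p ^ j := by
    have h0 : ((Finset.Ico 1 a).image (fun j => p ^ j)).val.sum
        = ∑ x ∈ (Finset.Ico 1 a).image (fun j => p ^ j), x := by
      rw [Finset.sum_eq_multiset_sum, Multiset.map_id']
    rw [h0, Finset.sum_image]
    · intro x _ y _ hxy
      exact Nat.pow_right_injective hp.two_le hxy
  have hsum3 : ∑ j ∈ Finset.Ico 1 a, p ^ j < p ^ a :=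
    Nat.geomSum_lt hp.two_le (fun k hk => (Finset.mem_Ico.1 hk).2)
  have hdvd1 : p ∣ w.cycleType.sum := by
    apply Multiset.dvd_sum
    intro c hc
    obtain ⟨j, hj1, -, rfl⟩ := hw c hc
    exact dvd_pow_self p (by omega)
  have hdvd2 : p ∣ p ^ a := dvd_pow_self p (by omega)
  have heq : w.cycleType.sum + 1 = p ^ a := by omega
  have : p ∣ 1 := by
    have h3 : p ∣ w.cycleType.sum + 1 := heq ▸ hdvd2
    exact (Nat.dvd_add_right hdvd1).1 h3
  have := Nat.le_of_dvd one_pos this
  have := hp.two_le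
  omega

end Cfsg.Agent.H43
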