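import Mathlib
import Cfsg.Agent.H43.PE1
import Cfsg.Agent.H43.PE2
import Cfsg.Agent.H43.PE5
import Cfsg.Agent.H43.PE6
import Cfsg.Agent.H43.PE7
import Cfsg.Agent.H43.PE8

set_option autoImplicit false

namespace Cfsg.Agent.H43

open Equiv Equiv.Perm

/-- Cycle lengths of a `p`-element are positive powers of `p`. -/
theorem cycleType_ppow {α : Type*} [Fintype α] [DecidableEq α] (p : ℕ) (hp : p.Prime)
    (u : Perm α) (hu : ∃ k : ℕ, orderOf u = p ^ k) :
    ∀ c ∈ u.cycleType, ∃ j, 1 ≤ j ∧ c = p ^ j := by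
  obtain ⟨k, hk⟩ := hu
  intro c hc
  have h1 := dvd_of_mem_cycleType hc
  rw [hk] at h1
  obtain ⟨j, -, rfl⟩ := (Nat.dvd_prime_pow hp).1 h1
  refine ⟨j, ?_, rfl⟩
  have h2 := two_le_of_mem_cycleType hc
  by_contra hj
  have : j = 0 := by omega
  rw [this, pow_zero] at h2
  omega

theorem exists_max_mem (m : Multiset ℕ) (hm : m ≠ 0) : ∃ N ∈ m, ∀ c ∈ m, c ≤ N := by
  obtain ⟨x, hx⟩ := Multiset.exists_mem_of_ne_zero hm
  obtain ⟨N, hN, hmax⟩ := Finset.exists_max_image m.toFinset id ⟨x, Multiset.mem_toFinset.2 hx⟩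
  exact ⟨N, Multiset.mem_toFinset.1 hN, fun c hc => hmax c (Multiset.mem_toFinset.2 hc)⟩

theorem pgoodEx_caseI {α : Type*} [Fintype α] [DecidableEq α] (p : ℕ) (hp : p.Prime)
    (hp3 : 3 ≤ p) (u w : Perm α) (N : ℕ) (hN5 : 5 ≤ N) (hodd : Odd N) (hpN : p ∣ N)
    (hNu : N ∈ u.cycleType) (hNw : N ∈ w.cycleType) : PGoodEx p u w := by
  haveI : NeZero N := ⟨by omega⟩
  set σ : Perm (ZMod N) := Equiv.addRight 1 with hσ
  have hct : σ.cycleType = {N} := cycleType_addRight_one N (by omega)
  have hsupp : σ.support.card = N := by rw [← sum_cycleType, hct]; simp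
  have hcard : Fintype.card (ZMod N) = N := ZMod.card N
  obtain ⟨e, h, hue, hhe⟩ := exists_pair_realize u w σ σ
    (by rw [hct]; exact Multiset.singleton_le.2 hNu)
    (by rw [hcard, hsupp]; have := Finset.card_le_univ u.support; omega)
    (by rw [hct]; exact Multiset.singleton_le.2 hNw)
    (by rw [hcard, hsupp]; have := Finset.card_le_univ w.support; omega)
  obtain ⟨ρ, hρs, hns, hfix⟩ := caseI_models N p hN5 hodd hp hp3 hpN (sign h)
  obtain ⟨h1, h2⟩ := realize_conj w e σ ρ h hhe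
  refine ⟨viaEmbedding ρ e * h, ?_, ?_⟩
  · rw [mem_alternatingGroup, h2, hρs]
    exact Int.units_mul_self _
  · exact pgood_of_model p e u _ σ (ρ * σ * ρ⁻¹) hue h1 hns hfix

theorem pgoodEx_caseII {α : Type*} [Fintype α] [DecidableEq α] (p : ℕ) (hp : p.Prime)
    (hp3 : 3 ≤ p) (u w : Perm α) (hw1 : w ≠ 1) (a : ℕ) (ha : 1 ≤ a)
    (hNu : p ^ a ∈ u.cycleType)
    (hw : ∀ c ∈ w.cycleType, ∃ j, 1 ≤ j ∧ j < a ∧ c = p ^ j) : PGoodEx p u w := by
  obtain ⟨N, hN⟩ : ∃ N, N = p ^ a := ⟨_, rfl⟩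
  rw [← hN] at hNu
  have hNpos : 0 < N := by rw [hN]; exact Nat.pow_pos hp.pos
  haveI : NeZero N := ⟨by omega⟩
  have hNcard : N ≤ Fintype.card α := by
    have h1 : N ≤ u.cycleType.sum := Multiset.le_sum_of_mem hNu
    exact h1.trans (sum_cycleType_le u)
  obtain ⟨μ', hμ'le, hμ'0, hμ'N, hμ'n⟩ := exists_fitting_sub p a hp.two_le ha w.cycleType hw
    (by rwa [Ne, cycleType_eq_zero]) (Fintype.card α) (by rw [← hN]; exact hNcard)
    (sum_cycleType_le w)
  rw [← hN] at hμ'N hμ'n
  obtain ⟨m, hm⟩ := Multiset.exists_mem_of_ne_zero hμ'0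
  obtain ⟨μ'', rfl⟩ := Multiset.exists_cons_of_mem hm
  obtain ⟨j, hj1, hj2, hmj⟩ := hw m (Multiset.mem_of_le hμ'le hm)
  have hm3 : 3 ≤ m := by
    rw [hmj]
    calc 3 ≤ p := hp3
      _ = p ^ 1 := (pow_one p).symm
      _ ≤ p ^ j := Nat.pow_le_pow_right hp.pos hj1
  have hmN : m < N := by
    rw [hmj, hN]; exact Nat.pow_lt_pow_right hp.one_lt hj2
  have hpm : p ∣ m := by
    rw [hmj]; exact dvd_pow_self p (by omega)
  have hμ''3 : ∀ k ∈ μ'', 3 ≤ k := by
    intro k hk
    obtain ⟨j', hj'1, -, rfl⟩ := hw k (Multiset.mem_of_le hμ'le (Multiset.mem_cons_of_mem hk))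
    calc 3 ≤ p := hp3
      _ = p ^ 1 := (pow_one p).symm
      _ ≤ p ^ j' := Nat.pow_le_pow_right hp.pos hj'1
  rw [Multiset.sum_cons] at hμ'N hμ'n
  obtain ⟨τ₀, hτct, C1, C2, C3⟩ := exists_mc_perm N m hm3 μ'' hμ''3 hμ'N
  obtain ⟨hns, hfix⟩ := mc_good N p a m hp hp3 hN hm3 hmN hpm τ₀ C1 C2 C3
  set σ : Perm (ZMod N) := Equiv.addRight 1 with hσ
  have hct : σ.cycleType = {N} := cycleType_addRight_one N (by omega)
  have hsupp : σ.support.card = N := by rw [← sum_cycleType, hct]; simp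
  have hcard : Fintype.card (ZMod N) = N := ZMod.card N
  have hτsupp : τ₀.support.card = m + μ''.sum := by
    rw [← sum_cycleType, hτct, Multiset.sum_cons]
  obtain ⟨e, h, hue, hhe⟩ := exists_pair_realize u w σ τ₀
    (by rw [hct]; exact Multiset.singleton_le.2 hNu)
    (by rw [hcard, hsupp]; have := Finset.card_le_univ u.support; omega)
    (by rw [hτct]; exact hμ'le)
    (by rw [hcard, hτsupp, ← sum_cycleType]; omega)
  have hgood := pgood_of_model p e u (h * w * h⁻¹) σ τ₀ hue hhe hns hfix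
  obtain ⟨c, hc, hcw⟩ := caseII_parity p a hp ha w hw (by rw [← hN]; exact hNcard)
  exact pgoodEx_of_cent_right h hgood c hc hcw

theorem pgoodEx_caseIII_aux {α : Type*} [Fintype α] [DecidableEq α]
    (hα : 5 ≤ Fintype.card α) (u w : Perm α) (r s : ℕ)
    (hu : u.cycleType = Multiset.replicate r 3) (hw : w.cycleType = Multiset.replicate s 3)
    (hr : 1 ≤ r) (hs : 1 ≤ s) (hrs : r = 1 ∨ 2 ≤ s) : PGoodEx 3 u w := by
  have hpar : ∃ c : Perm α, c ∉ alternatingGroup α ∧ c * u = u * c := by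
    apply exists_odd_commute
    rintro ⟨-, h1, h2⟩
    have h3 := h2 3
    rw [hu, Multiset.count_replicate_self] at h3
    have hr1 : r = 1 := by omega
    rw [hu, hr1] at h1
    simp at h1
    omega
  obtain ⟨c, hc, hcu⟩ := hpar
  have hsu : u.support.card = 3 * r := by
    rw [← sum_cycleType, hu, Multiset.sum_replicate, smul_eq_mul, mul_comm]
  have hsw : w.support.card = 3 * s := by
    rw [← sum_cycleType, hw, Multiset.sum_replicate, smul_eq_mul, mul_comm]
  have hcu' := Finset.card_le_univ u.support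
  have hcw' := Finset.card_le_univ w.support
  have h33 : ({3, 3} : Multiset ℕ) = Multiset.replicate 2 3 := rfl
  have h3 : ({3} : Multiset ℕ) = Multiset.replicate 1 3 := rfl
  have e5s : m5s.support.card = 3 := by rw [← sum_cycleType, m5s_cycleType]; rfl
  have e5t : m5t.support.card = 3 := by rw [← sum_cycleType, m5t_cycleType]; rfl
  have e6s : m6s.support.card = 3 := by rw [← sum_cycleType, m6s_cycleType]; rfl
  have e6t : m6t.support.card = 6 := by rw [← sum_cycleType, m6t_cycleType]; rfl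
  have e6u : m6u.support.card = 6 := by rw [← sum_cycleType, m6u_cycleType]; rfl
  have e6v : m6v.support.card = 6 := by rw [← sum_cycleType, m6v_cycleType]; rfl
  by_cases hr1 : r = 1
  · by_cases hs1 : s = 1
    · obtain ⟨e, h, hue, hhe⟩ := exists_pair_realize u w m5s m5t
        (by rw [m5s_cycleType, hu, h3]; exact (Multiset.replicate_le_replicate 3).2 (by omega))
        (by rw [e5s, hsu, Fintype.card_fin]; omega)
        (by rw [m5t_cycleType, hw, h3]; exact (Multiset.replicate_le_replicate 3).2 (by omega))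
        (by rw [e5t, hsw, Fintype.card_fin]; omega)
      exact pgoodEx_of_cent_left h
        (pgood_of_model 3 e u _ m5s m5t hue hhe m5_good.1 m5_good.2) c hc hcu
    · obtain ⟨e, h, hue, hhe⟩ := exists_pair_realize u w m6s m6t
        (by rw [m6s_cycleType, hu, h3]; exact (Multiset.replicate_le_replicate 3).2 (by omega))
        (by rw [e6s, hsu, Fintype.card_fin]; omega)
        (by rw [m6t_cycleType, hw, h33]; exact (Multiset.replicate_le_replicate 3).2 (by omega))
        (by rw [e6t, hsw, Fintype.card_fin]; omega)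
      exact pgoodEx_of_cent_left h
        (pgood_of_model 3 e u _ m6s m6t hue hhe m6c_good.1 m6c_good.2) c hc hcu
  · obtain ⟨e, h, hue, hhe⟩ := exists_pair_realize u w m6u m6v
      (by rw [m6u_cycleType, hu, h33]; exact (Multiset.replicate_le_replicate 3).2 (by omega))
      (by rw [e6u, hsu, Fintype.card_fin]; omega)
      (by rw [m6v_cycleType, hw, h33]; exact (Multiset.replicate_le_replicate 3).2 (by omega))
      (by rw [e6v, hsw, Fintype.card_fin]; omega)
    exact pgoodEx_of_cent_left h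
      (pgood_of_model 3 e u _ m6u m6v hue hhe m6b_good.1 m6b_good.2) c hc hcu

theorem pgoodEx_of_le {α : Type*} [Fintype α] [DecidableEq α] (hα : 5 ≤ Fintype.card α)
    (p : ℕ) (hp : p.Prime) (hp3 : 3 ≤ p) (u w : Perm α) (hu : u ≠ 1) (hw : w ≠ 1)
    (hu' : ∃ k : ℕ, orderOf u = p ^ k) (hw' : ∃ k : ℕ, orderOf w = p ^ k)
    (N M : ℕ) (hN : N ∈ u.cycleType) (hNmax : ∀ c ∈ u.cycleType, c ≤ N)
    (hM : M ∈ w.cycleType) (hMmax : ∀ c ∈ w.cycleType, c ≤ M) (hMN : M ≤ N) :
    PGoodEx p u w := by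
  have hup := cycleType_ppow p hp u hu'
  have hwp := cycleType_ppow p hp w hw'
  obtain ⟨a, ha1, rfl⟩ := hup N hN
  obtain ⟨b, hb1, rfl⟩ := hwp M hM
  have hba : b ≤ a := (Nat.pow_le_pow_iff_right hp.one_lt).1 hMN
  rcases Nat.lt_or_ge b a with hlt | hge
  · apply pgoodEx_caseII p hp hp3 u w hw a ha1 hN
    intro c hc
    obtain ⟨j, hj1, rfl⟩ := hwp c hc
    have h1 := hMmax _ hc
    have hjb : j ≤ b := (Nat.pow_le_pow_iff_right hp.one_lt).1 h1
    exact ⟨j, hj1, by omega, rfl⟩
  · have hab : a = b := by omega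
    subst hab
    by_cases h5 : 5 ≤ p ^ a
    · exact pgoodEx_caseI p hp hp3 u w (p ^ a) h5 ((hp.odd_of_ne_two (by omega)).pow)
        (dvd_pow_self p (by omega)) hN hM
    · push Not at h5
      have hpa : p ≤ p ^ a := by
        calc p = p ^ 1 := (pow_one p).symm
          _ ≤ p ^ a := Nat.pow_le_pow_right hp.pos ha1
      have hp_eq : p = 3 := by
        have h4 : p ≤ 4 := by omega
        interval_cases p
        · rfl
        · exact absurd hp (by norm_num)
      subst hp_eq
      have ha_eq : a = 1 := by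
        by_contra hne
        have h2 : 2 ≤ a := by omega
        have h9 : 3 ^ 2 ≤ 3 ^ a := Nat.pow_le_pow_right (by norm_num) h2
        omega
      subst ha_eq
      have hu3 : u.cycleType = Multiset.replicate (Multiset.card u.cycleType) 3 := by
        rw [Multiset.eq_replicate_card]
        intro c hc
        obtain ⟨j, hj1, rfl⟩ := hup c hc
        have h1 := hNmax _ hc
        have hj : j ≤ 1 := (Nat.pow_le_pow_iff_right (by norm_num)).1 h1
        have hj' : j = 1 := by omega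
        rw [hj']; norm_num
      have hw3 : w.cycleType = Multiset.replicate (Multiset.card w.cycleType) 3 := by
        rw [Multiset.eq_replicate_card]
        intro c hc
        obtain ⟨j, hj1, rfl⟩ := hwp c hc
        have h1 := hMmax _ hc
        have hj : j ≤ 1 := (Nat.pow_le_pow_iff_right (by norm_num)).1 h1
        have hj' : j = 1 := by omega
        rw [hj']; norm_num
      have hr : 1 ≤ Multiset.card u.cycleType := by
        rw [Nat.one_le_iff_ne_zero, Ne, Multiset.card_eq_zero, cycleType_eq_zero]; exact hu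
      have hs : 1 ≤ Multiset.card w.cycleType := by
        rw [Nat.one_le_iff_ne_zero, Ne, Multiset.card_eq_zero, cycleType_eq_zero]; exact hw
      by_cases hcase : Multiset.card u.cycleType = 1 ∨ 2 ≤ Multiset.card w.cycleType
      · exact pgoodEx_caseIII_aux hα u w _ _ hu3 hw3 hr hs hcase
      · push Not at hcase
        exact (pgoodEx_caseIII_aux hα w u _ _ hw3 hu3 hs hr (Or.inl (by omega))).symm

/-- Main theorem in the symmetric group: for nontrivial `p`-elements `u`, `w` (`p` odd) on at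
least five points there is an even conjugator `h` such that `u * (h w h⁻¹)` is not a
`p`-element and `⟨u, h w h⁻¹⟩` is not solvable. -/
theorem pgoodEx_main {α : Type*} [Fintype α] [DecidableEq α] (hα : 5 ≤ Fintype.card α)
    (p : ℕ) (hp : p.Prime) (hp3 : 3 ≤ p) (u w : Perm α) (hu : u ≠ 1) (hw : w ≠ 1)
    (hu' : ∃ k : ℕ, orderOf u = p ^ k) (hw' : ∃ k : ℕ, orderOf w = p ^ k) :
    PGoodEx p u w := by
  obtain ⟨N, hN, hNmax⟩ := exists_max_mem u.cycleType (by rwa [Ne, cycleType_eq_zero])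
  obtain ⟨M, hM, hMmax⟩ := exists_max_mem w.cycleType (by rwa [Ne, cycleType_eq_zero])
  rcases le_total M N with h | h
  · exact pgoodEx_of_le hα p hp hp3 u w hu hw hu' hw' N M hN hNmax hM hMmax h
  · exact (pgoodEx_of_le hα p hp hp3 w u hw hu hw' hu' M N hM hMmax hN hNmax h).symm

end Cfsg.Agent.H43
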