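import Mathlib

set_option autoImplicit false

namespace Cfsg.Agent.H43

open Matrix

section perm

variable {F : Type*} [Field F] {n : ℕ}

/-- The permutation matrix sending the `j`-th basis vector to the `σ j`-th one. -/
def pMat (F : Type*) [Field F] {n : ℕ} (σ : Equiv.Perm (Fin n)) : Matrix (Fin n) (Fin n) F :=
  Matrix.of fun i j => if i = σ j then 1 else 0

theorem pMat_apply (σ : Equiv.Perm (Fin n)) (i j : Fin n) :
    pMat F σ i j = if i = σ j then 1 else 0 := rfl

theorem pMat_one : pMat F (1 : Equiv.Perm (Fin n)) = 1 := by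
  ext i j
  rw [pMat_apply, Matrix.one_apply]
  by_cases h : i = j
  · rw [if_pos h, if_pos]; simpa using h
  · rw [if_neg h, if_neg]; simpa using h

theorem pMat_mul (σ τ : Equiv.Perm (Fin n)) : pMat F (σ * τ) = pMat F σ * pMat F τ := by
  ext i j
  rw [Matrix.mul_apply, Finset.sum_eq_single (τ j)]
  · rw [pMat_apply, pMat_apply, pMat_apply, if_pos rfl, mul_one]
    rfl
  · intro k _ hk
    rw [pMat_apply τ, if_neg hk, mul_zero]
  · intro h
    exact absurd (Finset.mem_univ _) h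

theorem pMat_transpose (σ : Equiv.Perm (Fin n)) : (pMat F σ)ᵀ = pMat F σ⁻¹ := by
  ext i j
  simp only [Matrix.transpose_apply, pMat_apply]
  by_cases h : j = σ i
  · rw [if_pos h, if_pos]
    rw [h]; simp
  · rw [if_neg h, if_neg]
    intro h'
    apply h
    rw [h']; simp

theorem pMat_transpose_mul (σ : Equiv.Perm (Fin n)) : (pMat F σ)ᵀ * pMat F σ = 1 := by
  rw [pMat_transpose, ← pMat_mul, inv_mul_cancel, pMat_one]

theorem pMat_mul_diagonal (σ : Equiv.Perm (Fin n)) (s : Fin n → F) :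
    pMat F σ * Matrix.diagonal s = Matrix.diagonal (fun i => s (σ⁻¹ i)) * pMat F σ := by
  ext i j
  rw [Matrix.mul_diagonal, Matrix.diagonal_mul, pMat_apply]
  by_cases h : i = σ j
  · rw [if_pos h, h]; simp
  · rw [if_neg h]; simp

theorem diagonal_mul_pMat_eq_one (σ : Equiv.Perm (Fin n)) (s : Fin n → F)
    (h : Matrix.diagonal s * pMat F σ = 1) : σ = 1 := by
  ext j
  have h1 := congrFun (congrFun h j) j
  rw [Matrix.diagonal_mul, pMat_apply, Matrix.one_apply_eq] at h1
  by_contra hne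
  rw [if_neg (fun h' => hne (by rw [Equiv.Perm.coe_one, id, ← h']))] at h1
  simp at h1

/-- The permutation matrix `diag(P_σ, P_σ)` as an element of the symplectic group. -/
def spPerm (F : Type*) [Field F] (n : ℕ) :
    Equiv.Perm (Fin n) →* Matrix.symplecticGroup (Fin n) F where
  toFun σ := ⟨Matrix.fromBlocks (pMat F σ) 0 0 (pMat F σ), by
    rw [SymplecticGroup.fromBlocks_mem_iff]
    refine ⟨by simp, by simp, ?_⟩
    rw [pMat_transpose_mul]
    simp⟩
  map_one' := by
    apply Subtype.ext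
    change Matrix.fromBlocks _ 0 0 _ = (1 : Matrix (Fin n ⊕ Fin n) (Fin n ⊕ Fin n) F)
    rw [pMat_one, Matrix.fromBlocks_one]
  map_mul' σ τ := by
    apply Subtype.ext
    change Matrix.fromBlocks _ 0 0 _ = Matrix.fromBlocks _ 0 0 _ * Matrix.fromBlocks _ 0 0 _
    rw [Matrix.fromBlocks_multiply, pMat_mul]
    simp

theorem spPerm_coe (σ : Equiv.Perm (Fin n)) :
    ((spPerm F n σ : Matrix.symplecticGroup (Fin n) F) : Matrix (Fin n ⊕ Fin n) (Fin n ⊕ Fin n) F) =
      Matrix.fromBlocks (pMat F σ) 0 0 (pMat F σ) := rfl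

end perm

section blockdiag

variable {F : Type*} [Field F] {n : ℕ}

/-- The four entries of a `2 × 2` symplectic matrix. -/
def e11 (g : Matrix.symplecticGroup (Fin 1) F) : F :=
  (g : Matrix (Fin 1 ⊕ Fin 1) (Fin 1 ⊕ Fin 1) F) (Sum.inl 0) (Sum.inl 0)

def e12 (g : Matrix.symplecticGroup (Fin 1) F) : F :=
  (g : Matrix (Fin 1 ⊕ Fin 1) (Fin 1 ⊕ Fin 1) F) (Sum.inl 0) (Sum.inr 0)

def e21 (g : Matrix.symplecticGroup (Fin 1) F) : F :=
  (g : Matrix (Fin 1 ⊕ Fin 1) (Fin 1 ⊕ Fin 1) F) (Sum.inr 0) (Sum.inl 0)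

def e22 (g : Matrix.symplecticGroup (Fin 1) F) : F :=
  (g : Matrix (Fin 1 ⊕ Fin 1) (Fin 1 ⊕ Fin 1) F) (Sum.inr 0) (Sum.inr 0)

theorem sp2_det (g : Matrix.symplecticGroup (Fin 1) F) : e11 g * e22 g - e21 g * e12 g = 1 := by
  have hmem := g.2
  rw [← Matrix.fromBlocks_toBlocks (g : Matrix (Fin 1 ⊕ Fin 1) (Fin 1 ⊕ Fin 1) F),
    SymplecticGroup.fromBlocks_mem_iff] at hmem
  have h := congrFun (congrFun hmem.2.2 0) 0
  simpa [Matrix.mul_apply, Matrix.toBlocks₁₁, Matrix.toBlocks₁₂, Matrix.toBlocks₂₁,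
    Matrix.toBlocks₂₂, e11, e12, e21, e22] using h

theorem sp2_ext (g h : Matrix.symplecticGroup (Fin 1) F) (h11 : e11 g = e11 h)
    (h12 : e12 g = e12 h) (h21 : e21 g = e21 h) (h22 : e22 g = e22 h) : g = h := by
  apply Subtype.ext
  ext i j
  rcases i with i | i <;> rcases j with j | j <;>
    · rw [Fin.fin_one_eq_zero i, Fin.fin_one_eq_zero j]
      first | exact h11 | exact h12 | exact h21 | exact h22

theorem e11_mul (g h : Matrix.symplecticGroup (Fin 1) F) :
    e11 (g * h) = e11 g * e11 h + e12 g * e21 h := by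
  change ((g : Matrix (Fin 1 ⊕ Fin 1) (Fin 1 ⊕ Fin 1) F) *
    (h : Matrix (Fin 1 ⊕ Fin 1) (Fin 1 ⊕ Fin 1) F) : Matrix (Fin 1 ⊕ Fin 1) (Fin 1 ⊕ Fin 1) F)
    (Sum.inl 0) (Sum.inl 0) = _
  simp [Matrix.mul_apply, e11, e12, e21]

theorem e12_mul (g h : Matrix.symplecticGroup (Fin 1) F) :
    e12 (g * h) = e11 g * e12 h + e12 g * e22 h := by
  change ((g : Matrix (Fin 1 ⊕ Fin 1) (Fin 1 ⊕ Fin 1) F) *
    (h : Matrix (Fin 1 ⊕ Fin 1) (Fin 1 ⊕ Fin 1) F) : Matrix (Fin 1 ⊕ Fin 1) (Fin 1 ⊕ Fin 1) F)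
    (Sum.inl 0) (Sum.inr 0) = _
  simp [Matrix.mul_apply, e11, e12, e22]

theorem e21_mul (g h : Matrix.symplecticGroup (Fin 1) F) :
    e21 (g * h) = e21 g * e11 h + e22 g * e21 h := by
  change ((g : Matrix (Fin 1 ⊕ Fin 1) (Fin 1 ⊕ Fin 1) F) *
    (h : Matrix (Fin 1 ⊕ Fin 1) (Fin 1 ⊕ Fin 1) F) : Matrix (Fin 1 ⊕ Fin 1) (Fin 1 ⊕ Fin 1) F)
    (Sum.inr 0) (Sum.inl 0) = _
  simp [Matrix.mul_apply, e11, e21, e22]

theorem e22_mul (g h : Matrix.symplecticGroup (Fin 1) F) :
    e22 (g * h) = e21 g * e12 h + e22 g * e22 h := by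
  change ((g : Matrix (Fin 1 ⊕ Fin 1) (Fin 1 ⊕ Fin 1) F) *
    (h : Matrix (Fin 1 ⊕ Fin 1) (Fin 1 ⊕ Fin 1) F) : Matrix (Fin 1 ⊕ Fin 1) (Fin 1 ⊕ Fin 1) F)
    (Sum.inr 0) (Sum.inr 0) = _
  simp [Matrix.mul_apply, e12, e21, e22]

theorem e11_one : e11 (1 : Matrix.symplecticGroup (Fin 1) F) = 1 := by
  change (1 : Matrix (Fin 1 ⊕ Fin 1) (Fin 1 ⊕ Fin 1) F) _ _ = _
  simp

theorem e12_one : e12 (1 : Matrix.symplecticGroup (Fin 1) F) = 0 := by
  change (1 : Matrix (Fin 1 ⊕ Fin 1) (Fin 1 ⊕ Fin 1) F) _ _ = _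
  simp

theorem e21_one : e21 (1 : Matrix.symplecticGroup (Fin 1) F) = 0 := by
  change (1 : Matrix (Fin 1 ⊕ Fin 1) (Fin 1 ⊕ Fin 1) F) _ _ = _
  simp

theorem e22_one : e22 (1 : Matrix.symplecticGroup (Fin 1) F) = 1 := by
  change (1 : Matrix (Fin 1 ⊕ Fin 1) (Fin 1 ⊕ Fin 1) F) _ _ = _
  simp

/-- The block-diagonal embedding of `(Sp₂)ⁿ` into `Sp_{2n}`. -/
def spBlock (F : Type*) [Field F] (n : ℕ) :
    (Fin n → Matrix.symplecticGroup (Fin 1) F) →* Matrix.symplecticGroup (Fin n) F where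
  toFun g := ⟨Matrix.fromBlocks (Matrix.diagonal fun i => e11 (g i))
      (Matrix.diagonal fun i => e12 (g i)) (Matrix.diagonal fun i => e21 (g i))
      (Matrix.diagonal fun i => e22 (g i)), by
    rw [SymplecticGroup.fromBlocks_mem_iff]
    simp only [Matrix.diagonal_transpose, Matrix.diagonal_mul_diagonal]
    refine ⟨?_, ?_, ?_⟩
    · congr 1; funext i; exact mul_comm _ _
    · congr 1; funext i; exact mul_comm _ _
    · rw [Matrix.diagonal_sub, ← Matrix.diagonal_one]
      congr 1; funext i; exact sp2_det (g i)⟩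
  map_one' := by
    apply Subtype.ext
    change Matrix.fromBlocks _ _ _ _ = (1 : Matrix (Fin n ⊕ Fin n) (Fin n ⊕ Fin n) F)
    simp only [Pi.one_apply, e11_one, e12_one, e21_one, e22_one]
    rw [Matrix.diagonal_one, Matrix.diagonal_zero, Matrix.fromBlocks_one]
  map_mul' g h := by
    apply Subtype.ext
    change Matrix.fromBlocks _ _ _ _ = Matrix.fromBlocks _ _ _ _ * Matrix.fromBlocks _ _ _ _
    rw [Matrix.fromBlocks_multiply]
    simp only [Matrix.diagonal_mul_diagonal, Matrix.diagonal_add, Pi.mul_apply, e11_mul, e12_mul,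
      e21_mul, e22_mul]

theorem spBlock_coe (g : Fin n → Matrix.symplecticGroup (Fin 1) F) :
    ((spBlock F n g : Matrix.symplecticGroup (Fin n) F) :
        Matrix (Fin n ⊕ Fin n) (Fin n ⊕ Fin n) F) =
      Matrix.fromBlocks (Matrix.diagonal fun i => e11 (g i))
      (Matrix.diagonal fun i => e12 (g i)) (Matrix.diagonal fun i => e21 (g i))
      (Matrix.diagonal fun i => e22 (g i)) := rfl

/-- The permutation action on `(Sp₂)ⁿ`. -/
def spAut (F : Type*) [Field F] (n : ℕ) :
    Equiv.Perm (Fin n) →* MulAut (Fin n → Matrix.symplecticGroup (Fin 1) F) where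
  toFun σ :=
    { toFun := fun g i => g (σ⁻¹ i)
      invFun := fun g i => g (σ i)
      left_inv := by intro g; funext i; simp
      right_inv := by intro g; funext i; simp
      map_mul' := by intro g h; rfl }
  map_one' := by
    ext g i
    simp
  map_mul' σ τ := by
    ext g i
    simp [_root_.mul_inv_rev]

theorem spAut_apply (σ : Equiv.Perm (Fin n)) (g : Fin n → Matrix.symplecticGroup (Fin 1) F)
    (i : Fin n) : spAut F n σ g i = g (σ⁻¹ i) := rfl

theorem spPerm_mul_spBlock (σ : Equiv.Perm (Fin n))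
    (g : Fin n → Matrix.symplecticGroup (Fin 1) F) :
    spPerm F n σ * spBlock F n g = spBlock F n (spAut F n σ g) * spPerm F n σ := by
  apply Subtype.ext
  change Matrix.fromBlocks _ _ _ _ * Matrix.fromBlocks _ _ _ _ =
    Matrix.fromBlocks _ _ _ _ * Matrix.fromBlocks _ _ _ _
  rw [Matrix.fromBlocks_multiply, Matrix.fromBlocks_multiply]
  simp only [pMat_mul_diagonal, Matrix.zero_mul, Matrix.mul_zero, add_zero, zero_add, spAut_apply]

/-- The wreath product `Sp₂ ≀ Sₙ` inside `Sp_{2n}`. -/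
def spWreath (F : Type*) [Field F] (n : ℕ) :
    (Fin n → Matrix.symplecticGroup (Fin 1) F) ⋊[spAut F n] Equiv.Perm (Fin n) →*
      Matrix.symplecticGroup (Fin n) F :=
  SemidirectProduct.lift (spBlock F n) (spPerm F n) (by
    intro σ
    ext g : 1
    change spBlock F n (spAut F n σ g) = spPerm F n σ * spBlock F n g * (spPerm F n σ)⁻¹
    rw [spPerm_mul_spBlock, mul_inv_cancel_right])

theorem spWreath_apply (k : (Fin n → Matrix.symplecticGroup (Fin 1) F) ⋊[spAut F n]
    Equiv.Perm (Fin n)) : spWreath F n k = spBlock F n k.left * spPerm F n k.right := by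
  conv_lhs => rw [← SemidirectProduct.inl_left_mul_inr_right k]
  rw [map_mul]
  change SemidirectProduct.lift _ _ _ _ * SemidirectProduct.lift _ _ _ _ = _
  rw [SemidirectProduct.lift_inl, SemidirectProduct.lift_inr]

theorem spWreath_injective : Function.Injective (spWreath F n) := by
  rw [injective_iff_map_eq_one]
  intro k hk
  rw [spWreath_apply] at hk
  have h1 : Matrix.fromBlocks (Matrix.diagonal fun i => e11 (k.left i))
      (Matrix.diagonal fun i => e12 (k.left i)) (Matrix.diagonal fun i => e21 (k.left i))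
      (Matrix.diagonal fun i => e22 (k.left i)) *
      Matrix.fromBlocks (pMat F k.right) 0 0 (pMat F k.right) =
      (1 : Matrix (Fin n ⊕ Fin n) (Fin n ⊕ Fin n) F) := congrArg Subtype.val hk
  rw [Matrix.fromBlocks_multiply, ← Matrix.fromBlocks_one, Matrix.fromBlocks_inj] at h1
  simp only [Matrix.mul_zero, add_zero, zero_add] at h1
  obtain ⟨h11, h12, h21, h22⟩ := h1
  have hσ : k.right = 1 := diagonal_mul_pMat_eq_one _ _ h11
  rw [hσ, pMat_one, Matrix.mul_one] at h11 h12 h21 h22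
  rw [← Matrix.diagonal_one] at h11 h22
  rw [← Matrix.diagonal_zero] at h12 h21
  have a11 := Matrix.diagonal_injective h11
  have a12 := Matrix.diagonal_injective h12
  have a21 := Matrix.diagonal_injective h21
  have a22 := Matrix.diagonal_injective h22
  apply SemidirectProduct.ext
  · rw [SemidirectProduct.one_left]
    funext i
    apply sp2_ext
    · rw [Pi.one_apply, e11_one]; exact congrFun a11 i
    · rw [Pi.one_apply, e12_one]; exact congrFun a12 i
    · rw [Pi.one_apply, e21_one]; exact congrFun a21 i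
    · rw [Pi.one_apply, e22_one]; exact congrFun a22 i
  · rw [SemidirectProduct.one_right]; exact hσ

/-- The image of the wreath product normalizes any subgroup consisting of the matrices
`diag(D, D)` with `D` diagonal, provided it is stable under permuting the diagonal. -/
theorem spWreath_mem_normalizer (E : Subgroup (Matrix.symplecticGroup (Fin n) F))
    (T : Set (Fin n → F))
    (hE : ∀ x : Matrix.symplecticGroup (Fin n) F, x ∈ E ↔ ∃ s ∈ T,
      (x : Matrix (Fin n ⊕ Fin n) (Fin n ⊕ Fin n) F) =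
        Matrix.fromBlocks (Matrix.diagonal s) 0 0 (Matrix.diagonal s))
    (hT : ∀ (σ : Equiv.Perm (Fin n)), ∀ s ∈ T, (fun i => s (σ i)) ∈ T)
    (k : (Fin n → Matrix.symplecticGroup (Fin 1) F) ⋊[spAut F n] Equiv.Perm (Fin n)) :
    spWreath F n k ∈ Subgroup.normalizer (E : Set (Matrix.symplecticGroup (Fin n) F)) := by
  rw [spWreath_apply]
  apply Subgroup.mul_mem
  · apply Subgroup.centralizer_le_normalizer
    rw [Subgroup.mem_centralizer_iff]
    intro x hx
    obtain ⟨s, -, hs⟩ := (hE x).mp hx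
    apply Subtype.ext
    change (x : Matrix (Fin n ⊕ Fin n) (Fin n ⊕ Fin n) F) * Matrix.fromBlocks _ _ _ _ =
      Matrix.fromBlocks _ _ _ _ * (x : Matrix (Fin n ⊕ Fin n) (Fin n ⊕ Fin n) F)
    rw [hs, Matrix.fromBlocks_multiply, Matrix.fromBlocks_multiply]
    simp only [Matrix.diagonal_mul_diagonal, Matrix.zero_mul, Matrix.mul_zero, add_zero, zero_add]
    congr 1 <;> · congr 1; funext i; exact mul_comm _ _
  · have key : ∀ (σ : Equiv.Perm (Fin n)) (x : Matrix.symplecticGroup (Fin n) F), x ∈ E →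
        spPerm F n σ * x * (spPerm F n σ)⁻¹ ∈ E := by
      intro σ x hx
      obtain ⟨s, hsT, hs⟩ := (hE x).mp hx
      rw [hE]
      refine ⟨fun i => s (σ⁻¹ i), hT σ⁻¹ s hsT, ?_⟩
      have h1 : spPerm F n σ * x * (spPerm F n σ)⁻¹ * spPerm F n σ = spPerm F n σ * x := by
        rw [inv_mul_cancel_right]
      have h2 := congrArg (Subtype.val) h1
      have h3 : ((spPerm F n σ * x * (spPerm F n σ)⁻¹ : Matrix.symplecticGroup (Fin n) F) :
          Matrix (Fin n ⊕ Fin n) (Fin n ⊕ Fin n) F) * Matrix.fromBlocks (pMat F σ) 0 0 (pMat F σ) =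
          Matrix.fromBlocks (pMat F σ) 0 0 (pMat F σ) *
            Matrix.fromBlocks (Matrix.diagonal s) 0 0 (Matrix.diagonal s) := by
        rw [← hs]; exact h2
      have h4 : Matrix.fromBlocks (pMat F σ) 0 0 (pMat F σ) *
            Matrix.fromBlocks (Matrix.diagonal s) 0 0 (Matrix.diagonal s) =
          Matrix.fromBlocks (Matrix.diagonal fun i => s (σ⁻¹ i)) 0 0
            (Matrix.diagonal fun i => s (σ⁻¹ i)) * Matrix.fromBlocks (pMat F σ) 0 0 (pMat F σ) := by
        rw [Matrix.fromBlocks_multiply, Matrix.fromBlocks_multiply]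
        simp only [pMat_mul_diagonal, Matrix.zero_mul, Matrix.mul_zero, add_zero, zero_add]
      rw [h4] at h3
      have h5 : Matrix.fromBlocks (pMat F σ) 0 0 (pMat F σ) *
          Matrix.fromBlocks (pMat F σ⁻¹) 0 0 (pMat F σ⁻¹) =
          (1 : Matrix (Fin n ⊕ Fin n) (Fin n ⊕ Fin n) F) := by
        rw [Matrix.fromBlocks_multiply]
        simp only [Matrix.zero_mul, Matrix.mul_zero, add_zero, zero_add]
        rw [← pMat_mul, mul_inv_cancel, pMat_one, Matrix.fromBlocks_one]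
      have h6 := congrArg (fun M => M * Matrix.fromBlocks (pMat F σ⁻¹) 0 0 (pMat F σ⁻¹)) h3
      simp only [Matrix.mul_assoc, h5, Matrix.mul_one] at h6
      exact h6
    rw [Subgroup.mem_normalizer_iff]
    intro x
    constructor
    · exact key k.right x
    · intro hx
      have := key k.right⁻¹ _ hx
      rw [map_inv] at this
      simpa [mul_assoc] using this

end blockdiag

end Cfsg.Agent.H43
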