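import Mathlib

/-!
# A three-cycle from a Klein four-group in a doubly transitive group of odd degree

If a doubly transitive permutation group of odd degree `n` (`n = 5` or `n ≥ 9`) contains the three
double transpositions on some four points, then it contains a `3`-cycle.
-/

namespace Cfsg.Agent.H43

open Equiv Equiv.Perm

section design

variable {α : Type*} [Fintype α] [DecidableEq α]

omit [Fintype α] in
theorem conj_swap_mul_swap (m : Perm α) (x y z w : α) :
    m * (swap x y * swap z w) * m⁻¹ = swap (m x) (m y) * swap (m z) (m w) := by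
  rw [swap_apply_apply, swap_apply_apply]
  group

/-- Two double transpositions sharing a transposition and one further point multiply to a
`3`-cycle. -/
theorem threeCycle_of_common_swap (M : Subgroup (Perm α)) {p q r s e : α}
    (hpq : p ≠ q) (hrs : r ≠ s) (hre : r ≠ e) (hse : s ≠ e) (hrp : r ≠ p) (hrq : r ≠ q)
    (hep : e ≠ p) (heq : e ≠ q)
    (h1 : swap r s * swap p q ∈ M) (h2 : swap r e * swap p q ∈ M) :
    ∃ g ∈ M, g.IsThreeCycle := by
  refine ⟨swap r s * swap r e, ?_, isThreeCycle_swap_mul_swap_same hrs hre hse⟩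
  have hd : (swap r e).Disjoint (swap p q) := disjoint_swap_swap (by simp [*])
  have hc : swap p q * swap r e = swap r e * swap p q := hd.commute.eq.symm
  have key : swap r s * swap p q * (swap r e * swap p q) = swap r s * swap r e := by
    calc swap r s * swap p q * (swap r e * swap p q)
        = swap r s * (swap p q * swap r e) * swap p q := by group
      _ = swap r s * (swap r e * swap p q) * swap p q := by rw [hc]
      _ = swap r s * swap r e * (swap p q * swap p q) := by group
      _ = swap r s * swap r e := by rw [swap_mul_self, mul_one]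
  rw [← key]
  exact M.mul_mem h1 h2

/-- Two double transpositions whose supports share exactly one point generate a `3`-cycle. -/
theorem threeCycle_of_one_common (M : Subgroup (Perm α)) {a x₁ x₂ x₃ y₁ y₂ y₃ : α}
    (hnd : [a, x₁, x₂, x₃, y₁, y₂, y₃].Nodup)
    (h1 : swap a x₁ * swap x₂ x₃ ∈ M) (h2 : swap a y₁ * swap y₂ y₃ ∈ M) :
    ∃ g ∈ M, g.IsThreeCycle := by
  simp only [List.nodup_cons, List.mem_cons, List.not_mem_nil, or_false, not_or,
    List.nodup_nil, and_true] at hnd
  obtain ⟨⟨h01, h02, h03, h04, h05, h06⟩, ⟨h12, h13, h14, h15, h16⟩, ⟨h23, h24, h25, h26⟩,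
    ⟨h34, h35, h36⟩, ⟨h45, h46⟩, h56, -⟩ := hnd
  have hc := M.mul_mem (M.mul_mem h1 h2) (M.inv_mem h1)
  rw [conj_swap_mul_swap] at hc
  have e1 : (swap a x₁ * swap x₂ x₃) a = x₁ := by
    rw [Perm.mul_apply, swap_apply_of_ne_of_ne h02 h03, swap_apply_left]
  have e2 : (swap a x₁ * swap x₂ x₃) y₁ = y₁ := by
    rw [Perm.mul_apply, swap_apply_of_ne_of_ne (Ne.symm h24) (Ne.symm h34),
      swap_apply_of_ne_of_ne (Ne.symm h04) (Ne.symm h14)]
  have e3 : (swap a x₁ * swap x₂ x₃) y₂ = y₂ := by
    rw [Perm.mul_apply, swap_apply_of_ne_of_ne (Ne.symm h25) (Ne.symm h35),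
      swap_apply_of_ne_of_ne (Ne.symm h05) (Ne.symm h15)]
  have e4 : (swap a x₁ * swap x₂ x₃) y₃ = y₃ := by
    rw [Perm.mul_apply, swap_apply_of_ne_of_ne (Ne.symm h26) (Ne.symm h36),
      swap_apply_of_ne_of_ne (Ne.symm h06) (Ne.symm h16)]
  rw [e1, e2, e3, e4] at hc
  refine threeCycle_of_common_swap M (p := y₂) (q := y₃) (r := y₁) (s := x₁) (e := a)
    h56 (Ne.symm h14) (Ne.symm h04) (Ne.symm h01) h45 h46 h05 h06 ?_ ?_
  · rw [swap_comm y₁ x₁]
    exact hc
  · rw [swap_comm y₁ a]
    exact h2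

theorem inter_pair_card {u v w : α} (huv : u ≠ v) (huw : u ≠ w) (hvw : v ≠ w) :
    (({u, v} : Finset α) ∩ {u, w}).card = 1 := by
  have h : ({u, v} : Finset α) ∩ {u, w} = {u} := by
    ext z
    simp only [Finset.mem_inter, Finset.mem_insert, Finset.mem_singleton]
    constructor
    · rintro ⟨h1 | h1, h2 | h2⟩
      · exact h1
      · exact h1
      · exact h2
      · exact absurd (h1.symm.trans h2) hvw
    · intro h
      exact ⟨Or.inl h, Or.inl h⟩
  rw [h, Finset.card_singleton]

/-- Data extraction: for `x` outside the four points, a block through `a` and `x` meeting the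
four points in exactly two points. -/
theorem klein_data (M : Subgroup (Perm α)) (hno : ∀ g ∈ M, ¬ g.IsThreeCycle)
    (h2t : ∀ x y z w : α, x ≠ y → z ≠ w → ∃ m ∈ M, m x = z ∧ m y = w)
    {a b c d : α} (hab : a ≠ b) (hac : a ≠ c) (had : a ≠ d) (hbc : b ≠ c) (hbd : b ≠ d)
    (hcd : c ≠ d)
    (h1 : swap a b * swap c d ∈ M) (h2 : swap a c * swap b d ∈ M) (h3 : swap a d * swap b c ∈ M)
    (x : α) (hx : x ∉ ({a, b, c, d} : Finset α)) :
    ∃ dl o : α, dl ∈ ({b, c, d} : Finset α) ∧ o ∉ ({a, b, c, d} : Finset α) ∧ o ≠ x ∧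
      swap a dl * swap x o ∈ M := by
  simp only [Finset.mem_insert, Finset.mem_singleton, not_or] at hx
  obtain ⟨hxa, hxb, hxc, hxd⟩ := hx
  obtain ⟨m, hm, hma, hmb⟩ := h2t a b a x hab (Ne.symm hxa)
  have e1 : swap a x * swap (m c) (m d) ∈ M := by
    have := M.mul_mem (M.mul_mem hm h1) (M.inv_mem hm)
    rwa [conj_swap_mul_swap, hma, hmb] at this
  have e2 : swap a (m c) * swap x (m d) ∈ M := by
    have := M.mul_mem (M.mul_mem hm h2) (M.inv_mem hm)
    rwa [conj_swap_mul_swap, hma, hmb] at this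
  have e3 : swap a (m d) * swap x (m c) ∈ M := by
    have := M.mul_mem (M.mul_mem hm h3) (M.inv_mem hm)
    rwa [conj_swap_mul_swap, hma, hmb] at this
  have hua : m c ≠ a := fun h => hac (m.injective (h.trans hma.symm)).symm
  have hva : m d ≠ a := fun h => had (m.injective (h.trans hma.symm)).symm
  have hux : m c ≠ x := fun h => hbc (m.injective (h.trans hmb.symm)).symm
  have hvx : m d ≠ x := fun h => hbd (m.injective (h.trans hmb.symm)).symm
  have huv : m c ≠ m d := fun h => hcd (m.injective h)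
  obtain ⟨u, hu⟩ : ∃ u, u = m c := ⟨_, rfl⟩
  obtain ⟨v, hv⟩ : ∃ v, v = m d := ⟨_, rfl⟩
  rw [← hu, ← hv] at e1 e2 e3 huv
  rw [← hu] at hua hux
  rw [← hv] at hva hvx
  clear hu hv
  by_cases hu : u ∈ ({a, b, c, d} : Finset α) <;> by_cases hv : v ∈ ({a, b, c, d} : Finset α)
  · exfalso
    have hu' : u = b ∨ u = c ∨ u = d := by simpa [hua] using hu
    have hv' : v = b ∨ v = c ∨ v = d := by simpa [hva] using hv
    have key : ∃ w, (w = b ∨ w = c ∨ w = d) ∧ swap a w * swap u v ∈ M := by
      rcases hu' with rfl | rfl | rfl <;> rcases hv' with rfl | rfl | rfl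
      · exact absurd rfl huv
      · exact ⟨d, by simp, h3⟩
      · exact ⟨c, by simp, h2⟩
      · exact ⟨d, by simp, by rw [swap_comm u v]; exact h3⟩
      · exact absurd rfl huv
      · exact ⟨b, by simp, h1⟩
      · exact ⟨c, by simp, by rw [swap_comm u v]; exact h2⟩
      · exact ⟨b, by simp, by rw [swap_comm u v]; exact h1⟩
      · exact absurd rfl huv
    obtain ⟨w, hw, hwM⟩ := key
    have haw : a ≠ w := by rcases hw with rfl | rfl | rfl <;> assumption
    have hwx : w ≠ x := by
      rcases hw with rfl | rfl | rfl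
      · exact Ne.symm hxb
      · exact Ne.symm hxc
      · exact Ne.symm hxd
    obtain ⟨g, hg, hg3⟩ := threeCycle_of_common_swap M (p := u) (q := v) (r := a) (s := w)
      (e := x) huv haw (Ne.symm hxa) hwx (Ne.symm hua) (Ne.symm hva) (Ne.symm hux)
      (Ne.symm hvx) hwM e1
    exact hno g hg hg3
  · exact ⟨u, v, by simpa [hua] using hu, hv, hvx, e2⟩
  · exact ⟨v, u, by simpa [hva] using hv, hu, hux, e3⟩
  · exfalso
    simp only [Finset.mem_insert, Finset.mem_singleton, not_or] at hu hv
    obtain ⟨g, hg, hg3⟩ := threeCycle_of_one_common M (a := a) (x₁ := b) (x₂ := c) (x₃ := d)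
      (y₁ := x) (y₂ := u) (y₃ := v) (by
        simp only [List.nodup_cons, List.mem_cons, List.not_mem_nil, or_false, not_or,
          List.nodup_nil, and_true]
        refine ⟨⟨hab, hac, had, Ne.symm hxa, Ne.symm hu.1, Ne.symm hv.1⟩,
          ⟨hbc, hbd, Ne.symm hxb, Ne.symm hu.2.1, Ne.symm hv.2.1⟩,
          ⟨hcd, Ne.symm hxc, Ne.symm hu.2.2.1, Ne.symm hv.2.2.1⟩,
          ⟨Ne.symm hxd, Ne.symm hu.2.2.2, Ne.symm hv.2.2.2⟩, ⟨Ne.symm hux, Ne.symm hvx⟩, huv, ?_⟩
        exact not_false) h1 e1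
    exact hno g hg hg3

/-- Two blocks through `a` with the same second point of the four: the outer pairs are equal or
disjoint. -/
theorem pair_rel_same (M : Subgroup (Perm α)) (hno : ∀ g ∈ M, ¬ g.IsThreeCycle)
    {a δ x ox y oy : α} (haδ : a ≠ δ)
    (hxa : x ≠ a) (hxδ : x ≠ δ) (hoxa : ox ≠ a) (hoxδ : ox ≠ δ) (hxox : x ≠ ox)
    (hya : y ≠ a) (hyδ : y ≠ δ) (hoya : oy ≠ a) (hoyδ : oy ≠ δ) (hyoy : y ≠ oy)
    (hx : swap a δ * swap x ox ∈ M) (hy : swap a δ * swap y oy ∈ M) :
    ({x, ox} : Finset α) = {y, oy} ∨ Disjoint ({x, ox} : Finset α) {y, oy} := by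
  have hx' : swap x ox * swap a δ ∈ M := by
    have hd : (swap x ox).Disjoint (swap a δ) := disjoint_swap_swap (by simp [*])
    rw [hd.commute.eq]
    exact hx
  have hy' : swap y oy * swap a δ ∈ M := by
    have hd : (swap y oy).Disjoint (swap a δ) := disjoint_swap_swap (by simp [*])
    rw [hd.commute.eq]
    exact hy
  by_cases hxy : x = y
  · by_cases hoo : ox = oy
    · left
      rw [hxy, hoo]
    · exfalso
      rw [← hxy] at hy' hyoy
      obtain ⟨g, hg, hg3⟩ := threeCycle_of_common_swap M (p := a) (q := δ) (r := x) (s := ox)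
        (e := oy) haδ hxox hyoy hoo hxa hxδ hoya hoyδ hx' hy'
      exact hno g hg hg3
  · by_cases hxo : x = oy
    · by_cases hox : ox = y
      · left
        rw [hxo, hox, Finset.pair_comm]
      · exfalso
        rw [← hxo, swap_comm y x] at hy'
        obtain ⟨g, hg, hg3⟩ := threeCycle_of_common_swap M (p := a) (q := δ) (r := x) (s := ox)
          (e := y) haδ hxox hxy hox hxa hxδ hya hyδ hx' hy'
        exact hno g hg hg3
    · by_cases hox : ox = y
      · exfalso
        rw [hox, swap_comm x y] at hx'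
        obtain ⟨g, hg, hg3⟩ := threeCycle_of_common_swap M (p := a) (q := δ) (r := y) (s := x)
          (e := oy) haδ (Ne.symm hxy) hyoy hxo hya hyδ hoya hoyδ hx' hy'
        exact hno g hg hg3
      · by_cases hoo : ox = oy
        · exfalso
          rw [← hoo, swap_comm y ox] at hy'
          rw [swap_comm x ox] at hx'
          obtain ⟨g, hg, hg3⟩ := threeCycle_of_common_swap M (p := a) (q := δ) (r := ox)
            (s := x) (e := y) haδ (Ne.symm hxox) hox hxy hoxa hoxδ hya hyδ hx' hy'
          exact hno g hg hg3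
        · right
          rw [Finset.disjoint_left]
          intro z hz hz'
          simp only [Finset.mem_insert, Finset.mem_singleton] at hz hz'
          rcases hz with rfl | rfl <;> rcases hz' with h | h
          · exact hxy h
          · exact hxo h
          · exact hox h
          · exact hoo h

/-- Two blocks through `a` with different second points of the four: the outer pairs share
exactly one point. -/
theorem pair_rel_diff (M : Subgroup (Perm α)) (hno : ∀ g ∈ M, ¬ g.IsThreeCycle)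
    {a δ₁ δ₂ x ox y oy : α} (hδ : δ₁ ≠ δ₂) (haδ₁ : a ≠ δ₁) (haδ₂ : a ≠ δ₂)
    (hxa : x ≠ a) (hxδ₁ : x ≠ δ₁) (hxδ₂ : x ≠ δ₂) (hoxa : ox ≠ a) (hoxδ₁ : ox ≠ δ₁)
    (hoxδ₂ : ox ≠ δ₂) (hxox : x ≠ ox)
    (hya : y ≠ a) (hyδ₁ : y ≠ δ₁) (hyδ₂ : y ≠ δ₂) (hoya : oy ≠ a) (hoyδ₁ : oy ≠ δ₁)
    (hoyδ₂ : oy ≠ δ₂) (hyoy : y ≠ oy)
    (hx : swap a δ₁ * swap x ox ∈ M) (hy : swap a δ₂ * swap y oy ∈ M) :
    (({x, ox} : Finset α) ∩ {y, oy}).card = 1 := by
  by_cases hxy : x = y
  · by_cases hoo : ox = oy
    · exfalso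
      rw [← hxy, ← hoo] at hy
      obtain ⟨g, hg, hg3⟩ := threeCycle_of_common_swap M (p := x) (q := ox) (r := a) (s := δ₁)
        (e := δ₂) hxox haδ₁ haδ₂ hδ (Ne.symm hxa) (Ne.symm hoxa) (Ne.symm hxδ₂) (Ne.symm hoxδ₂)
        hx hy
      exact hno g hg hg3
    · rw [← hxy] at hyoy ⊢
      exact inter_pair_card hxox hyoy hoo
  · by_cases hxo : x = oy
    · by_cases hox : ox = y
      · exfalso
        rw [← hxo, ← hox, swap_comm ox x] at hy
        obtain ⟨g, hg, hg3⟩ := threeCycle_of_common_swap M (p := x) (q := ox) (r := a)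
          (s := δ₁) (e := δ₂) hxox haδ₁ haδ₂ hδ (Ne.symm hxa) (Ne.symm hoxa) (Ne.symm hxδ₂)
          (Ne.symm hoxδ₂) hx hy
        exact hno g hg hg3
      · rw [← hxo, Finset.pair_comm y x]
        exact inter_pair_card hxox hxy hox
    · by_cases hox : ox = y
      · rw [hox, Finset.pair_comm x y]
        exact inter_pair_card (Ne.symm hxy) hyoy hxo
      · by_cases hoo : ox = oy
        · rw [← hoo, Finset.pair_comm x ox, Finset.pair_comm y ox]
          exact inter_pair_card (Ne.symm hxox) hox hxy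
        · exfalso
          obtain ⟨g, hg, hg3⟩ := threeCycle_of_one_common M (a := a) (x₁ := δ₁) (x₂ := x)
            (x₃ := ox) (y₁ := δ₂) (y₂ := y) (y₃ := oy) (by
              simp only [List.nodup_cons, List.mem_cons, List.not_mem_nil, or_false, not_or,
                List.nodup_nil, and_true]
              refine ⟨⟨haδ₁, Ne.symm hxa, Ne.symm hoxa, haδ₂, Ne.symm hya, Ne.symm hoya⟩,
                ⟨Ne.symm hxδ₁, Ne.symm hoxδ₁, hδ, Ne.symm hyδ₁, Ne.symm hoyδ₁⟩,
                ⟨hxox, hxδ₂, hxy, hxo⟩, ⟨hoxδ₂, hox, hoo⟩, ⟨Ne.symm hyδ₂, Ne.symm hoyδ₂⟩,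
                hyoy, ?_⟩
              exact not_false) hx hy
          exact hno g hg hg3

omit [Fintype α] in
theorem four_in_three {p q r s b c d : α} (hp : p ∈ ({b, c, d} : Finset α))
    (hq : q ∈ ({b, c, d} : Finset α)) (hr : r ∈ ({b, c, d} : Finset α))
    (hs : s ∈ ({b, c, d} : Finset α)) (hpq : p ≠ q) (hpr : p ≠ r) (hps : p ≠ s) (hqr : q ≠ r)
    (hqs : q ≠ s) (hrs : r ≠ s) : False := by
  simp only [Finset.mem_insert, Finset.mem_singleton] at hp hq hr hs
  rcases hp with rfl | rfl | rfl <;> rcases hq with rfl | rfl | rfl <;>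
    rcases hr with rfl | rfl | rfl <;> rcases hs with rfl | rfl | rfl <;> contradiction

omit [Fintype α] in
theorem eq_of_mem_card_one {s : Finset α} (h : s.card = 1) {u v : α} (hu : u ∈ s) (hv : v ∈ s) :
    u = v :=
  Finset.card_le_one.mp h.le u hu v hv

/-- A doubly transitive group of odd degree `n`, `n = 5` or `n ≥ 9`, containing the three double
transpositions on four points contains a `3`-cycle. -/
theorem exists_threeCycle_of_klein (M : Subgroup (Perm α))
    (h2t : ∀ x y z w : α, x ≠ y → z ≠ w → ∃ m ∈ M, m x = z ∧ m y = w)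
    {a b c d : α} (hab : a ≠ b) (hac : a ≠ c) (had : a ≠ d) (hbc : b ≠ c) (hbd : b ≠ d)
    (hcd : c ≠ d)
    (h1 : swap a b * swap c d ∈ M) (h2 : swap a c * swap b d ∈ M) (h3 : swap a d * swap b c ∈ M)
    (hodd : Odd (Fintype.card α)) (hn : Fintype.card α = 5 ∨ 9 ≤ Fintype.card α) :
    ∃ g ∈ M, g.IsThreeCycle := by
  by_contra hno
  push Not at hno
  have hD := klein_data M hno h2t hab hac had hbc hbd hcd h1 h2 h3
  choose! dl o hD using hD
  have hΔcard : ({a, b, c, d} : Finset α).card = 4 := by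
    rw [Finset.card_insert_of_notMem (by simp [*]), Finset.card_insert_of_notMem (by simp [*]),
      Finset.card_pair hcd]
  have hbcd : ∀ δ, δ ∈ ({b, c, d} : Finset α) → a ≠ δ ∧ δ ∈ ({a, b, c, d} : Finset α) := by
    intro δ hδ
    simp only [Finset.mem_insert, Finset.mem_singleton] at hδ ⊢
    rcases hδ with rfl | rfl | rfl
    · exact ⟨hab, Or.inr (Or.inl rfl)⟩
    · exact ⟨hac, Or.inr (Or.inr (Or.inl rfl))⟩
    · exact ⟨had, Or.inr (Or.inr (Or.inr rfl))⟩
  obtain ⟨Δ, hΔ⟩ : ∃ Δ : Finset α, Δ = {a, b, c, d} := ⟨_, rfl⟩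
  rw [← hΔ] at hD hΔcard hbcd
  have haΔ : a ∈ Δ := by
    rw [hΔ]
    simp
  have hTcard : Δᶜ.card = Fintype.card α - 4 := by rw [Finset.card_compl, hΔcard]
  have hne : ∀ x δ, x ∉ Δ → δ ∈ Δ → x ≠ δ := fun x δ hx hδ h => hx (h ▸ hδ)
  have R1 : ∀ x y, x ∉ Δ → y ∉ Δ → dl x = dl y →
      ({x, o x} : Finset α) = {y, o y} ∨ Disjoint ({x, o x} : Finset α) {y, o y} := by
    intro x y hx hy hxy
    obtain ⟨hx1, hx2, hx3, hx4⟩ := hD x hx
    obtain ⟨hy1, hy2, hy3, hy4⟩ := hD y hy
    obtain ⟨haδ, hδΔ⟩ := hbcd _ hx1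
    rw [← hxy] at hy4
    exact pair_rel_same M hno haδ (hne x a hx haΔ) (hne x _ hx hδΔ) (hne _ a hx2 haΔ)
      (hne _ _ hx2 hδΔ) (Ne.symm hx3) (hne y a hy haΔ) (hne y _ hy hδΔ) (hne _ a hy2 haΔ)
      (hne _ _ hy2 hδΔ) (Ne.symm hy3) hx4 hy4
  have R2 : ∀ x y, x ∉ Δ → y ∉ Δ → dl x ≠ dl y →
      (({x, o x} : Finset α) ∩ {y, o y}).card = 1 := by
    intro x y hx hy hxy
    obtain ⟨hx1, hx2, hx3, hx4⟩ := hD x hx
    obtain ⟨hy1, hy2, hy3, hy4⟩ := hD y hy
    obtain ⟨haδ₁, hδ₁Δ⟩ := hbcd _ hx1
    obtain ⟨haδ₂, hδ₂Δ⟩ := hbcd _ hy1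
    exact pair_rel_diff M hno hxy haδ₁ haδ₂ (hne x a hx haΔ) (hne x _ hx hδ₁Δ)
      (hne x _ hx hδ₂Δ) (hne _ a hx2 haΔ) (hne _ _ hx2 hδ₁Δ) (hne _ _ hx2 hδ₂Δ) (Ne.symm hx3)
      (hne y a hy haΔ) (hne y _ hy hδ₁Δ) (hne y _ hy hδ₂Δ) (hne _ a hy2 haΔ)
      (hne _ _ hy2 hδ₁Δ) (hne _ _ hy2 hδ₂Δ) (Ne.symm hy3) hx4 hy4
  by_cases hall : ∀ x, x ∉ Δ → ∀ y, y ∉ Δ → dl x = dl y
  · -- the outer pairs form a fixed-point-free involution of the complement
    have hinv : ∀ x, x ∉ Δ → o (o x) = x := by
      intro x hx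
      have hox := (hD x hx).2.1
      rcases R1 x (o x) hx hox (hall x hx (o x) hox) with h | h
      · have hmem : x ∈ ({o x, o (o x)} : Finset α) := by
          rw [← h]
          simp
        simp only [Finset.mem_insert, Finset.mem_singleton] at hmem
        rcases hmem with h' | h'
        · exact absurd h'.symm (hD x hx).2.2.1
        · exact h'.symm
      · exfalso
        rw [Finset.disjoint_left] at h
        exact h (a := o x) (by simp) (by simp)
    have hf : Function.Involutive (fun z : α => if z ∈ Δ then z else o z) := by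
      intro z
      by_cases hz : z ∈ Δ
      · simp [hz]
      · have hoz := (hD z hz).2.1
        simp [hz, hoz, hinv z hz]
    have hsupp : (hf.toPerm _).support = Δᶜ := by
      ext z
      rw [Perm.mem_support, Finset.mem_compl, Function.Involutive.coe_toPerm]
      by_cases hz : z ∈ Δ
      · simp [hz]
      · simp [hz, (hD z hz).2.2.1]
    have h2dvd : 2 ∣ Δᶜ.card := by
      rw [← hsupp]
      apply two_dvd_card_support
      ext z
      rw [sq, Perm.mul_apply, Function.Involutive.coe_toPerm, Perm.one_apply]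
      exact hf z
    rw [hTcard] at h2dvd
    obtain ⟨k, hk⟩ := hodd
    omega
  · push Not at hall
    obtain ⟨x, hx, y, hy, hxy⟩ := hall
    have hc1 := R2 x y hx hy hxy
    obtain ⟨-, hox, hxox, -⟩ := hD x hx
    obtain ⟨-, hoy, hyoy, -⟩ := hD y hy
    have hPx : ({x, o x} : Finset α).card = 2 := Finset.card_pair (Ne.symm hxox)
    have hPy : ({y, o y} : Finset α).card = 2 := Finset.card_pair (Ne.symm hyoy)
    have hScard : (({x, o x} : Finset α) ∪ {y, o y}).card = 3 := by
      have := Finset.card_union_add_card_inter ({x, o x} : Finset α) {y, o y}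
      omega
    have hSsub : (({x, o x} : Finset α) ∪ {y, o y}) ⊆ Δᶜ := by
      intro z hz
      rw [Finset.mem_compl]
      simp only [Finset.mem_union, Finset.mem_insert, Finset.mem_singleton] at hz
      rcases hz with (rfl | rfl) | (rfl | rfl) <;> assumption
    have h3le : 3 ≤ Δᶜ.card := hScard ▸ Finset.card_le_card hSsub
    have h4ge : Δᶜ.card ≤ 4 := by
      by_contra h5
      push Not at h5
      have hsd : 1 < (Δᶜ \ (({x, o x} : Finset α) ∪ {y, o y})).card := by
        rw [Finset.card_sdiff_of_subset hSsub]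
        omega
      obtain ⟨g, hg, g', hg', hgg'⟩ := Finset.one_lt_card.mp hsd
      rw [Finset.mem_sdiff, Finset.mem_compl, Finset.mem_union, not_or] at hg hg'
      obtain ⟨hgΔ, hgx, hgy⟩ := hg
      obtain ⟨hg'Δ, hg'x, hg'y⟩ := hg'
      -- helper facts
      have A : ∀ g z, g ∉ Δ → z ∉ Δ → dl g = dl z → g ∉ ({z, o z} : Finset α) →
          o g ∉ ({z, o z} : Finset α) := by
        intro g z hg hz hgz hgn
        rcases R1 g z hg hz hgz with h | h
        · exact absurd (h ▸ (by simp : g ∈ ({g, o g} : Finset α))) hgn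
        · rw [Finset.disjoint_left] at h
          exact h (by simp)
      have B : ∀ g z, g ∉ Δ → z ∉ Δ → dl g ≠ dl z → g ∉ ({z, o z} : Finset α) →
          o g ∈ ({z, o z} : Finset α) := by
        intro g z hg hz hgz hgn
        have hc := R2 g z hg hz hgz
        obtain ⟨w, hw⟩ := Finset.card_pos.mp (by omega : 0 < (({g, o g} : Finset α) ∩ {z, o z}).card)
        rw [Finset.mem_inter] at hw
        obtain ⟨hw1, hw2⟩ := hw
        simp only [Finset.mem_insert, Finset.mem_singleton] at hw1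
        rcases hw1 with rfl | rfl
        · exact absurd hw2 hgn
        · exact hw2
      have hsdx : (({y, o y} : Finset α) \ {x, o x}).card = 1 := by
        have := Finset.card_sdiff_add_card_inter ({y, o y} : Finset α) {x, o x}
        rw [Finset.inter_comm] at this
        omega
      have hsdy : (({x, o x} : Finset α) \ {y, o y}).card = 1 := by
        have := Finset.card_sdiff_add_card_inter ({x, o x} : Finset α) {y, o y}
        omega
      -- the partner of a point outside lies in the union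
      have hS : ∀ g, g ∉ Δ → g ∉ ({x, o x} : Finset α) → g ∉ ({y, o y} : Finset α) →
          o g ∈ ({x, o x} : Finset α) ∨ o g ∈ ({y, o y} : Finset α) := by
        intro g hg hgx hgy
        by_cases c1 : dl g = dl x
        · right
          exact B g y hg hy (fun h => hxy (c1.symm.trans h)) hgy
        · left
          exact B g x hg hx c1 hgx
      have hgP' : g ∉ ({g', o g'} : Finset α) := by
        simp only [Finset.mem_insert, Finset.mem_singleton, not_or]
        refine ⟨hgg', ?_⟩
        intro h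
        rcases hS g' hg'Δ hg'x hg'y with h' | h'
        · exact hgx (h ▸ h')
        · exact hgy (h ▸ h')
      by_cases hgg : dl g = dl g'
      · have hne' : o g ≠ o g' := by
          have := A g g' hgΔ hg'Δ hgg hgP'
          simp only [Finset.mem_insert, Finset.mem_singleton, not_or] at this
          exact this.2
        apply hne'
        by_cases c1 : dl g = dl x
        · have c1' : dl g' = dl x := hgg ▸ c1
          have hy1 : dl g ≠ dl y := fun h => hxy (c1.symm.trans h)
          have hy1' : dl g' ≠ dl y := fun h => hxy (c1'.symm.trans h)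
          exact eq_of_mem_card_one hsdx
            (Finset.mem_sdiff.mpr ⟨B g y hgΔ hy hy1 hgy, A g x hgΔ hx c1 hgx⟩)
            (Finset.mem_sdiff.mpr ⟨B g' y hg'Δ hy hy1' hg'y, A g' x hg'Δ hx c1' hg'x⟩)
        · have c1' : dl g' ≠ dl x := hgg ▸ c1
          by_cases c2 : dl g = dl y
          · have c2' : dl g' = dl y := hgg ▸ c2
            exact eq_of_mem_card_one hsdy
              (Finset.mem_sdiff.mpr ⟨B g x hgΔ hx c1 hgx, A g y hgΔ hy c2 hgy⟩)
              (Finset.mem_sdiff.mpr ⟨B g' x hg'Δ hx c1' hg'x, A g' y hg'Δ hy c2' hg'y⟩)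
          · have c2' : dl g' ≠ dl y := hgg ▸ c2
            exact eq_of_mem_card_one hc1
              (Finset.mem_inter.mpr ⟨B g x hgΔ hx c1 hgx, B g y hgΔ hy c2 hgy⟩)
              (Finset.mem_inter.mpr ⟨B g' x hg'Δ hx c1' hg'x, B g' y hg'Δ hy c2' hg'y⟩)
      · have hoo : o g = o g' := by
          have := B g g' hgΔ hg'Δ hgg hgP'
          simp only [Finset.mem_insert, Finset.mem_singleton] at this
          rcases this with h | h
          · exfalso
            rcases hS g hgΔ hgx hgy with h' | h'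
            · exact hg'x (h ▸ h')
            · exact hg'y (h ▸ h')
          · exact h
        by_cases c1 : dl g = dl x
        · have hnx : o g ∉ ({x, o x} : Finset α) := A g x hgΔ hx c1 hgx
          have c1' : dl g' ≠ dl x := fun h => hgg (c1.trans h.symm)
          exact hnx (hoo ▸ B g' x hg'Δ hx c1' hg'x)
        · have hix : o g ∈ ({x, o x} : Finset α) := B g x hgΔ hx c1 hgx
          by_cases c2 : dl g = dl y
          · have hny : o g ∉ ({y, o y} : Finset α) := A g y hgΔ hy c2 hgy
            have c2' : dl g' ≠ dl y := fun h => hgg (c2.trans h.symm)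
            exact hny (hoo ▸ B g' y hg'Δ hy c2' hg'y)
          · have hiy : o g ∈ ({y, o y} : Finset α) := B g y hgΔ hy c2 hgy
            by_cases c1' : dl g' = dl x
            · exact A g' x hg'Δ hx c1' hg'x (hoo ▸ hix)
            · by_cases c2' : dl g' = dl y
              · exact A g' y hg'Δ hy c2' hg'y (hoo ▸ hiy)
              · exact four_in_three (hD x hx).1 (hD y hy).1 (hD g hgΔ).1 (hD g' hg'Δ).1 hxy
                  (Ne.symm c1) (Ne.symm c1') (Ne.symm c2) (Ne.symm c2') hgg
    rw [hTcard] at h3le h4ge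
    omega

end design

end Cfsg.Agent.H43
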