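import Mathlib

/-!
# Orbits of Sylow `2`-subgroups of doubly transitive groups, and commuting involutions
-/

namespace Cfsg.Agent.H43

open MulAction
open scoped Pointwise

section sylow

variable {H α : Type*} [Group H] [Finite H] [MulAction H α]

/-- A Sylow `2`-subgroup of a group acting on a set of odd size has a fixed point. -/
theorem sylow_exists_fixed [Finite α] (hodd : Odd (Nat.card α)) (R : Sylow 2 H) :
    ∃ x₀ : α, ∀ r ∈ (R : Subgroup H), r • x₀ = x₀ := by
  have hnd : ¬ 2 ∣ Nat.card α := by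
    obtain ⟨k, hk⟩ := hodd
    omega
  obtain ⟨x₀, hx₀⟩ := R.isPGroup'.nonempty_fixed_point_of_prime_not_dvd_card α hnd
  rw [mem_fixedPoints] at hx₀
  exact ⟨x₀, fun r hr => hx₀ ⟨r, hr⟩⟩

/-- In a doubly transitive group of degree `2 ^ k + 1`, a Sylow `2`-subgroup fixing `x₀` is
transitive on the other points. -/
theorem sylow_trans_rest [Finite α]
    (h2t : ∀ a b c d : α, a ≠ b → c ≠ d → ∃ g : H, g • a = c ∧ g • b = d)
    (R : Sylow 2 H) (x₀ : α) (hfix : ∀ r ∈ (R : Subgroup H), r • x₀ = x₀)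
    (k : ℕ) (hk : Nat.card α = 2 ^ k + 1) :
    ∀ y z : α, y ≠ x₀ → z ≠ x₀ → ∃ r ∈ (R : Subgroup H), r • y = z := by
  intro y z hy hz
  have hRK : (R : Subgroup H) ≤ stabilizer H x₀ := fun r hr => hfix r hr
  -- index of the point stabilizer
  have hK : (stabilizer H x₀).index = Nat.card α := by
    rw [index_stabilizer]
    have : orbit H x₀ = Set.univ := by
      ext w
      simp only [Set.mem_univ, iff_true]
      by_cases hw : w = x₀
      · rw [hw]
        exact mem_orbit_self x₀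
      · obtain ⟨g, hg, -⟩ := h2t x₀ w w x₀ (Ne.symm hw) hw
        exact ⟨g, hg⟩
    rw [this, Set.ncard_univ]
  -- index of the two-point stabilizer in the point stabilizer
  have hD : (stabilizer H x₀ ⊓ stabilizer H y).relIndex (stabilizer H x₀) = 2 ^ k := by
    have h1 : (stabilizer H x₀ ⊓ stabilizer H y).subgroupOf (stabilizer H x₀) =
        stabilizer (stabilizer H x₀) y := by
      ext g
      simp [Subgroup.mem_subgroupOf, mem_stabilizer_iff, Subgroup.smul_def]
    rw [Subgroup.relIndex, h1, index_stabilizer]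
    have h2 : orbit (stabilizer H x₀) y = {x₀}ᶜ := by
      ext w
      simp only [Set.mem_compl_iff, Set.mem_singleton_iff]
      constructor
      · rintro ⟨⟨g, hg⟩, rfl⟩ h
        apply hy
        rw [mem_stabilizer_iff] at hg
        have h' : g • y = g • x₀ := h.trans hg.symm
        exact smul_left_cancel g h'
      · intro hw
        obtain ⟨g, hg1, hg2⟩ := h2t x₀ y x₀ w (Ne.symm hy) (Ne.symm hw)
        exact ⟨⟨g, hg1⟩, hg2⟩
    rw [h2]
    have := Set.ncard_add_ncard_compl ({x₀} : Set α)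
    rw [Set.ncard_singleton] at this
    omega
  -- index of the stabilizer in the Sylow subgroup
  have hRy : ((R : Subgroup H) ⊓ stabilizer H y).relIndex (R : Subgroup H) =
      (orbit (R : Subgroup H) y).ncard := by
    have h1 : ((R : Subgroup H) ⊓ stabilizer H y).subgroupOf (R : Subgroup H) =
        stabilizer (R : Subgroup H) y := by
      ext g
      simp [Subgroup.mem_subgroupOf, mem_stabilizer_iff, Subgroup.smul_def]
    rw [Subgroup.relIndex, h1, index_stabilizer]
  have hle1 : (R : Subgroup H) ⊓ stabilizer H y ≤ stabilizer H x₀ ⊓ stabilizer H y :=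
    inf_le_inf_right _ hRK
  have e1 := Subgroup.relIndex_mul_index (inf_le_left : (R : Subgroup H) ⊓ stabilizer H y ≤ R)
  have e2 := Subgroup.relIndex_mul_index hle1
  have e3 := Subgroup.relIndex_mul_index
    (inf_le_left : stabilizer H x₀ ⊓ stabilizer H y ≤ stabilizer H x₀)
  rw [hRy] at e1
  rw [hD, hK] at e3
  have hdvd : 2 ^ k ∣ (orbit (R : Subgroup H) y).ncard * (R : Subgroup H).index := by
    rw [e1, ← e2, ← e3]
    exact Dvd.dvd.mul_left (Dvd.intro _ rfl) _
  have hcop : Nat.Coprime (2 ^ k) (R : Subgroup H).index :=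
    Nat.Coprime.pow_left k ((Nat.Prime.coprime_iff_not_dvd Nat.prime_two).mpr R.not_dvd_index)
  have hdvd' : 2 ^ k ∣ (orbit (R : Subgroup H) y).ncard := hcop.dvd_of_dvd_mul_right hdvd
  have hsub : orbit (R : Subgroup H) y ⊆ {x₀}ᶜ := by
    rintro w ⟨⟨g, hg⟩, rfl⟩ h
    apply hy
    have h' : g • y = g • x₀ := (show g • y = x₀ from h).trans (hfix g hg).symm
    exact smul_left_cancel g h'
  have hcc : ({x₀}ᶜ : Set α).ncard = 2 ^ k := by
    have := Set.ncard_add_ncard_compl ({x₀} : Set α)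
    rw [Set.ncard_singleton] at this
    omega
  have hpos : 0 < (orbit (R : Subgroup H) y).ncard :=
    (Set.ncard_pos (Set.toFinite _)).mpr ⟨y, mem_orbit_self y⟩
  have hge : ({x₀}ᶜ : Set α).ncard ≤ (orbit (R : Subgroup H) y).ncard := by
    rw [hcc]
    exact Nat.le_of_dvd hpos hdvd'
  have heq := Set.eq_of_subset_of_ncard_le hsub hge (Set.toFinite _)
  have hzmem : z ∈ orbit (R : Subgroup H) y := by
    rw [heq]
    exact hz
  obtain ⟨⟨r, hr⟩, hrz⟩ := hzmem
  exact ⟨r, hr, hrz⟩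

/-- Orbits of a `2`-group have `2`-power size. -/
theorem orbit_ncard_two_pow (R : Subgroup H) (hR : IsPGroup 2 R) (y : α) :
    ∃ a : ℕ, (orbit R y).ncard = 2 ^ a := by
  rw [← index_stabilizer]
  exact hR.index _

/-- A point moved by a `2`-group `R` admits `k ∈ R` moving it, with `k ^ 2` fixing it and `k`
normalizing the point stabilizer. -/
theorem exists_normalizing_involution (R : Subgroup H) (hR : IsPGroup 2 R) (x : α)
    (hmove : ∃ r ∈ R, r • x ≠ x) :
    ∃ k ∈ R, k • x ≠ x ∧ k • k • x = x ∧ ∀ s ∈ R, s • x = x → s • k • x = k • x := by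
  have hnil : Group.IsNilpotent R := hR.isNilpotent
  have hnc : NormalizerCondition R := Group.normalizerCondition_of_isNilpotent
  have hlt : stabilizer R x < ⊤ := by
    rw [lt_top_iff_ne_top]
    intro htop
    obtain ⟨r, hr, hrx⟩ := hmove
    have : (⟨r, hr⟩ : R) ∈ stabilizer R x := by
      rw [htop]
      exact Subgroup.mem_top _
    exact hrx this
  obtain ⟨k₀, hk₀N, hk₀S⟩ := SetLike.exists_of_lt (hnc _ hlt)
  have hex : ∃ j : ℕ, k₀ ^ 2 ^ j ∈ stabilizer R x := by
    obtain ⟨j, hj⟩ := hR k₀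
    exact ⟨j, by rw [hj]; exact Subgroup.one_mem _⟩
  classical
  have hj0 : Nat.find hex ≠ 0 := by
    intro h0
    have := Nat.find_spec hex
    rw [h0, pow_zero, pow_one] at this
    exact hk₀S this
  obtain ⟨j, hj⟩ := Nat.exists_eq_succ_of_ne_zero hj0
  have hkS : k₀ ^ 2 ^ j ∉ stabilizer R x := Nat.find_min hex (by omega)
  have hk2 : k₀ ^ 2 ^ j * k₀ ^ 2 ^ j ∈ stabilizer R x := by
    have := Nat.find_spec hex
    rw [hj, pow_succ, pow_mul, sq] at this
    exact this
  have hkN : k₀ ^ 2 ^ j ∈ Subgroup.normalizer (stabilizer R x : Set R) :=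
    Subgroup.pow_mem _ hk₀N _
  obtain ⟨k, hk⟩ : ∃ k : R, k = k₀ ^ 2 ^ j := ⟨_, rfl⟩
  rw [← hk] at hkS hk2 hkN
  refine ⟨(k : H), k.2, ?_, ?_, ?_⟩
  · intro h
    exact hkS h
  · have := hk2
    rw [mem_stabilizer_iff, mul_smul] at this
    exact this
  · intro s hs hsx
    have hsS : (⟨s, hs⟩ : R) ∈ stabilizer R x := hsx
    have hkinv : k⁻¹ ∈ Subgroup.normalizer (stabilizer R x : Set R) := Subgroup.inv_mem _ hkN
    have h1 := (Subgroup.mem_normalizer_iff.mp hkinv ⟨s, hs⟩).mp hsS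
    rw [inv_inv, mem_stabilizer_iff, mul_smul, mul_smul, inv_smul_eq_iff] at h1
    exact h1

/-- A `2`-group acting without fixed points commutes with a fixed-point-free involution. -/
theorem exists_fpf_involution (R : Subgroup H) (hR : IsPGroup 2 R)
    (hmove : ∀ x : α, ∃ r ∈ R, r • x ≠ x) :
    ∃ τ : Equiv.Perm α, (∀ x, τ x ≠ x) ∧ (∀ x, τ (τ x) = x) ∧
      ∀ r ∈ R, ∀ x, τ (r • x) = r • τ x := by
  have hP := fun x => exists_normalizing_involution R hR x (hmove x)
  choose k hkR hk1 hk2 hk3 using hP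
  -- orbit representatives
  obtain ⟨rep, hrep⟩ : ∃ rep : α → α, ∀ x, rep x =
      (Quotient.mk'' x : orbitRel.Quotient R α).out := ⟨_, fun _ => rfl⟩
  have hrep1 : ∀ x, ∃ r ∈ R, r • rep x = x := by
    intro x
    have h1 : (Quotient.mk'' (rep x) : orbitRel.Quotient R α) = Quotient.mk'' x := by
      rw [hrep]
      exact Quotient.out_eq' _
    have h2 : x ∈ orbit R (rep x) := by
      have := Quotient.eq''.mp h1.symm
      exact orbitRel_apply.mp this
    obtain ⟨⟨r, hr⟩, hrx⟩ := h2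
    exact ⟨r, hr, hrx⟩
  have hrep2 : ∀ x, ∀ r ∈ R, rep (r • x) = rep x := by
    intro x r hr
    rw [hrep, hrep]
    congr 1
    apply Quotient.sound'
    exact orbitRel_apply.mpr ⟨⟨r, hr⟩, rfl⟩
  have hrep3 : ∀ x, rep (rep x) = rep x := by
    intro x
    obtain ⟨r, hr, hrx⟩ := hrep1 x
    calc rep (rep x) = rep (r • rep x) := (hrep2 (rep x) r hr).symm
      _ = rep x := by rw [hrx]
  choose g hgR hg using hrep1
  -- the involution
  obtain ⟨f, hf⟩ : ∃ f : α → α, ∀ x, f x = g x • k (rep x) • rep x := ⟨_, fun _ => rfl⟩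
  have hW : ∀ x, ∀ r ∈ R, r • rep x = x → f x = r • k (rep x) • rep x := by
    intro x r hr hrx
    rw [hf]
    have hs : (r⁻¹ * g x) • rep x = rep x := by
      rw [mul_smul, hg x, inv_smul_eq_iff, hrx]
    have := hk3 (rep x) (r⁻¹ * g x) (R.mul_mem (R.inv_mem hr) (hgR x)) hs
    rw [mul_smul, inv_smul_eq_iff] at this
    exact this
  have hcomm : ∀ r ∈ R, ∀ x, f (r • x) = r • f x := by
    intro r hr x
    have h1 : (r * g x) • rep (r • x) = r • x := by
      rw [hrep2 x r hr, mul_smul, hg x]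
    rw [hW (r • x) (r * g x) (R.mul_mem hr (hgR x)) h1, hrep2 x r hr, hf, mul_smul]
  have hinv : Function.Involutive f := by
    intro x
    have hfx : f x = (g x * k (rep x)) • rep x := by rw [hf, mul_smul]
    have hmem : g x * k (rep x) ∈ R := R.mul_mem (hgR x) (hkR _)
    have hrepf : rep (f x) = rep x := by
      rw [hfx, hrep2 _ _ hmem, hrep3]
    have h1 : (g x * k (rep x)) • rep (f x) = f x := by rw [hrepf, hfx]
    rw [hW (f x) (g x * k (rep x)) hmem h1, hrepf, mul_smul, hk2, hg x]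
  refine ⟨hinv.toPerm f, ?_, ?_, ?_⟩
  · intro x h
    rw [Function.Involutive.coe_toPerm, hf] at h
    have h2 : g x • k (rep x) • rep x = g x • rep x := by rw [h, hg x]
    exact hk1 (rep x) (smul_left_cancel (g x) h2)
  · intro x
    rw [Function.Involutive.coe_toPerm]
    exact hinv x
  · intro r hr x
    rw [Function.Involutive.coe_toPerm]
    exact hcomm r hr x

/-- A transitive `2`-group preserves a partition into two halves. -/
theorem exists_half_block [Finite α] (R : Subgroup H) (hR : IsPGroup 2 R) (x : α)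
    (htr : ∀ y : α, ∃ r ∈ R, r • x = y) (hn : 2 ≤ Nat.card α) :
    ∃ Δ : Set α, Nat.card α = 2 * Δ.ncard ∧ ∀ r ∈ R, r • Δ = Δ ∨ r • Δ = Δᶜ := by
  obtain ⟨e, he⟩ := hR.exists_card_eq
  obtain ⟨e', he'⟩ := (hR.to_subgroup (stabilizer R x)).exists_card_eq
  have hidx : (stabilizer R x).index = Nat.card α := by
    rw [index_stabilizer]
    have : orbit R x = Set.univ := by
      ext w
      simp only [Set.mem_univ, iff_true]
      obtain ⟨r, hr, hrw⟩ := htr w
      exact ⟨⟨r, hr⟩, hrw⟩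
    rw [this, Set.ncard_univ]
  have hmul := Subgroup.card_mul_index (stabilizer R x)
  rw [he, he', hidx] at hmul
  have hlt : e' < e := by
    by_contra hge
    push Not at hge
    have h1 : 2 ^ e ≤ 2 ^ e' := Nat.pow_le_pow_right (by norm_num) hge
    have h2 : 2 ^ e' * 2 ≤ 2 ^ e' * Nat.card α := Nat.mul_le_mul_left _ hn
    have h3 : 0 < 2 ^ e' := by positivity
    omega
  obtain ⟨K, hKcard, hSK⟩ := Sylow.exists_subgroup_card_pow_prime_le 2
    (show 2 ^ (e - 1) ∣ Nat.card R by rw [he]; exact pow_dvd_pow 2 (by omega))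
    (stabilizer R x) he' (by omega : e' ≤ e - 1)
  have hKidx : K.index = 2 := by
    have h1 := Subgroup.card_mul_index K
    rw [hKcard, he] at h1
    have h2 : 2 ^ e = 2 ^ (e - 1) * 2 := by
      rw [← pow_succ]
      congr 1
      omega
    rw [h2] at h1
    exact Nat.eq_of_mul_eq_mul_left (by positivity) h1
  obtain ⟨Δ, hΔ⟩ : ∃ Δ : Set α, Δ = {y | ∃ k ∈ K, (k : H) • x = y} := ⟨_, rfl⟩
  have hin : ∀ r (hr : r ∈ R), (⟨r, hr⟩ : R) ∈ K → r • Δ = Δ := by
    intro r hr hrK
    ext y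
    rw [Set.mem_smul_set_iff_inv_smul_mem, hΔ]
    simp only [Set.mem_ofPred_eq]
    constructor
    · rintro ⟨k, hk, hky⟩
      refine ⟨⟨r, hr⟩ * k, K.mul_mem hrK hk, ?_⟩
      rw [Subgroup.coe_mul, mul_smul, hky, smul_inv_smul]
    · rintro ⟨k, hk, hky⟩
      refine ⟨(⟨r, hr⟩ : R)⁻¹ * k, K.mul_mem (K.inv_mem hrK) hk, ?_⟩
      rw [Subgroup.coe_mul, mul_smul, hky]
      rfl
  have hout : ∀ r (hr : r ∈ R), (⟨r, hr⟩ : R) ∉ K → r • Δ = Δᶜ := by
    intro r hr hrK
    ext y
    rw [Set.mem_smul_set_iff_inv_smul_mem, Set.mem_compl_iff, hΔ]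
    simp only [Set.mem_ofPred_eq]
    constructor
    · rintro ⟨k, hk, hky⟩ ⟨k', hk', hk'y⟩
      apply hrK
      have h1 : (k⁻¹ * (⟨r, hr⟩ : R)⁻¹ * k') ∈ stabilizer R x := by
        rw [mem_stabilizer_iff, mul_smul, mul_smul, inv_smul_eq_iff]
        change (k' : H) • x = _ at hk'y
        change ((⟨r, hr⟩ : R)⁻¹ : R) • (k' • x) = k • x
        rw [show (k' • x : α) = y from hk'y]
        exact hky.symm
      have h2 := hSK h1
      have h3 : (⟨r, hr⟩ : R)⁻¹ ∈ K := by
        have := K.mul_mem (K.mul_mem hk h2) (K.inv_mem hk')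
        rw [show k * (k⁻¹ * (⟨r, hr⟩ : R)⁻¹ * k') * k'⁻¹ = (⟨r, hr⟩ : R)⁻¹ by group] at this
        exact this
      exact (K.inv_mem_iff).mp h3
    · intro hy
      obtain ⟨r₁, hr₁, hr₁y⟩ := htr y
      have hr₁K : (⟨r₁, hr₁⟩ : R) ∉ K := fun h => hy ⟨⟨r₁, hr₁⟩, h, hr₁y⟩
      have hprod : (⟨r, hr⟩ : R)⁻¹ * ⟨r₁, hr₁⟩ ∈ K := by
        rw [Subgroup.mul_mem_iff_of_index_two hKidx]
        constructor
        · intro h
          exact absurd ((K.inv_mem_iff).mp h) hrK
        · intro h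
          exact absurd h hr₁K
      refine ⟨_, hprod, ?_⟩
      rw [Subgroup.coe_mul, mul_smul, ← hr₁y]
      rfl
  have hKtop : K ≠ ⊤ := by
    intro h
    rw [h, Subgroup.index_top] at hKidx
    omega
  obtain ⟨r₀, hr₀⟩ : ∃ r₀ : R, r₀ ∉ K := by
    by_contra hall
    push Not at hall
    exact hKtop (eq_top_iff.mpr fun r _ => hall r)
  refine ⟨Δ, ?_, ?_⟩
  · have h1 := hout r₀.1 r₀.2 hr₀
    have h2 := Set.ncard_smul_set r₀.1 Δ
    rw [h1] at h2
    have h3 := Set.ncard_add_ncard_compl Δ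
    omega
  · intro r hr
    by_cases hrK : (⟨r, hr⟩ : R) ∈ K
    · exact Or.inl (hin r hr hrK)
    · exact Or.inr (hout r hr hrK)

end sylow

end Cfsg.Agent.H43
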