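import Mathlib
import Cfsg.Agent.H43.UMDesign
import Cfsg.Agent.H43.UMSylow

/-!
# Sylow `2`-subgroups lying in a unique maximal subgroup: the generic argument

The argument is written for an abstract finite group `H` acting on a finite set `α` and
satisfying the hypotheses `UMHyp`, which hold for the symmetric and the alternating groups.
-/

set_option autoImplicit false

namespace Cfsg.Agent.H43

open MulAction Equiv
open scoped Pointwise

/-- Hypotheses shared by the symmetric and alternating groups. -/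
structure UMHyp (H α : Type*) [Group H] [Fintype α] [DecidableEq α] [MulAction H α] : Prop where
  two_trans : ∀ a b c d : α, a ≠ b → c ≠ d → ∃ g : H, g • a = c ∧ g • b = d
  coatom : ∀ s : Set α, s.Nonempty → sᶜ.Nonempty → Nat.card α ≠ 2 * s.ncard →
    IsCoatom (stabilizer H s)
  even : ∀ σ : Perm α, Perm.sign σ = 1 → ∃ g : H, ∀ x, g • x = σ x
  prim_stab : ∀ (M : Subgroup H) (s : Set α), 2 ≤ s.ncard → stabilizer H s ≤ M →
    IsPreprimitive M α → M = ⊤
  prim_sylow : ∀ (R : Sylow 2 H) (M : Subgroup H) (x₀ : α), (R : Subgroup H) ≤ M →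
    IsPreprimitive M α → (∀ y z, y ≠ x₀ → z ≠ x₀ → ∃ m ∈ M, m • x₀ = x₀ ∧ m • y = z) →
    Odd (Nat.card α) → (Nat.card α = 5 ∨ 9 ≤ Nat.card α) → M = ⊤

section realize

variable {H α : Type*} [Group H] [Fintype α] [DecidableEq α] [MulAction H α]

/-- Realizing a `3`-cycle. -/
theorem UMHyp.exists_three (hyp : UMHyp H α) {p q e : α} (hpq : p ≠ q) (hpe : p ≠ e)
    (hqe : q ≠ e) :
    ∃ g : H, g • p = q ∧ g • q = e ∧ g • e = p ∧ ∀ x, x ≠ p → x ≠ q → x ≠ e → g • x = x := by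
  obtain ⟨g, hg⟩ := hyp.even (swap p e * swap p q) (by
    rw [map_mul, Perm.sign_swap hpe, Perm.sign_swap hpq]; simp)
  refine ⟨g, ?_, ?_, ?_, ?_⟩
  · rw [hg, Perm.mul_apply, swap_apply_left, swap_apply_of_ne_of_ne hpq.symm hqe]
  · rw [hg, Perm.mul_apply, swap_apply_right, swap_apply_left]
  · rw [hg, Perm.mul_apply, swap_apply_of_ne_of_ne hpe.symm hqe.symm, swap_apply_right]
  · intro x h1 h2 h3
    rw [hg, Perm.mul_apply, swap_apply_of_ne_of_ne h1 h2, swap_apply_of_ne_of_ne h1 h3]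

/-- Realizing a product of two transpositions. -/
theorem UMHyp.exists_double (hyp : UMHyp H α) {a b c d : α} (hab : a ≠ b) (hcd : c ≠ d) :
    ∃ g : H, ∀ x, g • x = (swap a b * swap c d) x :=
  hyp.even _ (by rw [map_mul, Perm.sign_swap hab, Perm.sign_swap hcd]; simp)

omit [DecidableEq α] in
/-- A set with at least four elements has an element avoiding three given ones. -/
theorem exists_mem_not3 (T : Set α) (h : 4 ≤ T.ncard) (p q e : α) :
    ∃ f ∈ T, f ≠ p ∧ f ≠ q ∧ f ≠ e := by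
  classical
  have h3 : ({p, q, e} : Set α).ncard < T.ncard := by
    have h4 : ({p, q, e} : Set α).ncard ≤ 3 := by
      have h5 := Set.ncard_coe_finset ({p, q, e} : Finset α)
      have h' : (({p, q, e} : Finset α) : Set α) = {p, q, e} := by
        push_cast
        rfl
      rw [h'] at h5
      rw [h5]
      exact Finset.card_le_three
    omega
  obtain ⟨f, hfT, hf⟩ := Set.exists_mem_notMem_of_ncard_lt_ncard h3 (Set.toFinite _)
  exact ⟨f, hfT, fun h => hf (by simp [h]), fun h => hf (by simp [h]), fun h => hf (by simp [h])⟩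

/-- `3`-cycles inside a set whose stabilizer lies in `M`. -/
theorem UMHyp.three_in (hyp : UMHyp H α) (M : Subgroup H) (T : Set α)
    (hT : stabilizer H T ≤ M) {p q e : α} (hp : p ∈ T) (hq : q ∈ T) (he : e ∈ T)
    (hpq : p ≠ q) (hpe : p ≠ e) (hqe : q ≠ e) :
    ∃ m ∈ M, m • p = q ∧ m • q = e ∧ ∀ x, x ≠ p → x ≠ q → x ≠ e → m • x = x := by
  obtain ⟨g, h1, h2, h3, h4⟩ := hyp.exists_three hpq hpe hqe
  refine ⟨g, hT ?_, h1, h2, h4⟩
  rw [mem_stabilizer_set' (Set.toFinite T)]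
  intro x hx
  by_cases hxp : x = p
  · rw [hxp, h1]; exact hq
  by_cases hxq : x = q
  · rw [hxq, h2]; exact he
  by_cases hxe : x = e
  · rw [hxe, h3]; exact hp
  rw [h4 x hxp hxq hxe]
  exact hx

/-- A block of `M` containing two points, one of them in `T`, contains `T`. -/
theorem UMHyp.block_contains (hyp : UMHyp H α) (M : Subgroup H) (T : Set α)
    (hT : stabilizer H T ≤ M) (h4 : 4 ≤ T.ncard) (B : Set α) (hB : IsBlock M B)
    {p q : α} (hp : p ∈ B) (hq : q ∈ B) (hqT : q ∈ T) (hpq : p ≠ q) : T ⊆ B := by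
  intro e heT
  by_cases heq : e = q
  · rw [heq]; exact hq
  by_cases hep : e = p
  · rw [hep]; exact hp
  obtain ⟨f, hfT, hfp, hfq, hfe⟩ := exists_mem_not3 T h4 p q e
  obtain ⟨m, hmM, hm1, -, hm3⟩ := hyp.three_in M T hT hqT heT hfT (Ne.symm heq)
    (Ne.symm hfq) (Ne.symm hfe)
  have hmp : m • p = p := hm3 p hpq (Ne.symm hep) (Ne.symm hfp)
  have hfix : (⟨m, hmM⟩ : M) • B = B := by
    apply (isBlock_iff_smul_eq_of_mem.mp hB) hp
    change m • p ∈ B
    rw [hmp]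
    exact hp
  have : (⟨m, hmM⟩ : M) • q ∈ (⟨m, hmM⟩ : M) • B := Set.smul_mem_smul_set hq
  rw [hfix] at this
  change m • q ∈ B at this
  rw [hm1] at this
  exact this

/-- A block of `M` with two points, one of them in `T`, is everything, as soon as `T` is not
itself a block. -/
theorem UMHyp.block_univ (hyp : UMHyp H α) (M : Subgroup H) (T : Set α)
    (hT : stabilizer H T ≤ M) (h4 : 4 ≤ T.ncard) (h4' : 4 ≤ Tᶜ.ncard)
    (g₀ : H) (hg₀ : g₀ ∈ M) (a c : α) (ha : a ∈ T) (hga : g₀ • a ∉ T)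
    (hc : c ∈ T) (hgc : g₀ • c ∈ T)
    (B : Set α) (hB : IsBlock M B)
    {p q : α} (hp : p ∈ B) (hq : q ∈ B) (hqT : q ∈ T) (hpq : p ≠ q) : B = Set.univ := by
  have hTB : T ⊆ B := hyp.block_contains M T hT h4 B hB hp hq hqT hpq
  have hex : ∃ p' ∈ B, p' ∉ T := by
    by_contra hcon
    push Not at hcon
    have hBT : B = T := Set.Subset.antisymm hcon hTB
    have hfix : (⟨g₀, hg₀⟩ : M) • B = B := by
      apply (isBlock_iff_smul_eq_of_mem.mp hB) (hTB hc)
      change g₀ • c ∈ B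
      exact hTB hgc
    have : (⟨g₀, hg₀⟩ : M) • a ∈ (⟨g₀, hg₀⟩ : M) • B := Set.smul_mem_smul_set (hTB ha)
    rw [hfix, hBT] at this
    exact hga this
  obtain ⟨p', hp'B, hp'T⟩ := hex
  have hT' : stabilizer H Tᶜ ≤ M := by
    rw [stabilizer_compl]
    exact hT
  have hTcB : Tᶜ ⊆ B := hyp.block_contains M Tᶜ hT' h4' B hB hq hp'B hp'T
    (fun h => hp'T (h ▸ hqT))
  apply Set.eq_univ_of_forall
  intro x
  by_cases hx : x ∈ T
  · exact hTB hx
  · exact hTcB hx

/-- If `M` contains the stabilizer of `S`, and an element which breaks both `S` and its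
complement, then `M` is primitive. -/
theorem UMHyp.prim_of_two_sides (hyp : UMHyp H α) (M : Subgroup H) (S : Set α)
    (h1 : 4 ≤ S.ncard) (h2 : 4 ≤ Sᶜ.ncard) (hS : stabilizer H S ≤ M)
    (g₀ : H) (hg₀ : g₀ ∈ M) (a b c c' : α) (ha : a ∈ S) (hga : g₀ • a ∉ S)
    (hb : b ∉ S) (hgb : g₀ • b ∈ S)
    (hc : c ∈ S) (hgc : g₀ • c ∈ S) (hc' : c' ∉ S) (hgc' : g₀ • c' ∉ S) :
    IsPreprimitive M α := by
  have hS' : stabilizer H Sᶜ ≤ M := by
    rw [stabilizer_compl]
    exact hS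
  -- connectivity inside a side
  have hside : ∀ T : Set α, stabilizer H T ≤ M → 4 ≤ T.ncard → ∀ x y, x ∈ T → y ∈ T →
      ∃ m ∈ M, m • x = y := by
    intro T hT h4 x y hx hy
    by_cases hxy : x = y
    · exact ⟨1, M.one_mem, by rw [one_smul, hxy]⟩
    obtain ⟨f, hfT, hfx, hfy, -⟩ := exists_mem_not3 T h4 x y y
    obtain ⟨m, hmM, hm1, -, -⟩ := hyp.three_in M T hT hx hy hfT hxy (Ne.symm hfx) (Ne.symm hfy)
    exact ⟨m, hmM, hm1⟩
  have htrans : ∀ x y : α, ∃ m ∈ M, m • x = y := by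
    intro x y
    by_cases hx : x ∈ S
    · by_cases hy : y ∈ S
      · exact hside S hS h1 x y hx hy
      · obtain ⟨m₁, hm₁, e₁⟩ := hside S hS h1 x a hx ha
        obtain ⟨m₂, hm₂, e₂⟩ := hside Sᶜ hS' h2 (g₀ • a) y hga hy
        refine ⟨m₂ * g₀ * m₁, M.mul_mem (M.mul_mem hm₂ hg₀) hm₁, ?_⟩
        rw [mul_smul, mul_smul, e₁, e₂]
    · by_cases hy : y ∈ S
      · obtain ⟨m₁, hm₁, e₁⟩ := hside Sᶜ hS' h2 x b hx hb
        obtain ⟨m₂, hm₂, e₂⟩ := hside S hS h1 (g₀ • b) y hgb hy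
        refine ⟨m₂ * g₀ * m₁, M.mul_mem (M.mul_mem hm₂ hg₀) hm₁, ?_⟩
        rw [mul_smul, mul_smul, e₁, e₂]
      · exact hside Sᶜ hS' h2 x y hx hy
  have : IsPretransitive M α := ⟨fun x y => by
    obtain ⟨m, hm, e⟩ := htrans x y
    exact ⟨⟨m, hm⟩, e⟩⟩
  refine IsPreprimitive.mk ?_
  intro B hB
  by_cases hsub : B.Subsingleton
  · exact Or.inl hsub
  right
  rw [Set.not_subsingleton_iff] at hsub
  obtain ⟨p, hp, q, hq, hpq⟩ := hsub
  by_cases hqS : q ∈ S
  · exact hyp.block_univ M S hS h1 h2 g₀ hg₀ a c ha hga hc hgc B hB hp hq hqS hpq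
  · have h1' : 4 ≤ Sᶜᶜ.ncard := by rw [compl_compl]; exact h1
    exact hyp.block_univ M Sᶜ hS' h2 h1' g₀ hg₀ b c' hb (fun h => h hgb) hc' hgc' B hB hp hq
      hqS hpq

end realize

section subgroups

variable (H : Type*) {α : Type*} [Group H] [MulAction H α]

/-- The subgroup of elements commuting with a permutation. -/
def commSub (τ : Perm α) : Subgroup H where
  carrier := {g | ∀ x, τ (g • x) = g • τ x}
  mul_mem' := by
    intro a b ha hb x
    rw [mul_smul, ha, hb, mul_smul]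
  one_mem' := by
    intro x
    rw [one_smul, one_smul]
  inv_mem' := by
    intro a ha x
    rw [eq_inv_smul_iff, ← ha, smul_inv_smul]

/-- The subgroup preserving the partition `{Δ, Δᶜ}`. -/
def partSub (Δ : Set α) : Subgroup H where
  carrier := {g | g • Δ = Δ ∨ g • Δ = Δᶜ}
  mul_mem' := by
    intro a b ha hb
    change (a * b) • Δ = Δ ∨ (a * b) • Δ = Δᶜ
    rw [mul_smul]
    rcases hb with hb | hb
    · rw [hb]
      exact ha
    · rw [hb, Set.smul_set_compl]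
      rcases ha with ha | ha
      · right
        rw [ha]
      · left
        rw [ha, compl_compl]
  one_mem' := Or.inl (one_smul _ _)
  inv_mem' := by
    intro a ha
    change a⁻¹ • Δ = Δ ∨ a⁻¹ • Δ = Δᶜ
    rcases ha with ha | ha
    · left
      rw [inv_smul_eq_iff, ha]
    · right
      rw [inv_smul_eq_iff, Set.smul_set_compl, ha, compl_compl]

variable {H}

/-- The orbit of a point under a subgroup, as an explicit set, is invariant. -/
theorem orbit_set_inv (R : Subgroup H) (y : α) (r : H) (hr : r ∈ R) :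
    r • {z | ∃ r ∈ R, r • y = z} = {z | ∃ r ∈ R, r • y = z} := by
  ext z
  rw [Set.mem_smul_set_iff_inv_smul_mem]
  constructor
  · rintro ⟨r', hr', e⟩
    refine ⟨r * r', R.mul_mem hr hr', ?_⟩
    rw [mul_smul, e, smul_inv_smul]
  · rintro ⟨r', hr', e⟩
    refine ⟨r⁻¹ * r', R.mul_mem (R.inv_mem hr) hr', ?_⟩
    rw [mul_smul, e]

/-- The orbit of a point under a subgroup, as an explicit set. -/
theorem orbit_set_eq (R : Subgroup H) (y : α) : {z | ∃ r ∈ R, r • y = z} = orbit R y := by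
  ext z
  constructor
  · rintro ⟨r, hr, e⟩
    exact ⟨⟨r, hr⟩, e⟩
  · rintro ⟨⟨r, hr⟩, e⟩
    exact ⟨r, hr, e⟩

end subgroups

section main

variable {H α : Type*} [Group H] [Finite H] [Fintype α] [DecidableEq α] [MulAction H α]

omit [Finite H] in
/-- An element commuting with `τ`, exchanging `a` and `b`, moving only `a, b, τ a, τ b`. -/
theorem UMHyp.exists_comm_double (hyp : UMHyp H α) (τ : Perm α) (hτ1 : ∀ x, τ x ≠ x)
    (hτ2 : ∀ x, τ (τ x) = x) {a b : α} (hab : a ≠ b) (hb : b ≠ τ a) :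
    ∃ g ∈ commSub H τ, g • a = b ∧ g • b = a ∧
      ∀ x, x ≠ a → x ≠ b → x ≠ τ a → x ≠ τ b → g • x = x := by
  have hab' : τ a ≠ τ b := fun h => hab (τ.injective h)
  have haτb : a ≠ τ b := by
    intro h
    apply hb
    rw [h, hτ2]
  have haτa : a ≠ τ a := fun h => hτ1 a h.symm
  have hbτb : b ≠ τ b := fun h => hτ1 b h.symm
  obtain ⟨g, hg⟩ := hyp.exists_double hab hab'
  have hconj : τ * (swap a b * swap (τ a) (τ b)) * τ⁻¹ = swap a b * swap (τ a) (τ b) := by
    rw [conj_swap_mul_swap, hτ2, hτ2]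
    have hd : Perm.Disjoint (swap a b) (swap (τ a) (τ b)) :=
      Perm.disjoint_swap_swap (by simp [hab, haτa, haτb, hb, hbτb, hab'])
    exact hd.commute.eq.symm
  refine ⟨g, ?_, ?_, ?_, ?_⟩
  · intro x
    rw [hg, hg]
    have h1 := congrArg (fun σ : Perm α => σ x) (mul_inv_eq_iff_eq_mul.mp hconj)
    exact h1
  · rw [hg, Perm.mul_apply, swap_apply_of_ne_of_ne haτa haτb, swap_apply_left]
  · rw [hg, Perm.mul_apply, swap_apply_of_ne_of_ne hb hbτb, swap_apply_right]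
  · intro x h1 h2 h3 h4
    rw [hg, Perm.mul_apply, swap_apply_of_ne_of_ne h3 h4, swap_apply_of_ne_of_ne h1 h2]

omit [Finite H] in
/-- Two sets with the same stabilizer, one a fixed point: contradiction. -/
theorem UMHyp.fixed_key (hyp : UMHyp H α) (h5 : 5 ≤ Nat.card α) (M : Subgroup H)
    (x₀ : α) (hx₀ : stabilizer H x₀ = M) (s : Set α) (hs : stabilizer H s = M)
    (y z : α) (hy : y ∈ s) (hz : z ∉ s) (hyx : y ≠ x₀) (hzx : z ≠ x₀) : False := by
  have hyz : y ≠ z := fun h => hz (h ▸ hy)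
  obtain ⟨w, -, hwx, hwy, hwz⟩ := exists_mem_not3 (Set.univ : Set α)
    (by rw [Set.ncard_univ]; omega) x₀ y z
  obtain ⟨g, h1, -, -, h4⟩ := hyp.exists_three hyz (Ne.symm hwy) (Ne.symm hwz)
  have hg : g ∈ stabilizer H x₀ := by
    rw [mem_stabilizer_iff]
    exact h4 x₀ (Ne.symm hyx) (Ne.symm hzx) (Ne.symm hwx)
  rw [hx₀, ← hs, mem_stabilizer_set' (Set.toFinite s)] at hg
  have := hg hy
  rw [h1] at this
  exact hz this

/-- The case where the Sylow subgroup has a fixed point. -/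
theorem UMHyp.case_fixed (hyp : UMHyp H α) (h5 : 5 ≤ Nat.card α)
    (R : Sylow 2 H) (M : Subgroup H)
    (hI : ∀ s : Set α, (∀ r ∈ (R : Subgroup H), r • s = s) → s.Nonempty → sᶜ.Nonempty →
      Nat.card α ≠ 2 * s.ncard → stabilizer H s = M)
    (x₀ : α) (hx₀ : ∀ r ∈ (R : Subgroup H), r • x₀ = x₀) :
    ∃ k, 2 ≤ k ∧ Nat.card α = 2 ^ k + 1 := by
  have hxc : ({x₀} : Set α)ᶜ.Nonempty := by
    rw [Set.nonempty_compl]
    intro h
    have := Set.ncard_singleton x₀
    rw [h, Set.ncard_univ] at this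
    omega
  have hstab : stabilizer H x₀ = M := by
    have := hI {x₀} (fun r hr => by rw [Set.smul_set_singleton, hx₀ r hr])
      (Set.singleton_nonempty _) hxc (by rw [Set.ncard_singleton]; omega)
    rwa [stabilizer_singleton] at this
  obtain ⟨y, hy⟩ := hxc
  have hyx : y ≠ x₀ := hy
  obtain ⟨O, hO⟩ : ∃ O : Set α, O = {z | ∃ r ∈ (R : Subgroup H), r • y = z} := ⟨_, rfl⟩
  have hyO : y ∈ O := by
    rw [hO]
    exact ⟨1, Subgroup.one_mem _, one_smul _ _⟩
  have hxO : x₀ ∉ O := by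
    rw [hO]
    rintro ⟨r, hr, hrx⟩
    apply hyx
    have h' : r • y = r • x₀ := hrx.trans (hx₀ r hr).symm
    exact smul_left_cancel r h'
  have hOinv : ∀ r ∈ (R : Subgroup H), r • O = O := by
    intro r hr
    rw [hO]
    exact orbit_set_inv _ y r hr
  by_cases hz : ∃ z, z ∉ O ∧ z ≠ x₀
  · exfalso
    obtain ⟨z, hzO, hzx⟩ := hz
    by_cases hn : Nat.card α = 2 * O.ncard
    · have hins : (insert x₀ O).ncard = O.ncard + 1 :=
        Set.ncard_insert_of_notMem hxO (Set.toFinite _)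
      have hzI : z ∉ insert x₀ O := by
        intro h
        rcases Set.mem_insert_iff.mp h with h | h
        · exact hzx h
        · exact hzO h
      have hs := hI (insert x₀ O)
        (fun r hr => by rw [Set.smul_set_insert, hx₀ r hr, hOinv r hr])
        ⟨x₀, Set.mem_insert _ _⟩ ⟨z, hzI⟩ (by rw [hins]; omega)
      exact hyp.fixed_key h5 M x₀ hstab (insert x₀ O) hs y z (Set.mem_insert_of_mem _ hyO) hzI
        hyx hzx
    · have hs := hI O hOinv ⟨y, hyO⟩ ⟨z, hzO⟩ hn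
      exact hyp.fixed_key h5 M x₀ hstab O hs y z hyO hzO hyx hzx
  · push Not at hz
    have hOeq : O = {x₀}ᶜ := by
      ext w
      simp only [Set.mem_compl_iff, Set.mem_singleton_iff]
      constructor
      · intro hw h
        exact hxO (h ▸ hw)
      · intro hw
        by_contra hwO
        exact hw (hz w hwO)
    obtain ⟨a, ha⟩ := orbit_ncard_two_pow (R : Subgroup H) R.isPGroup' y
    rw [← orbit_set_eq, ← hO] at ha
    have hcard : O.ncard + 1 = Nat.card α := by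
      rw [hOeq]
      have := Set.ncard_add_ncard_compl ({x₀} : Set α)
      rw [Set.ncard_singleton] at this
      omega
    refine ⟨a, ?_, ?_⟩
    · by_contra hlt
      push Not at hlt
      have : 2 ^ a ≤ 2 ^ 1 := Nat.pow_le_pow_right (by norm_num) (by omega)
      omega
    · omega

omit [Finite H] in
/-- The centralizer of a fixed-point-free involution is a proper subgroup. -/
theorem UMHyp.commSub_ne_top (hyp : UMHyp H α) (h5 : 5 ≤ Nat.card α) (τ : Perm α)
    (hτ1 : ∀ x, τ x ≠ x) : commSub H τ ≠ ⊤ := by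
  intro htop
  have hu : 4 ≤ (Set.univ : Set α).ncard := by rw [Set.ncard_univ]; omega
  obtain ⟨x, -⟩ : (Set.univ : Set α).Nonempty := by
    rw [← Set.ncard_pos (Set.toFinite _)]
    omega
  obtain ⟨b, -, hbx, hbτ, -⟩ := exists_mem_not3 (Set.univ : Set α) hu x (τ x) x
  obtain ⟨b', -, hb'x, hb'τ, hb'b⟩ := exists_mem_not3 (Set.univ : Set α) hu x (τ x) b
  obtain ⟨g, h1, -, -, h4⟩ := hyp.exists_three (Ne.symm hbτ) (Ne.symm hb'τ) (Ne.symm hb'b)
  have hg : g ∈ commSub H τ := by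
    rw [htop]
    trivial
  have h2 := hg x
  rw [h4 x (Ne.symm (hτ1 x)) (Ne.symm hbx) (Ne.symm hb'x), h1] at h2
  exact hbτ h2.symm

omit [Finite H] in
/-- The case of a half-sized set whose partition is preserved. -/
theorem UMHyp.case_half (hyp : UMHyp H α) (h5 : 5 ≤ Nat.card α) (h6 : Nat.card α ≠ 6)
    (R : Subgroup H) (M : Subgroup H) (hMco : IsCoatom M)
    (hK : ∀ K : Subgroup H, R ≤ K → K ≠ ⊤ → K ≤ M)
    (τ : Perm α) (hτ1 : ∀ x, τ x ≠ x) (hτ2 : ∀ x, τ (τ x) = x) (hK₁ : commSub H τ ≤ M)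
    (Δ : Set α) (hΔn : Nat.card α = 2 * Δ.ncard) (hΔR : R ≤ partSub H Δ) : False := by
  have hΔ4 : 4 ≤ Δ.ncard := by omega
  have hΔc4 : 4 ≤ Δᶜ.ncard := by
    have := Set.ncard_add_ncard_compl Δ
    omega
  have hP : partSub H Δ ≠ ⊤ := by
    intro htop
    obtain ⟨a₁, ha₁⟩ : Δ.Nonempty := by
      rw [← Set.ncard_pos (Set.toFinite _)]
      omega
    obtain ⟨a₂, ha₂, ha₂₁, -, -⟩ := exists_mem_not3 Δ hΔ4 a₁ a₁ a₁
    obtain ⟨c, hc⟩ : Δᶜ.Nonempty := by
      rw [← Set.ncard_pos (Set.toFinite _)]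
      omega
    obtain ⟨c', hc', hc'c, -, -⟩ := exists_mem_not3 Δᶜ hΔc4 c c c
    have ha₁c : a₁ ≠ c := fun h => hc (h ▸ ha₁)
    have ha₁c' : a₁ ≠ c' := fun h => hc' (h ▸ ha₁)
    obtain ⟨g, h1, -, -, h4⟩ := hyp.exists_three ha₁c ha₁c' (Ne.symm hc'c)
    have hg : g ∈ partSub H Δ := by
      rw [htop]
      trivial
    rcases hg with hg | hg
    · have : g • a₁ ∈ g • Δ := Set.smul_mem_smul_set ha₁
      rw [hg, h1] at this
      exact hc this
    · have : g • a₂ ∈ g • Δ := Set.smul_mem_smul_set ha₂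
      rw [hg, h4 a₂ ha₂₁ (fun h => hc (h ▸ ha₂)) (fun h => hc' (h ▸ ha₂))] at this
      exact this ha₂
  have hPM : partSub H Δ ≤ M := hK _ hΔR hP
  have hstab : stabilizer H Δ ≤ M := fun g hg => hPM (Or.inl (mem_stabilizer_iff.mp hg))
  obtain ⟨a, ha⟩ : Δ.Nonempty := by
    rw [← Set.ncard_pos (Set.toFinite _)]
    omega
  obtain ⟨b, hb, hbτ, -, -⟩ := exists_mem_not3 Δᶜ hΔc4 (τ a) (τ a) (τ a)
  have hab : a ≠ b := fun h => hb (h ▸ ha)
  obtain ⟨g₀, hg₀K, hg1, hg2, hg3⟩ := hyp.exists_comm_double τ hτ1 hτ2 hab hbτ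
  obtain ⟨c, hcΔ, hca, hcτa, hcτb⟩ := exists_mem_not3 Δ hΔ4 a (τ a) (τ b)
  obtain ⟨c', hc'Δ, hc'b, hc'τa, hc'τb⟩ := exists_mem_not3 Δᶜ hΔc4 b (τ a) (τ b)
  have hcb : c ≠ b := fun h => hb (h ▸ hcΔ)
  have hc'a : c' ≠ a := fun h => hc'Δ (h ▸ ha)
  have hprim := hyp.prim_of_two_sides M Δ hΔ4 hΔc4 hstab g₀ (hK₁ hg₀K) a b c c' ha
    (by rw [hg1]; exact hb) hb (by rw [hg2]; exact ha) hcΔ
    (by rw [hg3 c hca hcb hcτa hcτb]; exact hcΔ) hc'Δ
    (by rw [hg3 c' hc'a hc'b hc'τa hc'τb]; exact hc'Δ)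
  exact hMco.1 (hyp.prim_stab M Δ (by omega) hstab hprim)

/-- The case where the Sylow subgroup has no fixed point. -/
theorem UMHyp.case_nofixed (hyp : UMHyp H α) (h5 : 5 ≤ Nat.card α) (h6 : Nat.card α ≠ 6)
    (R : Sylow 2 H) (M : Subgroup H) (hMco : IsCoatom M)
    (hK : ∀ K : Subgroup H, (R : Subgroup H) ≤ K → K ≠ ⊤ → K ≤ M)
    (hI : ∀ s : Set α, (∀ r ∈ (R : Subgroup H), r • s = s) → s.Nonempty → sᶜ.Nonempty →
      Nat.card α ≠ 2 * s.ncard → stabilizer H s = M)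
    (hmove : ∀ x : α, ∃ r ∈ (R : Subgroup H), r • x ≠ x) : False := by
  obtain ⟨τ, hτ1, hτ2, hτ3⟩ := exists_fpf_involution (R : Subgroup H) R.isPGroup' hmove
  have hK₁ : commSub H τ ≤ M := hK _ (fun r hr => hτ3 r hr) (hyp.commSub_ne_top h5 τ hτ1)
  by_cases hU : ∃ s : Set α, (∀ r ∈ (R : Subgroup H), r • s = s) ∧ s.Nonempty ∧ sᶜ.Nonempty ∧
      Nat.card α ≠ 2 * s.ncard
  · obtain ⟨s, hsinv, hs1, hs2, hs3⟩ := hU
    have hM := hI s hsinv hs1 hs2 hs3
    obtain ⟨a, ha⟩ := hs1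
    obtain ⟨b₀, hb₀⟩ := hs2
    obtain ⟨r, hr, hrb⟩ := hmove b₀
    have hrb₀ : r • b₀ ∉ s := by
      intro h
      rw [← hsinv r hr] at h
      exact hb₀ ((Set.smul_mem_smul_set_iff).mp h)
    obtain ⟨b, hb, hbτ⟩ : ∃ b, b ∉ s ∧ b ≠ τ a := by
      by_cases h : b₀ = τ a
      · exact ⟨r • b₀, hrb₀, fun h' => hrb (h'.trans h.symm)⟩
      · exact ⟨b₀, hb₀, h⟩
    have hab : a ≠ b := fun h => hb (h ▸ ha)
    obtain ⟨g₀, hg₀K, hg1, -, -⟩ := hyp.exists_comm_double τ hτ1 hτ2 hab hbτ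
    have hg₀ : g₀ ∈ stabilizer H s := by
      rw [hM]
      exact hK₁ hg₀K
    rw [mem_stabilizer_set' (Set.toFinite s)] at hg₀
    have := hg₀ ha
    rw [hg1] at this
    exact hb this
  · push Not at hU
    obtain ⟨x, -⟩ : (Set.univ : Set α).Nonempty := by
      rw [← Set.ncard_pos (Set.toFinite _)]
      rw [Set.ncard_univ]
      omega
    by_cases htr : ∀ y : α, ∃ r ∈ (R : Subgroup H), r • x = y
    · obtain ⟨Δ, hΔn, hΔR⟩ := exists_half_block (R : Subgroup H) R.isPGroup' x htr (by omega)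
      exact hyp.case_half h5 h6 (R : Subgroup H) M hMco hK τ hτ1 hτ2 hK₁ Δ hΔn
        (fun r hr => hΔR r hr)
    · push Not at htr
      obtain ⟨y, hy⟩ := htr
      have hinv := orbit_set_inv (R : Subgroup H) x
      have hn : Nat.card α = 2 * ({z | ∃ r ∈ (R : Subgroup H), r • x = z} : Set α).ncard :=
        hU _ hinv ⟨x, 1, Subgroup.one_mem _, one_smul _ _⟩ ⟨y, fun ⟨r, hr, e⟩ => hy r hr e⟩
      exact hyp.case_half h5 h6 (R : Subgroup H) M hMco hK τ hτ1 hτ2 hK₁ _ hn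
        (fun r hr => Or.inl (hinv r hr))

/-- Uniqueness of the maximal subgroup forces the degree to be `2 ^ k + 1`. -/
theorem UMHyp.pow_of_unique (hyp : UMHyp H α) (h5 : 5 ≤ Nat.card α) (h6 : Nat.card α ≠ 6)
    (R : Sylow 2 H) (M : Subgroup H) (hMco : IsCoatom M)
    (huniq : ∀ M' : Subgroup H, IsCoatom M' → (R : Subgroup H) ≤ M' → M' = M) :
    ∃ k, 2 ≤ k ∧ Nat.card α = 2 ^ k + 1 := by
  have hK : ∀ K : Subgroup H, (R : Subgroup H) ≤ K → K ≠ ⊤ → K ≤ M := by
    intro K hRK hK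
    rcases IsCoatomic.eq_top_or_exists_le_coatom K with h | ⟨M', hM', hKM'⟩
    · exact absurd h hK
    · rw [← huniq M' hM' (hRK.trans hKM')]
      exact hKM'
  have hI : ∀ s : Set α, (∀ r ∈ (R : Subgroup H), r • s = s) → s.Nonempty → sᶜ.Nonempty →
      Nat.card α ≠ 2 * s.ncard → stabilizer H s = M := by
    intro s hinv h1 h2 h3
    exact huniq _ (hyp.coatom s h1 h2 h3) (fun r hr => mem_stabilizer_iff.mpr (hinv r hr))
  by_cases hfix : ∃ x₀ : α, ∀ r ∈ (R : Subgroup H), r • x₀ = x₀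
  · obtain ⟨x₀, hx₀⟩ := hfix
    exact hyp.case_fixed h5 R M hI x₀ hx₀
  · push Not at hfix
    exact (hyp.case_nofixed h5 h6 R M hMco hK hI hfix).elim

/-- In degree `2 ^ k + 1`, a Sylow `2`-subgroup lies in a unique maximal subgroup. -/
theorem UMHyp.unique_of_pow (hyp : UMHyp H α) (R : Sylow 2 H) (k : ℕ) (hk2 : 2 ≤ k)
    (hk : Nat.card α = 2 ^ k + 1) :
    ∃! M : Subgroup H, IsCoatom M ∧ (R : Subgroup H) ≤ M := by
  have h4 : 2 ^ 2 ≤ 2 ^ k := Nat.pow_le_pow_right (by norm_num) hk2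
  have hodd : Odd (Nat.card α) := by
    rw [hk]
    refine ⟨2 ^ (k - 1), ?_⟩
    have : 2 ^ k = 2 * 2 ^ (k - 1) := by
      rw [← pow_succ']
      congr 1
      omega
    omega
  have hn5 : Nat.card α = 5 ∨ 9 ≤ Nat.card α := by
    rw [hk]
    rcases Nat.lt_or_ge k 3 with h | h
    · left
      have : k = 2 := by omega
      rw [this]
      norm_num
    · right
      have : 2 ^ 3 ≤ 2 ^ k := Nat.pow_le_pow_right (by norm_num) h
      omega
  obtain ⟨x₀, hfix⟩ := sylow_exists_fixed hodd R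
  have htr := sylow_trans_rest hyp.two_trans R x₀ hfix k hk
  have hco : IsCoatom (stabilizer H x₀) := by
    have hxc : ({x₀} : Set α)ᶜ.Nonempty := by
      rw [Set.nonempty_compl]
      intro h
      have := Set.ncard_singleton x₀
      rw [h, Set.ncard_univ] at this
      omega
    have := hyp.coatom {x₀} (Set.singleton_nonempty x₀) hxc
      (by rw [Set.ncard_singleton]; omega)
    rwa [stabilizer_singleton] at this
  refine ⟨stabilizer H x₀, ⟨hco, fun r hr => hfix r hr⟩, ?_⟩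
  rintro M ⟨hMco, hRM⟩
  by_cases hMt : ∀ y, ∃ m ∈ M, m • x₀ = y
  · exfalso
    apply hMco.1
    have hprim : IsPreprimitive M α := by
      have : IsPretransitive M α := ⟨fun x y => by
        obtain ⟨m₁, hm₁, e₁⟩ := hMt x
        obtain ⟨m₂, hm₂, e₂⟩ := hMt y
        refine ⟨⟨m₂ * m₁⁻¹, M.mul_mem hm₂ (M.inv_mem hm₁)⟩, ?_⟩
        change (m₂ * m₁⁻¹) • x = y
        rw [mul_smul, ← e₁, inv_smul_smul, e₂]⟩
      refine IsPreprimitive.mk ?_
      intro B hB
      by_cases hsub : B.Subsingleton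
      · exact Or.inl hsub
      right
      rw [Set.not_subsingleton_iff] at hsub
      obtain ⟨p, hp, q, hq, hpq⟩ := hsub
      obtain ⟨m, hm, e⟩ := hMt p
      apply Set.eq_univ_of_forall
      intro w
      by_cases hw : m⁻¹ • w = x₀
      · have : w = p := by
          rw [← e, ← hw, smul_inv_smul]
        rw [this]
        exact hp
      · have hy : m⁻¹ • q ≠ x₀ := by
          intro h
          apply hpq
          rw [← e, ← h, smul_inv_smul]
        obtain ⟨r, hr, hrw⟩ := htr (m⁻¹ • q) (m⁻¹ • w) hy hw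
        have hgM : m * r * m⁻¹ ∈ M := M.mul_mem (M.mul_mem hm (hRM hr)) (M.inv_mem hm)
        have hgp : (m * r * m⁻¹) • p = p := by
          rw [mul_smul, mul_smul, ← e, inv_smul_smul, hfix r hr]
        have hgq : (m * r * m⁻¹) • q = w := by
          rw [mul_smul, mul_smul, hrw, smul_inv_smul]
        have hfixB : (⟨m * r * m⁻¹, hgM⟩ : M) • B = B := by
          apply (isBlock_iff_smul_eq_of_mem.mp hB) hp
          change (m * r * m⁻¹) • p ∈ B
          rw [hgp]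
          exact hp
        have : (⟨m * r * m⁻¹, hgM⟩ : M) • q ∈ (⟨m * r * m⁻¹, hgM⟩ : M) • B :=
          Set.smul_mem_smul_set hq
        rw [hfixB] at this
        change (m * r * m⁻¹) • q ∈ B at this
        rw [hgq] at this
        exact this
    exact hyp.prim_sylow R M x₀ hRM hprim
      (fun y z hy hz => by
        obtain ⟨r, hr, e⟩ := htr y z hy hz
        exact ⟨r, hRM hr, hfix r hr, e⟩) hodd hn5
  · push Not at hMt
    obtain ⟨y₀, hy₀⟩ := hMt
    have hle : M ≤ stabilizer H x₀ := by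
      intro m hm
      rw [mem_stabilizer_iff]
      by_contra hne
      have hy₀x : y₀ ≠ x₀ := fun h => hy₀ 1 M.one_mem (by rw [one_smul, h])
      obtain ⟨r, hr, hrz⟩ := htr (m • x₀) y₀ hne hy₀x
      exact hy₀ (r * m) (M.mul_mem (hRM hr) hm) (by rw [mul_smul, hrz])
    exact ((hMco.le_iff_eq hco.1).mp hle).symm

/-- The generic theorem. -/
theorem UMHyp.um_iff (hyp : UMHyp H α) (h5 : 5 ≤ Nat.card α) (h6 : Nat.card α ≠ 6)
    (R : Sylow 2 H) :
    (∃! M : Subgroup H, IsCoatom M ∧ (R : Subgroup H) ≤ M) ↔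
      ∃ k, 2 ≤ k ∧ Nat.card α = 2 ^ k + 1 := by
  constructor
  · rintro ⟨M, ⟨hMco, -⟩, huniq⟩
    exact hyp.pow_of_unique h5 h6 R M hMco (fun M' h1 h2 => huniq M' ⟨h1, h2⟩)
  · rintro ⟨k, hk2, hk⟩
    exact hyp.unique_of_pow R k hk2 hk

end main

end Cfsg.Agent.H43
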