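import Mathlib
import Cfsg.Agent.H43.UMMain

/-!
# The symmetric and alternating groups satisfy the hypotheses `UMHyp`
-/

set_option autoImplicit false
set_option linter.unusedSimpArgs false

namespace Cfsg.Agent.H43

open MulAction Equiv
open scoped Pointwise

section conj

open Subgroup in
/-- Two commuting involutions can be conjugated simultaneously into a Sylow `2`-subgroup. -/
theorem exists_conj_mem_sylow_two {G : Type*} [Group G] [Finite G] (s t : G)
    (hs : s ^ 2 = 1) (ht : t ^ 2 = 1) (hst : s * t = t * s) (P : Sylow 2 G) :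
    ∃ g : G, g * s * g⁻¹ ∈ (P : Subgroup G) ∧ g * t * g⁻¹ ∈ (P : Subgroup G) := by
  have hpg : ∀ r : G, r ^ 2 = 1 → IsPGroup 2 (zpowers r) := by
    intro r hr
    rintro ⟨g, hg⟩
    obtain ⟨k, rfl⟩ := mem_zpowers_iff.mp hg
    refine ⟨1, Subtype.ext ?_⟩
    change (r ^ k) ^ (2 ^ 1) = 1
    rw [← zpow_natCast, ← zpow_mul, mul_comm, zpow_mul, zpow_natCast]
    norm_num [hr]
  have hc : ∀ k : ℤ, s * t ^ k * s⁻¹ = t ^ k := by
    intro k
    have h := (Commute.zpow_right (show Commute s t from hst) k).eq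
    rw [h, mul_inv_cancel_right]
  have hsn : s ∈ normalizer ((zpowers t : Subgroup G) : Set G) := by
    rw [mem_normalizer_iff]
    intro h
    constructor
    · intro hh
      obtain ⟨k, rfl⟩ := mem_zpowers_iff.mp hh
      rw [hc k]
      exact zpow_mem (mem_zpowers t) k
    · intro hh
      obtain ⟨k, hk⟩ := mem_zpowers_iff.mp hh
      have : h = t ^ k := by
        calc h = s⁻¹ * (s * h * s⁻¹) * s := by group
          _ = s⁻¹ * (s * t ^ k * s⁻¹) * s := by rw [← hk, hc k]
          _ = t ^ k := by group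
      rw [this]
      exact zpow_mem (mem_zpowers t) k
  have hnorm : zpowers s ≤ normalizer ((zpowers t : Subgroup G) : Set G) := by
    rw [zpowers_le]
    exact hsn
  have hH : IsPGroup 2 (zpowers s ⊔ zpowers t : Subgroup G) :=
    (hpg s hs).to_sup_of_normal_right' (hpg t ht) hnorm
  obtain ⟨Q, hQ⟩ := hH.exists_le_sylow
  obtain ⟨g, rfl⟩ := MulAction.exists_smul_eq G Q P
  exact ⟨g, ⟨s, hQ (mem_sup_left (mem_zpowers s)), rfl⟩,
    ⟨t, hQ (mem_sup_right (mem_zpowers t)), rfl⟩⟩

end conj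

section inst

variable {α : Type*} [Fintype α] [DecidableEq α]

omit [Fintype α] [DecidableEq α] in
/-- Two-transitivity of a primitive group with a point stabilizer transitive on the rest. -/
theorem two_trans_of_prim {H : Type*} [Group H] [MulAction H α] (M : Subgroup H) (x₀ : α)
    (hprim : IsPreprimitive M α)
    (h : ∀ y z, y ≠ x₀ → z ≠ x₀ → ∃ m ∈ M, m • x₀ = x₀ ∧ m • y = z) :
    ∀ x y z w : α, x ≠ y → z ≠ w → ∃ m ∈ M, m • x = z ∧ m • y = w := by
  intro x y z w hxy hzw
  obtain ⟨⟨m₁, hm₁⟩, e₁⟩ := exists_smul_eq M x x₀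
  obtain ⟨⟨m₂, hm₂⟩, e₂⟩ := exists_smul_eq M z x₀
  change m₁ • x = x₀ at e₁
  change m₂ • z = x₀ at e₂
  have hy : m₁ • y ≠ x₀ := by
    intro h'
    apply hxy
    have : m₁ • x = m₁ • y := e₁.trans h'.symm
    exact smul_left_cancel m₁ this
  have hw : m₂ • w ≠ x₀ := by
    intro h'
    apply hzw
    have : m₂ • z = m₂ • w := e₂.trans h'.symm
    exact smul_left_cancel m₂ this
  obtain ⟨m, hm, e3, e4⟩ := h (m₁ • y) (m₂ • w) hy hw
  refine ⟨m₂⁻¹ * m * m₁, M.mul_mem (M.mul_mem (M.inv_mem hm₂) hm) hm₁, ?_, ?_⟩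
  · rw [mul_smul, mul_smul, e₁, e3, ← e₂, inv_smul_smul]
  · rw [mul_smul, mul_smul, e4, inv_smul_smul]

omit [Fintype α] in
/-- The product of two of the double transpositions on four points is the third. -/
theorem klein_mul {a b c d : α} (hab : a ≠ b) (hac : a ≠ c) (had : a ≠ d) (hbc : b ≠ c)
    (hbd : b ≠ d) (hcd : c ≠ d) :
    swap a b * swap c d * (swap a c * swap b d) = swap a d * swap b c := by
  ext x
  simp only [Perm.mul_apply]
  by_cases hxa : x = a
  · rw [hxa]
    simp [swap_apply_of_ne_of_ne, hab, hac, had, hbc, hbd, hcd, hab.symm, hac.symm, had.symm,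
      hbc.symm, hbd.symm, hcd.symm]
  by_cases hxb : x = b
  · rw [hxb]
    simp [swap_apply_of_ne_of_ne, hab, hac, had, hbc, hbd, hcd, hab.symm, hac.symm, had.symm,
      hbc.symm, hbd.symm, hcd.symm]
  by_cases hxc : x = c
  · rw [hxc]
    simp [swap_apply_of_ne_of_ne, hab, hac, had, hbc, hbd, hcd, hab.symm, hac.symm, had.symm,
      hbc.symm, hbd.symm, hcd.symm]
  by_cases hxd : x = d
  · rw [hxd]
    simp [swap_apply_of_ne_of_ne, hab, hac, had, hbc, hbd, hcd, hab.symm, hac.symm, had.symm,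
      hbc.symm, hbd.symm, hcd.symm]
  simp [swap_apply_of_ne_of_ne, hxa, hxb, hxc, hxd]

omit [DecidableEq α] in
/-- Four distinct points. -/
theorem exists_four (h4 : 4 ≤ Nat.card α) :
    ∃ a b c d : α, a ≠ b ∧ a ≠ c ∧ a ≠ d ∧ b ≠ c ∧ b ≠ d ∧ c ≠ d := by
  have hu : 4 ≤ (Set.univ : Set α).ncard := by rw [Set.ncard_univ]; exact h4
  obtain ⟨a, -⟩ : (Set.univ : Set α).Nonempty := by
    rw [← Set.ncard_pos (Set.toFinite _)]
    omega
  obtain ⟨b, -, hba, -, -⟩ := exists_mem_not3 (Set.univ : Set α) hu a a a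
  obtain ⟨c, -, hca, hcb, -⟩ := exists_mem_not3 (Set.univ : Set α) hu a b b
  obtain ⟨d, -, hda, hdb, hdc⟩ := exists_mem_not3 (Set.univ : Set α) hu a b c
  exact ⟨a, b, c, d, Ne.symm hba, Ne.symm hca, Ne.symm hda, Ne.symm hcb, Ne.symm hdb,
    Ne.symm hdc⟩

/-- The symmetric group satisfies `UMHyp`. -/
theorem umHyp_perm (h5 : 5 ≤ Nat.card α) : UMHyp (Perm α) α where
  two_trans := by
    intro a b c d hab hcd
    have := Equiv.Perm.isMultiplyPretransitive α 2
    exact (is_two_pretransitive_iff.mp this) hab hcd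
  coatom := fun s h1 h2 h3 => Equiv.Perm.isCoatom_stabilizer h1 h2 h3
  even := fun σ _ => ⟨σ, fun x => rfl⟩
  prim_stab := by
    intro M s hs hstab hprim
    obtain ⟨a, b, ha, hb, hab⟩ := (Set.one_lt_ncard_iff (Set.toFinite s)).mp (by omega)
    apply Equiv.Perm.subgroup_eq_top_of_isPreprimitive_of_isSwap_mem hprim (swap a b)
      ⟨a, b, hab, rfl⟩
    apply hstab
    rw [mem_stabilizer_set' (Set.toFinite s)]
    intro x hx
    rw [Perm.smul_def]
    by_cases hxa : x = a
    · rw [hxa, swap_apply_left]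
      exact hb
    by_cases hxb : x = b
    · rw [hxb, swap_apply_right]
      exact ha
    rw [swap_apply_of_ne_of_ne hxa hxb]
    exact hx
  prim_sylow := by
    intro R M x₀ hRM hprim _ _ _
    obtain ⟨a, b, -, -, hab, -, -, -, -, -⟩ := exists_four (α := α) (by omega)
    obtain ⟨g, hg, -⟩ := exists_conj_mem_sylow_two (swap a b) (swap a b)
      (by rw [pow_two, swap_mul_self]) (by rw [pow_two, swap_mul_self]) rfl R
    apply Equiv.Perm.subgroup_eq_top_of_isPreprimitive_of_isSwap_mem hprim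
      (g * swap a b * g⁻¹) ?_ (hRM hg)
    rw [← swap_apply_apply]
    exact ⟨g a, g b, g.injective.ne hab, rfl⟩

/-- The alternating group satisfies `UMHyp`. -/
theorem umHyp_alt (h5 : 5 ≤ Nat.card α) : UMHyp (alternatingGroup α) α where
  two_trans := by
    intro a b c d hab hcd
    have := alternatingGroup.isMultiplyPretransitive α
    have h2 : IsMultiplyPretransitive (alternatingGroup α) α 2 :=
      isMultiplyPretransitive_of_le (n := Nat.card α - 2) (by omega) (Nat.sub_le _ _)
    exact (is_two_pretransitive_iff.mp h2) hab hcd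
  coatom := fun s h1 h2 h3 => alternatingGroup.isCoatom_stabilizer h1 h2 h3
  even := fun σ hσ => ⟨⟨σ, Perm.mem_alternatingGroup.mpr hσ⟩, fun x => rfl⟩
  prim_stab := by
    intro M s _ hstab hprim
    exact alternatingGroup.subgroup_eq_top_of_isPreprimitive (by omega) M hstab
  prim_sylow := by
    intro R M x₀ hRM hprim htr hodd hn
    obtain ⟨a₀, b₀, c₀, d₀, hab, hac, had, hbc, hbd, hcd⟩ := exists_four (α := α) (by omega)
    have hs1 : Perm.sign (swap a₀ b₀ * swap c₀ d₀) = 1 := by
      rw [map_mul, Perm.sign_swap hab, Perm.sign_swap hcd]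
      simp
    have hs2 : Perm.sign (swap a₀ c₀ * swap b₀ d₀) = 1 := by
      rw [map_mul, Perm.sign_swap hac, Perm.sign_swap hbd]
      simp
    have hd1 : Commute (swap a₀ b₀) (swap c₀ d₀) :=
      (Perm.disjoint_swap_swap (by simp [hab, hac, had, hbc, hbd, hcd])).commute
    have hd2 : Commute (swap a₀ c₀) (swap b₀ d₀) :=
      (Perm.disjoint_swap_swap (by simp [hab, hac, had, hbc, hbd, hcd, hbc.symm])).commute
    have hsq1 : (swap a₀ b₀ * swap c₀ d₀) ^ 2 = 1 := by
      rw [hd1.mul_pow, pow_two, pow_two, swap_mul_self, swap_mul_self, one_mul]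
    have hsq2 : (swap a₀ c₀ * swap b₀ d₀) ^ 2 = 1 := by
      rw [hd2.mul_pow, pow_two, pow_two, swap_mul_self, swap_mul_self, one_mul]
    have hcomm : (swap a₀ b₀ * swap c₀ d₀) * (swap a₀ c₀ * swap b₀ d₀) =
        (swap a₀ c₀ * swap b₀ d₀) * (swap a₀ b₀ * swap c₀ d₀) := by
      rw [klein_mul hab hac had hbc hbd hcd, klein_mul hac hab had (Ne.symm hbc) hcd hbd,
        swap_comm c₀ b₀]
    obtain ⟨g, hg1, hg2⟩ := exists_conj_mem_sylow_two
      (⟨swap a₀ b₀ * swap c₀ d₀, Perm.mem_alternatingGroup.mpr hs1⟩ : alternatingGroup α)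
      ⟨swap a₀ c₀ * swap b₀ d₀, Perm.mem_alternatingGroup.mpr hs2⟩
      (Subtype.ext hsq1) (Subtype.ext hsq2) (Subtype.ext hcomm) R
    obtain ⟨γ, hγ⟩ : ∃ γ : Perm α, γ = (g : Perm α) := ⟨_, rfl⟩
    have hmem : ∀ m : alternatingGroup α, m ∈ M →
        (m : Perm α) ∈ M.map (alternatingGroup α).subtype := fun m hm => ⟨m, hm, rfl⟩
    have h1 : swap (γ a₀) (γ b₀) * swap (γ c₀) (γ d₀) ∈ M.map (alternatingGroup α).subtype := by
      have := hmem _ (hRM hg1)
      rw [← conj_swap_mul_swap, hγ]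
      exact this
    have h2 : swap (γ a₀) (γ c₀) * swap (γ b₀) (γ d₀) ∈ M.map (alternatingGroup α).subtype := by
      have := hmem _ (hRM hg2)
      rw [← conj_swap_mul_swap, hγ]
      exact this
    have hab' := γ.injective.ne hab
    have hac' := γ.injective.ne hac
    have had' := γ.injective.ne had
    have hbc' := γ.injective.ne hbc
    have hbd' := γ.injective.ne hbd
    have hcd' := γ.injective.ne hcd
    have h3 : swap (γ a₀) (γ d₀) * swap (γ b₀) (γ c₀) ∈ M.map (alternatingGroup α).subtype := by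
      have := Subgroup.mul_mem _ h1 h2
      rwa [klein_mul hab' hac' had' hbc' hbd' hcd'] at this
    have h2t := two_trans_of_prim M x₀ hprim htr
    have h2t' : ∀ x y z w : α, x ≠ y → z ≠ w →
        ∃ m ∈ M.map (alternatingGroup α).subtype, m x = z ∧ m y = w := by
      intro x y z w hxy hzw
      obtain ⟨m, hm, e1, e2⟩ := h2t x y z w hxy hzw
      exact ⟨(m : Perm α), hmem m hm, e1, e2⟩
    obtain ⟨g₃, hg₃, h3c⟩ := exists_threeCycle_of_klein (M.map (alternatingGroup α).subtype) h2t'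
      hab' hac' had' hbc' hbd' hcd' h1 h2 h3 (by rwa [← Nat.card_eq_fintype_card])
      (by rwa [← Nat.card_eq_fintype_card])
    rw [eq_top_iff, ← Subgroup.map_subtype_le_map_subtype, ← MonoidHom.range_eq_map,
      Subgroup.range_subtype]
    apply Equiv.Perm.alternatingGroup_le_of_isPreprimitive_of_isThreeCycle_mem _ h3c hg₃
    let φ := (alternatingGroup α).subtype.subgroupMap M
    let f : α →ₑ[φ] α :=
      { toFun := id
        map_smul' := fun _ _ => rfl }
    rwa [← isPreprimitive_congr (f := f) ((alternatingGroup α).subtype.subgroupMap_surjective M)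
      Function.bijective_id]

end inst

end Cfsg.Agent.H43
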