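import Cfsg.Agent.H67.UmDefs

/-!
UM-AR1, UM-AR2A, UM-AR2D (helper43, for helper67's S2263 team project): the pure-`ℕ`
arithmetic pieces for one part, two parts of multiplicity one, and two parts with largest
multiplicity at least four.
-/

set_option autoImplicit false

namespace Cfsg.Agent.H43.Um

open Cfsg.Agent.H67.Um

theorem dvd_qn (q a : ℕ) : (q + 1) ∣ Qn q a := by
  unfold Qn
  split_ifs with h
  · obtain ⟨m, rfl⟩ := h
    have h1 : q ^ 2 - 1 ∣ (q ^ 2) ^ m - 1 ^ m := Nat.sub_dvd_pow_sub_pow (x := q ^ 2) (y := 1) (n := m)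
    have h2 : q + 1 ∣ q ^ 2 - 1 := by
      have := Nat.sq_sub_sq q 1
      rw [one_pow] at this
      rw [this]
      exact dvd_mul_right _ _
    have h3 : q ^ (m + m) = (q ^ 2) ^ m := by rw [← pow_mul]; congr 1; omega
    rw [h3]
    rw [one_pow] at h1
    exact h2.trans h1
  · have ho : Odd a := Nat.not_even_iff_odd.mp h
    have := Odd.nat_add_dvd_pow_add_pow q 1 ho
    simpa using this

theorem qn_le_succ (q a : ℕ) : Qn q a ≤ q ^ a + 1 := by
  unfold Qn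
  split_ifs <;> omega

theorem qn_le (q a : ℕ) (hq : 1 ≤ q) (ha : 1 ≤ a) : Qn q a ≤ (q + 1) * q ^ (a - 1) := by
  obtain ⟨n, rfl⟩ : ∃ n, a = n + 1 := ⟨a - 1, by omega⟩
  have h1 := qn_le_succ q (n + 1)
  have h2 : 1 ≤ q ^ n := Nat.one_le_pow _ _ hq
  simp only [Nat.add_sub_cancel]
  rw [pow_succ] at h1
  nlinarith

theorem qn_ge (q a : ℕ) (hq : 2 ≤ q) (ha : 1 ≤ a) : q + 1 ≤ Qn q a := by
  unfold Qn
  split_ifs with h
  · have ha2 : 2 ≤ a := by
      rcases h with ⟨m, rfl⟩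
      omega
    have h1 : q ^ 2 ≤ q ^ a := Nat.pow_le_pow_right (by omega) ha2
    have h2 : q + 2 ≤ q ^ 2 := by nlinarith
    omega
  · have h1 : q ^ 1 ≤ q ^ a := Nat.pow_le_pow_right (by omega) ha
    rw [pow_one] at h1
    omega

theorem qn_div_pos (q a : ℕ) (hq : 2 ≤ q) (ha : 1 ≤ a) : 1 ≤ Qn q a / (q + 1) :=
  Nat.div_pos (qn_ge q a hq ha) (by omega)

theorem qn_div_le (q a : ℕ) (hq : 1 ≤ q) (ha : 1 ≤ a) : Qn q a / (q + 1) ≤ q ^ (a - 1) :=
  Nat.div_le_of_le_mul (qn_le q a hq ha)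

theorem qn_div_lt (q a : ℕ) (hq : 2 ≤ q) (ha : 2 ≤ a) : Qn q a / (q + 1) < q ^ (a - 1) := by
  rw [Nat.div_lt_iff_lt_mul (by omega)]
  obtain ⟨n, rfl⟩ : ∃ n, a = n + 2 := ⟨a - 2, by omega⟩
  have h1 := qn_le_succ q (n + 2)
  have h2 : 2 ≤ q ^ (n + 1) := by
    calc 2 ≤ q := hq
      _ = q ^ 1 := (pow_one q).symm
      _ ≤ q ^ (n + 1) := Nat.pow_le_pow_right (by omega) (by omega)
  have h3 : q ^ (n + 2) = q ^ (n + 1) * q := pow_succ q (n + 1)
  have h4 : n + 2 - 1 = n + 1 := by omega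
  rw [h4]
  nlinarith

theorem qn_mul_le (q a b : ℕ) (hq : 1 ≤ q) (ha : 1 ≤ a) (hb : 1 ≤ b) :
    Qn q a * Qn q b ≤ (q + 1) * (q ^ (a + b - 1) + 1) := by
  obtain ⟨x, rfl⟩ : ∃ x, a = x + 1 := ⟨a - 1, by omega⟩
  obtain ⟨y, rfl⟩ : ∃ y, b = y + 1 := ⟨b - 1, by omega⟩
  have h1 := qn_le_succ q (x + 1)
  have h2 := qn_le_succ q (y + 1)
  have hX : 1 ≤ q ^ x := Nat.one_le_pow _ _ hq
  have hY : 1 ≤ q ^ y := Nat.one_le_pow _ _ hq
  have h3 : x + 1 + (y + 1) - 1 = x + y + 1 := by omega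
  rw [h3]
  have h4 : q ^ (x + y + 1) = q ^ x * q ^ y * q := by rw [pow_succ, pow_add]
  have h5 : q ^ (x + 1) = q ^ x * q := pow_succ q x
  have h6 : q ^ (y + 1) = q ^ y * q := pow_succ q y
  rw [h4]
  rw [h5] at h1
  rw [h6] at h2
  calc Qn q (x + 1) * Qn q (y + 1) ≤ (q ^ x * q + 1) * (q ^ y * q + 1) :=
        Nat.mul_le_mul h1 h2
    _ ≤ (q + 1) * (q ^ x * q ^ y * q + 1) := by
        obtain ⟨X, hX'⟩ : ∃ X, q ^ x = X + 1 := ⟨q ^ x - 1, by omega⟩
        obtain ⟨Y, hY'⟩ : ∃ Y, q ^ y = Y + 1 := ⟨q ^ y - 1, by omega⟩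
        rw [hX', hY']
        have : 0 ≤ X * Y * q := Nat.zero_le _
        nlinarith

theorem qn_mul_le_odd_aux (q a b : ℕ) (hq : 2 ≤ q) (ha : Even a) (ha1 : 1 ≤ a) (hb : Odd b) :
    Qn q a * Qn q b + (q + 1) ≤ (q + 1) * q ^ (a + b - 1) := by
  have hb' : ¬ Even b := Nat.not_even_iff_odd.mpr hb
  obtain ⟨y, rfl⟩ : ∃ y, b = y + 1 := ⟨b - 1, by rcases hb with ⟨m, rfl⟩; omega⟩
  unfold Qn
  rw [if_pos ha, if_neg hb']
  have hA : 1 ≤ q ^ a := Nat.one_le_pow _ _ (by omega)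
  have hY : 1 ≤ q ^ y := Nat.one_le_pow _ _ (by omega)
  obtain ⟨A, hA'⟩ : ∃ A, q ^ a = A + 1 := ⟨q ^ a - 1, by omega⟩
  have h3 : a + (y + 1) - 1 = a + y := by omega
  rw [h3, pow_add q a y, pow_succ q y, hA']
  simp only [Nat.add_sub_cancel]
  obtain ⟨Y, hY'⟩ : ∃ Y, q ^ y = Y + 1 := ⟨q ^ y - 1, by omega⟩
  rw [hY']
  have : 0 ≤ A * Y := Nat.zero_le _
  nlinarith

theorem qn_mul_le_odd (q a b : ℕ) (hq : 2 ≤ q) (ha : 1 ≤ a) (hb : 1 ≤ b) (hodd : Odd (a + b)) :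
    Qn q a * Qn q b + (q + 1) ≤ (q + 1) * q ^ (a + b - 1) := by
  rcases Nat.even_or_odd a with hae | hao
  · have hbo : Odd b := by
      rcases Nat.even_or_odd b with hbe | hbo
      · exact absurd (hae.add hbe) (Nat.not_even_iff_odd.mpr hodd)
      · exact hbo
    exact qn_mul_le_odd_aux q a b hq hae ha hbo
  · have hbe : Even b := by
      rcases Nat.even_or_odd b with hbe | hbo
      · exact hbe
      · exact absurd (hao.add_odd hbo) (Nat.not_even_iff_odd.mpr hodd)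
    have := qn_mul_le_odd_aux q b a hq hbe hb hao
    rw [mul_comm (Qn q a), add_comm a b]
    exact this

theorem two_le_q (p f : ℕ) (hp : p.Prime) (hf : 1 ≤ f) : 2 ≤ p ^ f := by
  calc 2 ≤ p := hp.two_le
    _ = p ^ 1 := (pow_one p).symm
    _ ≤ p ^ f := Nat.pow_le_pow_right hp.pos hf

/-- `tgt + 1 ≥ q ^ (d - 1)`. -/
theorem tgt_ge1 (p f d : ℕ) (hp : p.Prime) (hf : 1 ≤ f) (hd : 3 ≤ d) :
    (p ^ f) ^ (d - 1) ≤ tgt p f d + 1 := by
  have hq := two_le_q p f hp hf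
  unfold tgt
  split_ifs with h1 h2 h3
  · omega
  · have hf1 : f = 1 := by omega
    subst hf1
    rw [pow_one]
    have : p ^ (d - 1) = p ^ (d - 2) * p := by
      rw [← pow_succ]; congr 1; omega
    rw [this]
    nlinarith [Nat.zero_le (p ^ (d - 2))]
  · omega
  · have hq2 : p ^ f = 2 := by omega
    rw [hq2]
    have : (2 : ℕ) ^ (d - 1) = 4 * 2 ^ (d - 3) := by
      have : d - 1 = (d - 3) + 2 := by omega
      rw [this, pow_add]; ring
    omega

/-- `tgt ≥ q ^ (d - 1) + 1` for even `d`. -/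
theorem tgt_ge_even (p f d : ℕ) (hp : p.Prime) (hf : 1 ≤ f) (hd : 3 ≤ d) (he : ¬ Odd d) :
    (p ^ f) ^ (d - 1) + 1 ≤ tgt p f d := by
  have hq := two_le_q p f hp hf
  unfold tgt
  rw [if_neg he]
  split_ifs with h3
  · omega
  · have hq2 : p ^ f = 2 := by omega
    rw [hq2]
    have : (2 : ℕ) ^ (d - 1) = 4 * 2 ^ (d - 3) := by
      have : d - 1 = (d - 3) + 2 := by omega
      rw [this, pow_add]; ring
    omega

/-- `tgt ≥ p ^ (d - 1)`. -/
theorem tgt_ge_p (p f d : ℕ) (hp : p.Prime) (hf : 1 ≤ f) (hd : 3 ≤ d) :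
    p ^ (d - 1) ≤ tgt p f d := by
  have hq := two_le_q p f hp hf
  have hp2 := hp.two_le
  have h1 := tgt_ge1 p f d hp hf hd
  by_cases hc : Odd d ∧ 2 ≤ f
  · -- `(p^f)^(d-1) ≥ 2 * p^(d-1)`
    have h2 : p * 2 ≤ p ^ f := by
      calc p * 2 ≤ p * p := Nat.mul_le_mul_left p hp2
        _ = p ^ 2 := (sq p).symm
        _ ≤ p ^ f := Nat.pow_le_pow_right hp.pos hc.2
    have h3 : (p * 2) ^ (d - 1) ≤ (p ^ f) ^ (d - 1) := Nat.pow_le_pow_left h2 _
    rw [mul_pow] at h3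
    have h4 : 2 ≤ 2 ^ (d - 1) := by
      calc 2 = 2 ^ 1 := (pow_one 2).symm
        _ ≤ 2 ^ (d - 1) := Nat.pow_le_pow_right (by norm_num) (by omega)
    have h5 : 1 ≤ p ^ (d - 1) := Nat.one_le_pow _ _ hp.pos
    nlinarith
  · have h2 : p ^ (d - 1) ≤ (p ^ f) ^ (d - 1) := by
      apply Nat.pow_le_pow_left
      calc p = p ^ 1 := (pow_one p).symm
        _ ≤ p ^ f := Nat.pow_le_pow_right hp.pos hf
    by_cases ho : Odd d
    · have hf1 : f = 1 := by
        by_contra hne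
        exact hc ⟨ho, by omega⟩
      subst hf1
      unfold tgt
      rw [if_pos ho, if_neg (by omega)]
      have : p ^ (d - 1) = p ^ (d - 2) * p := by
        rw [← pow_succ]; congr 1; omega
      rw [this]
      nlinarith [Nat.zero_le (p ^ (d - 2))]
    · have := tgt_ge_even p f d hp hf hd ho
      omega

theorem le_two_pow_pred (k : ℕ) (hk : 1 ≤ k) : k ≤ 2 ^ (k - 1) := by
  have := Nat.lt_two_pow_self (n := k - 1)
  omega

theorem le_p_pow (p k t : ℕ) (hp : 2 ≤ p) (h : k ≤ 2 ^ t) : k ≤ p ^ t :=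
  h.trans (Nat.pow_le_pow_left hp t)

/-- UM-AR1. -/
theorem ar1 : StAr1 := by
  intro p f d a k hp hf hd _ ha hk hak
  have hq := two_le_q p f hp hf
  have hp2 := hp.two_le
  have hT1 := tgt_ge1 p f d hp hf hd
  by_cases hk1 : k = 1
  · -- one part of multiplicity one
    subst hk1
    rw [mul_one] at hak
    subst hak
    refine ⟨0, by simp, ?_, ?_⟩
    · simpa using qn_div_pos (p ^ f) a hq ha
    · have := qn_div_lt (p ^ f) a hq (by omega)
      simp only [pow_zero, mul_one]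
      omega
  by_cases ha1 : a = 1
  · subst ha1
    rw [one_mul] at hak
    subst hak
    refine ⟨k - 1, le_p_pow p k (k - 1) hp2 (le_two_pow_pred k hk), ?_, ?_⟩
    · have h1 : 1 ≤ Qn (p ^ f) 1 / (p ^ f + 1) := qn_div_pos (p ^ f) 1 hq le_rfl
      have h2 : 1 ≤ p ^ (k - 1) := Nat.one_le_pow _ _ hp.pos
      exact Nat.mul_le_mul h1 h2
    · have h1 : Qn (p ^ f) 1 / (p ^ f + 1) = 1 := by
        have : Qn (p ^ f) 1 = p ^ f + 1 := by
          unfold Qn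
          rw [if_neg (by decide)]
          simp
        rw [this]
        exact Nat.div_self (by omega)
      rw [h1, one_mul]
      exact tgt_ge_p p f k hp hf hd
  · -- both at least two
    have ha2 : 2 ≤ a := by omega
    have hk2 : 2 ≤ k := by omega
    refine ⟨k - 1, le_p_pow p k (k - 1) hp2 (le_two_pow_pred k hk), ?_, ?_⟩
    · have h1 : 1 ≤ Qn (p ^ f) a / (p ^ f + 1) := qn_div_pos (p ^ f) a hq ha
      have h2 : 1 ≤ p ^ (k - 1) := Nat.one_le_pow _ _ hp.pos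
      exact Nat.mul_le_mul h1 h2
    · have h1 := qn_div_le (p ^ f) a (by omega) ha
      have h2 : p ^ (k - 1) ≤ (p ^ f) ^ (k - 1) := by
        apply Nat.pow_le_pow_left
        calc p = p ^ 1 := (pow_one p).symm
          _ ≤ p ^ f := Nat.pow_le_pow_right hp.pos hf
      have h3 : Qn (p ^ f) a / (p ^ f + 1) * p ^ (k - 1) ≤ (p ^ f) ^ (a - 1) * (p ^ f) ^ (k - 1) :=
        Nat.mul_le_mul h1 h2
      rw [← pow_add] at h3
      have h4 : a - 1 + (k - 1) ≤ d - 2 := by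
        have : a + k ≤ a * k := by nlinarith
        omega
      have h5 : (p ^ f) ^ (a - 1 + (k - 1)) ≤ (p ^ f) ^ (d - 2) :=
        Nat.pow_le_pow_right (by omega) h4
      have h6 : (p ^ f) ^ (d - 2) + 1 ≤ (p ^ f) ^ (d - 1) := by
        have : (p ^ f) ^ (d - 1) = (p ^ f) ^ (d - 2) * p ^ f := by
          rw [← pow_succ]; congr 1; omega
        rw [this]
        have : 1 ≤ (p ^ f) ^ (d - 2) := Nat.one_le_pow _ _ (by omega)
        nlinarith
      omega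

/-- The common choice of `L` for two parts. -/
theorem two_parts_L (q a b : ℕ) (hq : 2 ≤ q) (ha : 1 ≤ a) (hb : 1 ≤ b) :
    ∃ L, 1 ≤ L ∧ Qn q a ∣ L ∧ Qn q b ∣ L ∧ L * (q + 1) = Qn q a * Qn q b := by
  obtain ⟨c, hc⟩ := dvd_qn q a
  obtain ⟨e, he⟩ := dvd_qn q b
  have hc1 : 1 ≤ c := by
    have := qn_ge q a hq ha
    rcases Nat.eq_zero_or_pos c with h0 | h0
    · rw [h0, mul_zero] at hc; omega
    · exact h0
  have he1 : 1 ≤ e := by
    have := qn_ge q b hq hb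
    rcases Nat.eq_zero_or_pos e with h0 | h0
    · rw [h0, mul_zero] at he; omega
    · exact h0
  refine ⟨(q + 1) * c * e, ?_, ?_, ?_, ?_⟩
  · have : 1 ≤ (q + 1) * c := Nat.mul_pos (by omega) hc1
    exact Nat.mul_pos this he1
  · rw [hc]; exact dvd_mul_right _ _
  · rw [he]; exact ⟨c, by ring⟩
  · rw [hc, he]; ring

/-- UM-AR2A. -/
theorem ar2a : StAr2a := by
  intro p f d a b hp hf hd _ ha hb hab
  have hq := two_le_q p f hp hf
  have hT1 := tgt_ge1 p f d hp hf hd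
  obtain ⟨L, hL1, hLa, hLb, hL⟩ := two_parts_L (p ^ f) a b hq ha hb
  refine ⟨L, 0, hL1, hLa, hLb, by simp, by simp, ?_⟩
  simp only [pow_zero, mul_one]
  by_cases hodd : Odd d
  · have h1 := qn_mul_le_odd (p ^ f) a b hq ha hb (hab ▸ hodd)
    rw [← hL, hab] at h1
    have h2 : L + 1 ≤ (p ^ f) ^ (d - 1) := by
      have : (L + 1) * (p ^ f + 1) ≤ (p ^ f) ^ (d - 1) * (p ^ f + 1) := by nlinarith
      exact Nat.le_of_mul_le_mul_right this (by omega)
    omega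
  · have h1 := qn_mul_le (p ^ f) a b (by omega) ha hb
    rw [← hL, hab] at h1
    have h2 : L ≤ (p ^ f) ^ (d - 1) + 1 := by
      have : L * (p ^ f + 1) ≤ ((p ^ f) ^ (d - 1) + 1) * (p ^ f + 1) := by nlinarith
      exact Nat.le_of_mul_le_mul_right this (by omega)
    have := tgt_ge_even p f d hp hf hd hodd
    omega

theorem le_two_pow_sub_two (K : ℕ) (hK : 4 ≤ K) : K ≤ 2 ^ (K - 2) := by
  obtain ⟨n, rfl⟩ : ∃ n, K = n + 4 := ⟨K - 4, by omega⟩
  have h1 := Nat.lt_two_pow_self (n := n)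
  have h2 : n + 4 - 2 = n + 2 := by omega
  rw [h2, pow_add]
  omega

/-- UM-AR2D. -/
theorem ar2d : StAr2d := by
  intro p f d a k b m hp hf hd _ ha hk hb hm hsum hmax
  have hq := two_le_q p f hp hf
  have hp2 := hp.two_le
  have hT1 := tgt_ge1 p f d hp hf hd
  obtain ⟨L, hL1, hLa, hLb, hL⟩ := two_parts_L (p ^ f) a b hq ha hb
  set K := max k m with hKdef
  have hkK : k ≤ K := le_max_left _ _
  have hmK : m ≤ K := le_max_right _ _
  have hKp : K ≤ p ^ (K - 2) := le_p_pow p K (K - 2) hp2 (le_two_pow_sub_two K hmax)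
  refine ⟨L, K - 2, hL1, hLa, hLb, hkK.trans hKp, hmK.trans hKp, ?_⟩
  -- exponent bookkeeping
  have hexp : a + b + K ≤ d + 1 ∧ K + 1 ≤ d := by
    rcases max_cases k m with ⟨h1, _⟩ | ⟨h1, _⟩
    · have hK : K = k := h1
      have h2 : b ≤ b * m := Nat.le_mul_of_pos_right b hm
      have h3 : a + k ≤ a * k + 1 := by nlinarith
      have h4 : k ≤ a * k := Nat.le_mul_of_pos_left k ha
      have h5 : 1 ≤ b * m := Nat.mul_pos hb hm
      constructor <;> omega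
    · have hK : K = m := h1
      have h2 : a ≤ a * k := Nat.le_mul_of_pos_right a hk
      have h3 : b + m ≤ b * m + 1 := by nlinarith
      have h4 : m ≤ b * m := Nat.le_mul_of_pos_left m hb
      have h5 : 1 ≤ a * k := Nat.mul_pos ha hk
      constructor <;> omega
  have h1 := qn_mul_le (p ^ f) a b (by omega) ha hb
  rw [← hL] at h1
  have h2 : L ≤ (p ^ f) ^ (a + b - 1) + 1 := by
    have : L * (p ^ f + 1) ≤ ((p ^ f) ^ (a + b - 1) + 1) * (p ^ f + 1) := by nlinarith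
    exact Nat.le_of_mul_le_mul_right this (by omega)
  have h3 : p ^ (K - 2) ≤ (p ^ f) ^ (K - 2) := by
    apply Nat.pow_le_pow_left
    calc p = p ^ 1 := (pow_one p).symm
      _ ≤ p ^ f := Nat.pow_le_pow_right hp.pos hf
  have h4 : L * p ^ (K - 2) ≤ ((p ^ f) ^ (a + b - 1) + 1) * (p ^ f) ^ (K - 2) :=
    Nat.mul_le_mul h2 h3
  have h5 : ((p ^ f) ^ (a + b - 1) + 1) * (p ^ f) ^ (K - 2) =
      (p ^ f) ^ (a + b - 1 + (K - 2)) + (p ^ f) ^ (K - 2) := by
    rw [add_mul, one_mul, ← pow_add]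
  have h6 : (p ^ f) ^ (a + b - 1 + (K - 2)) ≤ (p ^ f) ^ (d - 2) :=
    Nat.pow_le_pow_right (by omega) (by omega)
  have h7 : (p ^ f) ^ (K - 2) ≤ (p ^ f) ^ (d - 3) :=
    Nat.pow_le_pow_right (by omega) (by omega)
  have h8 : (p ^ f) ^ (d - 2) + (p ^ f) ^ (d - 3) + 1 ≤ (p ^ f) ^ (d - 1) := by
    have e1 : (p ^ f) ^ (d - 1) = (p ^ f) ^ (d - 2) * p ^ f := by
      rw [← pow_succ]; congr 1; omega
    have e2 : (p ^ f) ^ (d - 2) = (p ^ f) ^ (d - 3) * p ^ f := by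
      rw [← pow_succ]; congr 1; omega
    have e3 : 1 ≤ (p ^ f) ^ (d - 3) := Nat.one_le_pow _ _ (by omega)
    rw [e1, e2]
    generalize (p ^ f) ^ (d - 3) = Z at e3 ⊢
    have e4 : Z * 2 ≤ Z * p ^ f := Nat.mul_le_mul_left Z hq
    have e5 : Z * p ^ f * 2 ≤ Z * p ^ f * p ^ f := Nat.mul_le_mul_left (Z * p ^ f) hq
    omega
  omega

example : Cfsg.Agent.H67.Um.StAr1 := ar1
example : Cfsg.Agent.H67.Um.StAr2a := ar2a
example : Cfsg.Agent.H67.Um.StAr2d := ar2d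

end Cfsg.Agent.H43.Um

#print axioms Cfsg.Agent.H43.Um.ar1
#print axioms Cfsg.Agent.H43.Um.ar2a
#print axioms Cfsg.Agent.H43.Um.ar2d
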